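import Groth.Agent.Lib.Hens.IndEtale
import Groth.Agent.Lib.Hens.Transfer
import Mathlib.RingTheory.Etale.Basic
import Mathlib.RingTheory.Unramified.Field
import Mathlib.FieldTheory.SeparableClosure
import Mathlib.FieldTheory.IntermediateField.Adjoin.Basic

/-!
# Strict henselizations of discrete valuation rings
-/

set_option autoImplicit false
set_option linter.style.haveILetI false

universe u

open IsLocalRing TensorProduct

namespace Groth.Agent.EtRamH7

theorem dvr_strictHenselization (A S : Type u) [CommRing A] [IsDomain A] [IsDiscreteValuationRing A]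
    [CommRing S] [IsLocalRing S] [Algebra A S] [IsLocalHom (algebraMap A S)]
    [Hensel.IsStrictHenselization A S] : ∃ _ : IsDomain S, IsDiscreteValuationRing S := by
  haveI := Hens.strictHenselization_flat A S
  haveI := Hens.strictHenselization_isNoetherianRing A S
  have h : ∃ _ : IsDomain A, IsDiscreteValuationRing A := ⟨inferInstance, inferInstance⟩
  simp only [Hens.isDiscreteValuationRing_iff_regular_dim_one, Hens.strictHenselization_ringKrullDim A S,
    ← RegLoc.isRegularLocalRing_iff_of_map_maximalIdeal (Hens.strictHenselization_map_maximalIdeal A S)] at h ⊢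
  exact h

theorem isSeparable_of_mem_range (K K' T : Type u) [Field K] [Field K'] [Algebra K K'] [CommRing T] [Algebra K T]
    [Algebra.Etale K T] (φ : T →ₐ[K] K') (t : T) : IsSeparable K (φ t) := by
  haveI : Module.Finite K T := Algebra.FormallyUnramified.finite_of_free K T
  haveI : Algebra.IsIntegral K T := Algebra.IsIntegral.of_finite K T
  haveI : (RingHom.ker φ).IsPrime := RingHom.ker_isPrime φ
  haveI : (RingHom.ker φ).IsMaximal := by
    refine Ideal.isMaximal_of_isIntegral_of_isMaximal_comap (R := K) _ ?_
    haveI : ((RingHom.ker φ).comap (algebraMap K T)).IsPrime := inferInstance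
    exact Ideal.IsPrime.isMaximal' inferInstance
  letI := Ideal.Quotient.field (RingHom.ker φ)
  haveI : Algebra.FormallyUnramified K (T ⧸ RingHom.ker φ) :=
    Algebra.FormallyUnramified.of_surjective (Ideal.Quotient.mkₐ K _) Ideal.Quotient.mk_surjective
  haveI : Module.Finite K (T ⧸ RingHom.ker φ) := inferInstance
  haveI : Algebra.IsSeparable K (T ⧸ RingHom.ker φ) :=
    Algebra.FormallyUnramified.isSeparable K (T ⧸ RingHom.ker φ)
  let f : (T ⧸ RingHom.ker φ) →ₐ[K] K' := Ideal.Quotient.liftₐ (RingHom.ker φ) φ fun a ha => ha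
  have hf : Function.Injective f := RingHom.injective f.toRingHom
  have h := IsSeparable.map f hf (Algebra.IsSeparable.isSeparable K (Ideal.Quotient.mk (RingHom.ker φ) t))
  have he : f (Ideal.Quotient.mk (RingHom.ker φ) t) = φ t := Ideal.Quotient.lift_mk _ _ _
  rw [he] at h
  exact h

theorem isSeparable_algHom_etale (A K K' T : Type u) [CommRing A] [Field K] [Field K'] [Algebra A K] [Algebra K K']
    [Algebra A K'] [IsScalarTower A K K'] [CommRing T] [Algebra A T] [Algebra.Etale A T] (ψ : T →ₐ[A] K') (t : T) :
    IsSeparable K (ψ t) := by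
  have h := isSeparable_of_mem_range K K' (K ⊗[A] T)
    (Algebra.TensorProduct.lift (Algebra.ofId K K') ψ fun _ _ => Commute.all _ _) (1 ⊗ₜ t)
  rwa [Algebra.TensorProduct.lift_tmul, map_one, one_mul] at h

/-- The fraction field of a strict henselization is separable over the fraction field. -/
theorem isSeparable_strictHenselization (A S K K' : Type u) [CommRing A] [IsLocalRing A] [CommRing S]
    [IsLocalRing S] [Algebra A S] [IsLocalHom (algebraMap A S)] [Hensel.IsStrictHenselization A S]
    [Field K] [Algebra A K] [Field K'] [Algebra S K'] [IsFractionRing S K'] [Algebra K K'] [Algebra A K']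
    [IsScalarTower A K K'] [IsScalarTower A S K'] : Algebra.IsSeparable K K' := by
  obtain ⟨e⟩ := Hens.exists_strictHenselization_equiv A S
  have hS : ∀ x : S, IsSeparable K (algebraMap S K' x) := by
    intro x
    obtain ⟨i, y, hy⟩ := Hens.EtNbhd.exists_toHs (e.symm x)
    have h := isSeparable_algHom_etale A K K' i.toNbhd.S
      ((IsScalarTower.toAlgHom A S K').comp ((e.toAlgHom).comp i.toHs)) y
    have hx : ((IsScalarTower.toAlgHom A S K').comp ((e.toAlgHom).comp i.toHs)) y = algebraMap S K' x := by
      show algebraMap S K' (e (i.toHs y)) = _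
      rw [hy, AlgEquiv.apply_symm_apply]
    rwa [hx] at h
  refine ⟨fun z => ?_⟩
  obtain ⟨a, b, -, rfl⟩ := IsFractionRing.div_surjective S z
  rw [div_eq_mul_inv]
  exact Field.isSeparable_mul (hS a) (Field.isSeparable_inv (hS b))

theorem adjoin_range_codRestrict_eq_top {F Ω : Type u} [Field F] [Field Ω] [Algebra F Ω] {X : Type u}
    (f : X → Ω) (E : IntermediateField F Ω) (hE : E = IntermediateField.adjoin F (Set.range f))
    (hint : ∀ x, IsIntegral F (f x)) (g : X → E) (hg : ∀ x, (g x : Ω) = f x) :
    Algebra.adjoin F (Set.range g) = ⊤ := by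
  refine Subalgebra.map_injective (f := E.val) Subtype.val_injective ?_
  rw [AlgHom.map_adjoin, ← Set.range_comp, Algebra.map_top]
  have : (E.val : E → Ω) ∘ g = f := funext hg
  rw [this, ← IntermediateField.adjoin_toSubalgebra_of_isAlgebraic]
  · rw [IntermediateField.range_val, hE]
  · rintro _ ⟨x, rfl⟩
    exact (hint x).isAlgebraic

/-- A field generated by a finite extension is finite. -/
theorem finite_of_adjoin_eq_top (K L E M : Type u) [Field K] [Field L] [Field E] [Field M] [Algebra K L]
    [Algebra K E] [Algebra K M] [Algebra L M] [Algebra E M] [IsScalarTower K L M] [IsScalarTower K E M]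
    [FiniteDimensional K E] (hgen : Algebra.adjoin L (Set.range (algebraMap E M)) = ⊤) :
    FiniteDimensional L M := by
  let ψ : L ⊗[K] E →ₐ[L] M := Algebra.TensorProduct.lift (Algebra.ofId L M)
    (IsScalarTower.toAlgHom K E M) (fun _ _ => Commute.all _ _)
  refine Module.Finite.of_surjective ψ.toLinearMap fun m => ?_
  have hle : Algebra.adjoin L (Set.range (algebraMap E M)) ≤ ψ.range :=
    Algebra.adjoin_le (by rintro _ ⟨k, rfl⟩; exact ⟨1 ⊗ₜ k, by simp [ψ]⟩)
  exact (hle (by rw [hgen]; trivial) : m ∈ ψ.range)

theorem finite_of_adjoin_eq_top' (K L E M : Type u) [Field K] [Field L] [Field E] [Field M] [Algebra K L]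
    [Algebra K E] [Algebra K M] [Algebra L M] [IsScalarTower K L M] [FiniteDimensional K E] (ι : E →ₐ[K] M)
    (hgen : Algebra.adjoin L (Set.range ι) = ⊤) : FiniteDimensional L M := by
  letI : Algebra E M := ι.toRingHom.toAlgebra
  haveI : IsScalarTower K E M := IsScalarTower.of_algebraMap_eq fun x => (ι.commutes x).symm
  exact finite_of_adjoin_eq_top K L E M hgen

end Groth.Agent.EtRamH7
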