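import Groth.Prelude.Def_EtRam
import Groth.Agent.Lib.KrullAkizuki.Basic
import Mathlib.RingTheory.Valuation.LocalSubring
import Mathlib.RingTheory.DiscreteValuationRing.TFAE
import Mathlib.RingTheory.Valuation.ValuationRing
import Mathlib.RingTheory.PrincipalIdealDomain
import Mathlib.FieldTheory.SeparableDegree
import Mathlib.Algebra.CharP.Algebra

/-!
# Valuation subrings dominating a DVR: existence, discreteness, multiplicativity
-/

universe u

open IsLocalRing

namespace Groth.Agent.EtRamH7

variable {A : Type u} [CommRing A] [IsLocalRing A] {F M : Type u} [Field F] [Field M]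

/-- The map of a dominating valuation subring is local. -/
theorem isLocalHom_cod {g : A →+* F} {V : ValuationSubring F} (h : EtRam.Dominates A g V) :
    IsLocalHom (RingHom.codRestrict g V h.1) := by
  constructor
  intro a ha
  by_contra hna
  have h1 := h.2 a ((mem_maximalIdeal a).2 hna)
  have h2 : RingHom.codRestrict g V h.1 a ∈ maximalIdeal V := (V.valuation_lt_one_iff _).2 h1
  exact (mem_maximalIdeal _).1 h2 ha

theorem dominates_comap {g : A →+* F} (f : F →+* M) {W : ValuationSubring M}
    (h : EtRam.Dominates A (f.comp g) W) : EtRam.Dominates A g (W.comap f) := by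
  refine ⟨fun a => h.1 a, fun a ha => ?_⟩
  have hmem : g a ∈ W.comap f := h.1 a
  show (W.comap f).valuation ((⟨g a, hmem⟩ : W.comap f) : F) < 1
  rw [← ValuationSubring.valuation_lt_one_iff, mem_maximalIdeal]
  intro hu
  have hu' := hu.map (EtRam.inclOfComap W f)
  have h2 : EtRam.inclOfComap W f ⟨g a, hmem⟩ ∈ maximalIdeal W :=
    (W.valuation_lt_one_iff _).2 (h.2 a ha)
  exact (mem_maximalIdeal _).1 h2 hu'

theorem dominates_self_comap (f : F →+* M) (W : ValuationSubring M) :
    EtRam.Dominates (W.comap f) (f.comp (W.comap f).subtype) W := by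
  refine ⟨fun x => x.2, fun x hx => ?_⟩
  have h2 : EtRam.inclOfComap W f x ∈ maximalIdeal W := by
    rw [mem_maximalIdeal] at hx ⊢
    exact fun hu => hx ((EtRam.isLocalHom_inclOfComap W f).map_nonunit x hu)
  exact (W.valuation_lt_one_iff _).1 h2

theorem dominates_trans {g : A →+* F} {V : ValuationSubring F} (hV : EtRam.Dominates A g V)
    (f : F →+* M) {W : ValuationSubring M} (hW : EtRam.Dominates V (f.comp V.subtype) W) :
    EtRam.Dominates A (f.comp g) W := by
  refine ⟨fun a => hW.1 ⟨g a, hV.1 a⟩, fun a ha => ?_⟩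
  exact hW.2 ⟨g a, hV.1 a⟩ ((V.valuation_lt_one_iff _).2 (hV.2 a ha))

/-- Chevalley: valuation subrings extend along field extensions. -/
theorem exists_comap_eq (f : F →+* M) (V : ValuationSubring F) :
    ∃ W : ValuationSubring M, W.comap f = V := by
  let A' : Subring M := V.toSubring.map f
  let e : V →+* A' :=
    RingHom.codRestrict (f.comp V.subtype) A' fun x => ⟨x.1, x.2, rfl⟩
  have hesurj : Function.Surjective e := by
    rintro ⟨_, x, hx, rfl⟩
    exact ⟨⟨x, hx⟩, rfl⟩
  have heinj : Function.Injective e := fun a b h => by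
    have h1 : f a.1 = f b.1 := congrArg Subtype.val h
    exact Subtype.ext (f.injective h1)
  have hne : (maximalIdeal V).map e ≠ ⊤ := fun h => (maximalIdeal.isMaximal V).ne_top (by
    rw [← Ideal.comap_map_of_bijective e ⟨heinj, hesurj⟩ (I := maximalIdeal V), h, Ideal.comap_top])
  obtain ⟨W, hAW, hW⟩ := Ideal.image_subset_nonunits_valuationSubring _ hne
  refine ⟨W, ?_⟩
  ext x
  refine ⟨fun hx => ?_, fun hx => hAW ⟨x, hx, rfl⟩⟩
  by_contra hxV
  have hx0 : x ≠ 0 := fun h => hxV (h ▸ V.zero_mem)
  have hinv : x⁻¹ ∈ V := (V.mem_or_inv_mem x).resolve_left hxV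
  have hm : (⟨x⁻¹, hinv⟩ : V) ∈ maximalIdeal V := by
    rw [mem_maximalIdeal]
    intro hu
    obtain ⟨y, hy⟩ := hu.exists_right_inv
    have h1 : x⁻¹ * (y : F) = 1 := congrArg Subtype.val hy
    exact hxV (by rw [← eq_inv_of_mul_eq_one_right h1 |>.trans (inv_inv x)]; exact y.2)
  have h1 : f x⁻¹ ∈ W.nonunits := hW ⟨e ⟨x⁻¹, hinv⟩, Ideal.mem_map_of_mem _ hm, rfl⟩
  rw [map_inv₀, ValuationSubring.inv_mem_nonunits_iff] at h1
  rcases h1 with h1 | h1
  · exact hx0 ((map_eq_zero f).1 h1)
  · exact h1 hx

section DVR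

variable (A : Type u) [CommRing A] [IsDomain A] [IsDiscreteValuationRing A]
    (K L : Type u) [Field K] [Field L] [Algebra A K] [IsFractionRing A K] [Algebra K L]
    [FiniteDimensional K L]

/-- A valuation subring dominating a DVR in a finite extension of the fraction field is a DVR. -/
theorem dvr_of_dominates (g : A →+* L) (hg : g = (algebraMap K L).comp (algebraMap A K))
    (V : ValuationSubring L) (h : EtRam.Dominates A g V) : IsDiscreteValuationRing V := by
  subst hg
  letI : Algebra A L := ((algebraMap K L).comp (algebraMap A K)).toAlgebra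
  haveI : IsScalarTower A K L := IsScalarTower.of_algebraMap_eq fun _ => rfl
  letI : Algebra A V := (RingHom.codRestrict _ V h.1).toAlgebra
  haveI : IsScalarTower A V L := IsScalarTower.of_algebraMap_eq fun _ => rfl
  haveI : IsNoetherianRing V :=
    Groth.Agent.KrullAkizuki.isNoetherianRing_of_between A K L V Subtype.val_injective
  haveI : IsPrincipalIdealRing V := ((IsBezout.TFAE (R := V)).out 0 1).mp ‹_›
  obtain ⟨π, hπ⟩ := IsDiscreteValuationRing.exists_irreducible A
  refine { not_a_field' := fun hbot => ?_ }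
  have hm : algebraMap A V π ∈ maximalIdeal V :=
    (V.valuation_lt_one_iff _).2 (h.2 π ((mem_maximalIdeal π).2 hπ.not_isUnit))
  rw [hbot, Ideal.mem_bot] at hm
  have h0 : algebraMap K L (algebraMap A K π) = 0 := congrArg Subtype.val hm
  exact hπ.ne_zero ((map_eq_zero_iff _ (IsFractionRing.injective A K)).1
    ((map_eq_zero (algebraMap K L)).1 h0))

omit [IsDiscreteValuationRing A] in
theorem injective_cod (g : A →+* L) (hg : g = (algebraMap K L).comp (algebraMap A K))
    (V : ValuationSubring L) (h : ∀ a, g a ∈ V) : Function.Injective (RingHom.codRestrict g V h) := by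
  intro a b hab
  have h1 : g a = g b := congrArg Subtype.val hab
  subst hg
  exact IsFractionRing.injective A K ((algebraMap K L).injective h1)

end DVR

section Ram

variable (R S T : Type u) [CommRing R] [IsDomain R] [IsDiscreteValuationRing R]
    [CommRing S] [IsDomain S] [IsDiscreteValuationRing S] [Algebra R S]

theorem map_maximalIdeal_eq_pow (hinj : Function.Injective (algebraMap R S)) :
    (maximalIdeal R).map (algebraMap R S) =
      maximalIdeal S ^ Ideal.ramificationIdx' (maximalIdeal R) (maximalIdeal S) := by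
  obtain ⟨ϖ, hϖ⟩ := IsDiscreteValuationRing.exists_irreducible S
  have hne : (maximalIdeal R).map (algebraMap R S) ≠ ⊥ := fun h =>
    IsDiscreteValuationRing.not_a_field R ((Ideal.map_eq_bot_iff_of_injective hinj).1 h)
  obtain ⟨n, hn⟩ := IsDiscreteValuationRing.ideal_eq_span_pow_irreducible hne hϖ
  rw [← Ideal.span_singleton_pow, ← hϖ.maximalIdeal_eq] at hn
  rw [Ideal.ramificationIdx'_spec hn.le ?_]
  · exact hn
  rw [hn, hϖ.maximalIdeal_eq, Ideal.span_singleton_pow, Ideal.span_singleton_pow,
    Ideal.span_singleton_le_span_singleton]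
  rintro ⟨c, hc⟩
  have h0 : ϖ ^ n ≠ 0 := pow_ne_zero _ hϖ.ne_zero
  rw [pow_succ, mul_assoc] at hc
  exact hϖ.not_isUnit (IsUnit.of_mul_eq_one c (mul_left_cancel₀ h0 (by rw [mul_one]; exact hc.symm)))

theorem weaklyUnramified_iff (hinj : Function.Injective (algebraMap R S)) :
    EtRam.IsWeaklyUnramified R S ↔ Ideal.ramificationIdx' (maximalIdeal R) (maximalIdeal S) = 1 := by
  have h := map_maximalIdeal_eq_pow R S hinj
  refine ⟨fun hw => ?_, fun he => ?_⟩
  · refine Ideal.ramificationIdx'_spec (by rw [pow_one]; exact hw.le) ?_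
    rw [hw]
    intro hle
    obtain ⟨ϖ, hϖ⟩ := IsDiscreteValuationRing.exists_irreducible S
    rw [hϖ.maximalIdeal_eq, Ideal.span_singleton_pow, Ideal.span_singleton_le_span_singleton] at hle
    obtain ⟨c, hc⟩ := hle
    refine hϖ.not_isUnit (IsUnit.of_mul_eq_one c (mul_left_cancel₀ hϖ.ne_zero ?_))
    rw [mul_one, ← mul_assoc, ← sq]
    exact hc.symm
  · show _ = _
    rw [h, he, pow_one]

variable [CommRing T] [IsDomain T] [IsDiscreteValuationRing T] [Algebra S T] [Algebra R T]
    [IsScalarTower R S T]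

theorem ramificationIdx'_mul (hRS : Function.Injective (algebraMap R S))
    (hST : Function.Injective (algebraMap S T)) :
    Ideal.ramificationIdx' (maximalIdeal R) (maximalIdeal T) =
      Ideal.ramificationIdx' (maximalIdeal R) (maximalIdeal S) *
        Ideal.ramificationIdx' (maximalIdeal S) (maximalIdeal T) := by
  have h1 := map_maximalIdeal_eq_pow R S hRS
  have h2 := map_maximalIdeal_eq_pow S T hST
  have h3 : (maximalIdeal R).map (algebraMap R T) = maximalIdeal T ^
      (Ideal.ramificationIdx' (maximalIdeal R) (maximalIdeal S) *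
        Ideal.ramificationIdx' (maximalIdeal S) (maximalIdeal T)) := by
    rw [IsScalarTower.algebraMap_eq R S T, ← Ideal.map_map, h1, Ideal.map_pow, h2, ← pow_mul, mul_comm]
  refine Ideal.ramificationIdx'_spec h3.le ?_
  rw [h3]
  obtain ⟨ϖ, hϖ⟩ := IsDiscreteValuationRing.exists_irreducible T
  rw [hϖ.maximalIdeal_eq, Ideal.span_singleton_pow, Ideal.span_singleton_pow,
    Ideal.span_singleton_le_span_singleton]
  rintro ⟨c, hc⟩
  rw [pow_succ, mul_assoc] at hc
  exact hϖ.not_isUnit (IsUnit.of_mul_eq_one c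
    (mul_left_cancel₀ (pow_ne_zero _ hϖ.ne_zero) (by rw [mul_one]; exact hc.symm)))

end Ram

end Groth.Agent.EtRamH7
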