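import Groth.Prelude.Def_EtRam
import Groth.Agent.Lib.GeomRed21.Algebra
import Mathlib.RingTheory.Artinian.Module
import Mathlib.RingTheory.AdjoinRoot
import Mathlib.FieldTheory.Separable
import Mathlib.RingTheory.LocalRing.ResidueField.Ideal

/-!
# A criterion for an extension of DVRs to be weakly unramified with separable residue extension

Given a model `S` of `W` whose fibre modulo the uniformizer of `V` is Artinian, reduced and geometrically
reduced.
-/

universe u

open IsLocalRing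

namespace Groth.Agent.EtRamH7

/-- Adjoining a root of a separable monic polynomial preserves reducedness. -/
theorem isReduced_adjoinRoot {R : Type u} [CommRing R] [IsReduced R] {f : Polynomial R} (hf : f.Monic)
    (hs : f.Separable) : IsReduced (AdjoinRoot f) := by
  refine ⟨fun x hx => ?_⟩
  obtain ⟨g, rfl⟩ := AdjoinRoot.mk_surjective x
  have hr : AdjoinRoot.mk f g = AdjoinRoot.mk f (g %ₘ f) := by
    conv_lhs => rw [← Polynomial.modByMonic_add_div g f]
    simp
  rw [hr] at hx ⊢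
  suffices g %ₘ f = 0 by rw [this, map_zero]
  ext i
  rw [Polynomial.coeff_zero]
  by_cases hR : Subsingleton R
  · exact Subsingleton.elim _ _
  haveI : Nontrivial R := not_subsingleton_iff_nontrivial.1 hR
  refine IsReduced.eq_zero _ (nilpotent_iff_mem_prime.2 fun P hP => ?_)
  let φ : R →+* P.ResidueField := algebraMap R P.ResidueField
  obtain ⟨n, hn⟩ := hx
  have h1 : f.map φ ∣ ((g %ₘ f).map φ) ^ n := by
    rw [← Polynomial.map_pow]
    exact Polynomial.map_dvd φ (AdjoinRoot.mk_eq_zero.1 (by rw [map_pow]; exact hn))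
  have h2 : f.map φ ∣ (g %ₘ f).map φ := hs.map.squarefree.isRadical n _ h1
  have h3 : (g %ₘ f).map φ = 0 := by
    refine Polynomial.eq_zero_of_dvd_of_degree_lt h2 ?_
    rw [hf.degree_map]
    exact lt_of_le_of_lt Polynomial.degree_map_le (Polynomial.degree_modByMonic_lt g hf)
  have h4 := congrArg (fun p : Polynomial P.ResidueField => p.coeff i) h3
  simp only [Polynomial.coeff_map, Polynomial.coeff_zero] at h4
  exact Ideal.algebraMap_residueField_eq_zero.1 h4

/-- In an Artinian reduced ring every element is von Neumann regular. -/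
theorem exists_eq_sq_mul {T : Type u} [CommRing T] [IsReduced T] [IsArtinianRing T] (t : T) :
    ∃ u, t = t ^ 2 * u := by
  obtain ⟨n, u, hu⟩ := IsArtinian.exists_pow_succ_smul_dvd (R := T) (M := T) t (1 : T)
  simp only [smul_eq_mul, mul_one] at hu
  refine ⟨u, ?_⟩
  have h1 : t ^ n * (t - t ^ 2 * u) = 0 := by
    rw [mul_sub, sub_eq_zero]
    calc t ^ n * t = (t ^ n.succ * u) * t := by rw [hu]
      _ = t ^ n * (t ^ 2 * u) := by rw [Nat.succ_eq_add_one, pow_succ]; ring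
  have h : (t - t ^ 2 * u) ^ (n + 1) = 0 := by
    calc (t - t ^ 2 * u) ^ (n + 1) = (t ^ n * (t - t ^ 2 * u)) * (1 - t * u) ^ n := by
          rw [pow_succ, show t - t ^ 2 * u = t * (1 - t * u) by ring, mul_pow]; ring
      _ = 0 := by rw [h1, zero_mul]
  exact sub_eq_zero.1 (IsReduced.eq_zero _ ⟨_, h⟩)

theorem fibre_criterion {V W S T : Type u} [CommRing V] [IsDomain V] [IsDiscreteValuationRing V]
    [CommRing W] [IsDomain W] [IsDiscreteValuationRing W] [Algebra V W]
    [Algebra (ResidueField V) (ResidueField W)]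
    [IsLocalHom (algebraMap V W)] (hinjVW : Function.Injective (algebraMap V W))
    [CommRing S] [CommRing T] [Algebra (ResidueField V) T] [IsArtinianRing T] [IsReduced T]
    [Algebra.IsGeometricallyReduced (ResidueField V) T]
    (ρ : V) (hρ : Irreducible ρ) (Φ : S →+* W) (q : S →+* T) (hqsurj : Function.Surjective q)
    (ψ : T →ₐ[ResidueField V] ResidueField W) (hψq : ∀ s, ψ (q s) = residue W (Φ s))
    (hkerq : ∀ s, q s = 0 → ∃ r, Φ s = algebraMap V W ρ * Φ r)
    (hfrac : ∀ x : W, ∃ r s, Φ s ≠ 0 ∧ x * Φ s = Φ r) :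
    EtRam.IsWeaklyUnramified V W ∧ Algebra.IsGeometricallyReduced (ResidueField V) (ResidueField W) := by
  classical
  let kV := ResidueField V
  let kW := ResidueField W
  have hρmax := hρ.maximalIdeal_eq
  let ρ' : W := algebraMap V W ρ
  have hρ' : ¬ IsUnit ρ' := fun h => hρ.not_isUnit (isUnit_of_map_unit (algebraMap V W) _ h)
  have hρ'0 : ρ' ≠ 0 := fun h => hρ.ne_zero (hinjVW (h.trans (map_zero _).symm))
  have hvnr : ∀ t : T, ∃ u, t = t ^ 2 * u := exists_eq_sq_mul
  have hsep : ∀ t : T, ψ t = 0 → ∃ s : T, ψ s ≠ 0 ∧ s * t = 0 := by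
    intro t ht
    obtain ⟨u, hu⟩ := hvnr t
    refine ⟨1 - t * u, ?_, ?_⟩
    · rw [map_sub, map_mul, ht, zero_mul, map_one, sub_zero]; exact one_ne_zero
    · rw [sub_mul, one_mul, mul_right_comm, ← sq, ← hu, sub_self]
  obtain ⟨ϖ, hϖ⟩ := IsDiscreteValuationRing.exists_irreducible W
  have key : ∀ i : ℕ, ∀ s, Φ s ≠ 0 → ¬ ϖ ^ i ∣ Φ s →
      ∃ (j : ℕ) (σ s₁ : S), IsUnit (Φ σ) ∧ IsUnit (Φ s₁) ∧ Φ s * Φ σ = ρ' ^ j * Φ s₁ := by
    intro i
    induction i with
    | zero => intro s _ h; exact absurd (by simp) h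
    | succ i ih =>
      intro s h0 hi
      by_cases hu : IsUnit (Φ s)
      · exact ⟨0, 1, s, by simp, hu, by simp⟩
      have ht : ψ (q s) = 0 := by
        rw [hψq, IsLocalRing.residue_eq_zero_iff, IsLocalRing.mem_maximalIdeal]; exact hu
      obtain ⟨t', ht', htt⟩ := hsep _ ht
      obtain ⟨σ, rfl⟩ := hqsurj t'
      rw [hψq, Ne, IsLocalRing.residue_eq_zero_iff, IsLocalRing.notMem_maximalIdeal] at ht'
      obtain ⟨r, hr⟩ := hkerq (σ * s) (by rw [map_mul, htt])
      have hmul : Φ σ * Φ s = ρ' * Φ r := by rw [← map_mul, hr]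
      have hr0 : Φ r ≠ 0 := fun h => mul_ne_zero ht'.ne_zero h0 (by rw [hmul, h, mul_zero])
      have hri : ¬ ϖ ^ i ∣ Φ r := by
        rintro ⟨d, hd⟩
        have hϖρ : ϖ ∣ ρ' := by
          rw [← Ideal.mem_span_singleton, ← hϖ.maximalIdeal_eq, IsLocalRing.mem_maximalIdeal]; exact hρ'
        obtain ⟨e, he⟩ := hϖρ
        refine hi ((ht'.dvd_mul_left).1 ⟨e * d, ?_⟩)
        rw [hmul, hd, he]; ring
      obtain ⟨j, σ₁, s₁, h1, h2, h3⟩ := ih r hr0 hri
      refine ⟨j + 1, σ * σ₁, s₁, by rw [map_mul]; exact ht'.mul h1, h2, ?_⟩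
      rw [map_mul, ← mul_assoc, mul_comm (Φ s), hmul, mul_assoc, h3]; ring
  have key' : ∀ s, Φ s ≠ 0 →
      ∃ (j : ℕ) (σ s₁ : S), IsUnit (Φ σ) ∧ IsUnit (Φ s₁) ∧ Φ s * Φ σ = ρ' ^ j * Φ s₁ := by
    intro s hs
    obtain ⟨m, u, hu⟩ := IsDiscreteValuationRing.eq_unit_mul_pow_irreducible hs hϖ
    refine key (m + 1) s hs fun h => ?_
    rw [hu, Units.dvd_mul_left, pow_dvd_pow_iff hϖ.ne_zero hϖ.not_isUnit] at h
    omega
  have hstr : ∀ x : W, x ≠ 0 → (∀ d, x ≠ ρ' * d) → ∃ n d, IsUnit (Φ d) ∧ x * Φ d = Φ n := by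
    intro x hx0 hx
    obtain ⟨r, s, hs, hxs⟩ := hfrac x
    have hr : Φ r ≠ 0 := by rw [← hxs]; exact mul_ne_zero hx0 hs
    obtain ⟨a, σr, r₁, hσr, hr₁, hr'⟩ := key' r hr
    obtain ⟨b, σs, s₁, hσs, hs₁, hs'⟩ := key' s hs
    have h : x * (ρ' ^ b * Φ (s₁ * σr)) = ρ' ^ a * Φ (r₁ * σs) := by
      rw [map_mul, map_mul, ← mul_assoc (ρ' ^ b), ← mul_assoc (ρ' ^ a), ← hs', ← hr', ← hxs]; ring
    have hsu : IsUnit (Φ (s₁ * σr)) := by rw [map_mul]; exact hs₁.mul hσr
    have hru : IsUnit (Φ (r₁ * σs)) := by rw [map_mul]; exact hr₁.mul hσs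
    rcases lt_trichotomy a b with hab | hab | hab
    · exfalso
      obtain ⟨d, rfl⟩ := Nat.exists_eq_add_of_le (Nat.succ_le_of_lt hab)
      have h2 : ρ' * (ρ' ^ d * x * Φ (s₁ * σr)) = Φ (r₁ * σs) := by
        apply mul_left_cancel₀ (pow_ne_zero a hρ'0)
        rw [← h, pow_add, pow_succ]; ring
      exact hρ' (isUnit_of_dvd_unit ⟨_, h2.symm⟩ hru)
    · subst hab
      refine ⟨r₁ * σs, s₁ * σr, hsu, mul_left_cancel₀ (pow_ne_zero a hρ'0) ?_⟩
      rw [← h]; ring
    · exfalso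
      obtain ⟨d, rfl⟩ := Nat.exists_eq_add_of_le (Nat.succ_le_of_lt hab)
      obtain ⟨u, hu⟩ := hsu
      refine hx (ρ' ^ d * Φ (r₁ * σs) * ↑u⁻¹) ?_
      apply mul_left_cancel₀ (pow_ne_zero b hρ'0)
      calc ρ' ^ b * x = x * (ρ' ^ b * u) * ↑u⁻¹ := by rw [mul_assoc, mul_assoc, Units.mul_inv]; ring
        _ = _ := by rw [hu, h, pow_add, pow_succ]; ring
  refine ⟨?_, ?_⟩
  · show Ideal.map (algebraMap V W) (IsLocalRing.maximalIdeal V) = IsLocalRing.maximalIdeal W
    rw [hρmax, Ideal.map_span, Set.image_singleton]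
    refine le_antisymm ((Ideal.span_singleton_le_iff_mem _).2 ((IsLocalRing.mem_maximalIdeal _).2 hρ')) fun x hx => ?_
    rw [Ideal.mem_span_singleton]
    by_contra hdvd
    obtain ⟨n, d, hd, hnd⟩ := hstr x (fun h => hdvd (h ▸ dvd_zero _)) (fun d h => hdvd ⟨d, h⟩)
    have hn : ψ (q n) = 0 := by
      rw [hψq, IsLocalRing.residue_eq_zero_iff, ← hnd]
      exact Ideal.mul_mem_right _ _ hx
    obtain ⟨t', ht', htt⟩ := hsep _ hn
    obtain ⟨σ, rfl⟩ := hqsurj t'
    rw [hψq, Ne, IsLocalRing.residue_eq_zero_iff, IsLocalRing.notMem_maximalIdeal] at ht'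
    obtain ⟨r, hr⟩ := hkerq (σ * n) (by rw [map_mul, htt])
    refine hdvd (((ht'.mul hd).dvd_mul_right).1 ⟨Φ r, ?_⟩)
    calc x * (Φ σ * Φ d) = Φ (σ * n) := by rw [map_mul, ← hnd]; ring
      _ = _ := by rw [hr]
  · have hsurjψ : Function.Surjective ψ := by
      intro y
      obtain ⟨x, rfl⟩ := IsLocalRing.residue_surjective y
      by_cases hx : IsLocalRing.residue W x = 0
      · exact ⟨0, by rw [hx, map_zero]⟩
      have hxu : IsUnit x := IsLocalRing.notMem_maximalIdeal.1 fun h => hx ((IsLocalRing.residue_eq_zero_iff x).2 h)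
      obtain ⟨n, d, hd, hnd⟩ := hstr x hxu.ne_zero (fun e he => hρ' (isUnit_of_dvd_unit ⟨e, he⟩ hxu))
      obtain ⟨u, hu⟩ := hvnr (q d)
      have hd0 : ψ (q d) ≠ 0 := by
        rw [hψq, Ne, IsLocalRing.residue_eq_zero_iff]; exact IsLocalRing.notMem_maximalIdeal.2 hd
      refine ⟨q n * u, ?_⟩
      have h1 : ψ (q d) * ψ u = 1 := by
        apply mul_left_cancel₀ hd0
        rw [mul_one, ← mul_assoc, ← sq, ← map_pow, ← map_mul, ← hu]
      rw [map_mul, hψq n, ← hnd, map_mul, ← hψq d, mul_assoc, h1, mul_one]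
    letI : Algebra T kW := ψ.toRingHom.toAlgebra
    haveI : IsScalarTower kV T kW := IsScalarTower.of_algebraMap_eq fun z => (ψ.commutes z).symm
    haveI : (RingHom.ker ψ.toRingHom).IsPrime := RingHom.ker_isPrime _
    haveI : IsLocalization (RingHom.ker ψ.toRingHom).primeCompl kW :=
      { map_units := fun s => isUnit_iff_ne_zero.2 s.2
        surj := fun z => by
          obtain ⟨t, rfl⟩ := hsurjψ z
          exact ⟨(t, 1), by simp [RingHom.algebraMap_toAlgebra]⟩
        exists_of_eq := fun {x y} hxy => by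
          obtain ⟨s, hs, hst⟩ := hsep (x - y) (by rw [map_sub]; exact sub_eq_zero.2 hxy)
          exact ⟨⟨s, hs⟩, sub_eq_zero.1 (by rw [← mul_sub]; exact hst)⟩ }
    exact Groth.Agent.GeomRed21.isGeometricallyReduced_of_isLocalization (RingHom.ker ψ.toRingHom).primeCompl kW

/-- The criterion with an extra root `η` of `X^e - c` adjoined to the model. -/
theorem fibre_criterion_root {V W P T₀ : Type u} [CommRing V] [IsDomain V] [IsDiscreteValuationRing V]
    [CommRing W] [IsDomain W] [IsDiscreteValuationRing W] [Algebra V W]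
    [Algebra (ResidueField V) (ResidueField W)]
    [IsLocalHom (algebraMap V W)] (hinjVW : Function.Injective (algebraMap V W))
    [CommRing P] [CommRing T₀] [Algebra (ResidueField V) T₀]
    (ρ : V) (hρ : Irreducible ρ) (Φ₀ : P →+* W) (q₀ : P →+* T₀) (hq₀ : Function.Surjective q₀)
    (ψ₁ : T₀ →ₐ[ResidueField V] ResidueField W) (hψ₁q : ∀ s, ψ₁ (q₀ s) = residue W (Φ₀ s))
    (c₀ : P) (η : W) {e : ℕ} (hη : η ^ e = Φ₀ c₀)
    (hgm : (Polynomial.X ^ e - Polynomial.C (q₀ c₀)).Monic)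
    [IsReduced (AdjoinRoot (Polynomial.X ^ e - Polynomial.C (q₀ c₀)))]
    [IsArtinianRing (AdjoinRoot (Polynomial.X ^ e - Polynomial.C (q₀ c₀)))]
    [Algebra.IsGeometricallyReduced (ResidueField V) (AdjoinRoot (Polynomial.X ^ e - Polynomial.C (q₀ c₀)))]
    (hkerq₀ : ∀ s, q₀ s = 0 → ∃ r : Polynomial P, Φ₀ s = algebraMap V W ρ * r.eval₂ Φ₀ η)
    (hfrac : ∀ x : W, ∃ r s, Φ₀ s ≠ 0 ∧ x * Φ₀ s = Φ₀ r) :
    EtRam.IsWeaklyUnramified V W ∧ Algebra.IsGeometricallyReduced (ResidueField V) (ResidueField W) := by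
  classical
  have _hm := hgm
  let g : Polynomial T₀ := Polynomial.X ^ e - Polynomial.C (q₀ c₀)
  let Φ : Polynomial P →+* W := Polynomial.eval₂RingHom Φ₀ η
  let q : Polynomial P →+* AdjoinRoot g := (AdjoinRoot.mk g).comp (Polynomial.mapRingHom q₀)
  have hΦC : ∀ s, Φ (Polynomial.C s) = Φ₀ s := fun s => Polynomial.eval₂_C _ _
  have hΦX : Φ Polynomial.X = η := Polynomial.eval₂_X _ _
  have hroot : g.eval₂ ψ₁.toRingHom (residue W η) = 0 := by
    show (Polynomial.X ^ e - Polynomial.C (q₀ c₀)).eval₂ ψ₁.toRingHom (residue W η) = (0 : ResidueField W)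
    rw [Polynomial.eval₂_sub, Polynomial.eval₂_X_pow, Polynomial.eval₂_C]
    show _ - ψ₁ (q₀ c₀) = 0
    rw [hψ₁q, ← map_pow, hη, sub_self]
  let ψ : AdjoinRoot g →ₐ[ResidueField V] ResidueField W :=
    { AdjoinRoot.lift ψ₁.toRingHom (residue W η) hroot with
      commutes' := fun z => by
        show AdjoinRoot.lift ψ₁.toRingHom (residue W η) hroot (AdjoinRoot.of g (algebraMap (ResidueField V) T₀ z)) = _
        rw [AdjoinRoot.lift_of]
        exact ψ₁.commutes z }
  refine fibre_criterion hinjVW ρ hρ Φ q (AdjoinRoot.mk_surjective.comp (Polynomial.map_surjective _ hq₀)) ψ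
    (fun s => ?_) (fun s hs => ?_) (fun x => ?_)
  · show AdjoinRoot.lift ψ₁.toRingHom (residue W η) hroot (AdjoinRoot.mk g (s.map q₀)) = _
    rw [AdjoinRoot.lift_mk, Polynomial.eval₂_map]
    show _ = residue W (s.eval₂ Φ₀ η)
    rw [Polynomial.hom_eval₂]
    congr 1
    exact RingHom.ext hψ₁q
  · obtain ⟨d, hd⟩ := AdjoinRoot.mk_eq_zero.1 hs
    obtain ⟨d', rfl⟩ := Polynomial.map_surjective q₀ hq₀ d
    let g' : Polynomial P := Polynomial.X ^ e - Polynomial.C c₀
    have hg' : Φ g' = 0 := by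
      simp only [g', map_sub, map_pow, hΦC, hΦX, hη, sub_self]
    have h1 : ∀ i, q₀ ((s - g' * d').coeff i) = 0 := fun i => by
      have h2 : (s - g' * d').map q₀ = 0 := by
        rw [Polynomial.map_sub, Polynomial.map_mul,
          show g'.map q₀ = g by simp [g', g]]
        exact sub_eq_zero.2 hd
      have h3 := congrArg (fun p : Polynomial T₀ => p.coeff i) h2
      simp only [Polynomial.coeff_map, Polynomial.coeff_zero] at h3
      exact h3
    choose r hr using fun i => hkerq₀ _ (h1 i)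
    refine ⟨∑ i ∈ (s - g' * d').support, r i * Polynomial.X ^ i, ?_⟩
    have h4 : Φ s = Φ (s - g' * d') := by rw [map_sub, map_mul, hg', zero_mul, sub_zero]
    conv_lhs => rw [h4, Polynomial.as_sum_support_C_mul_X_pow (s - g' * d')]
    rw [map_sum, map_sum, Finset.mul_sum]
    refine Finset.sum_congr rfl fun i _ => ?_
    rw [map_mul, map_mul, hΦC, hr]
    show _ = algebraMap V W ρ * ((r i).eval₂ Φ₀ η * _)
    ring
  · obtain ⟨r, s, hs, hrs⟩ := hfrac x
    exact ⟨Polynomial.C r, Polynomial.C s, by rwa [hΦC], by rw [hΦC, hΦC, hrs]⟩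

end Groth.Agent.EtRamH7
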