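import Groth.Agent.Lib.EtRamH7.Tower
import Groth.Agent.Lib.GlobFun18.Alg
import Groth.Agent.Lib.Sep.Basic
import Groth.Agent.S1982
import Groth.Agent.S1983
import Groth.Agent.S7132
import Mathlib.RingTheory.Etale.Field
import Mathlib.FieldTheory.IsAlgClosed.AlgebraicClosure
import Mathlib.FieldTheory.IntermediateField.Adjoin.Basic

/-!
# Compositum of unramified / tamely ramified extensions
-/

universe u

open IsLocalRing

namespace Groth.Agent.EtRamH7

theorem geomRed_of_separable (k L : Type u) [Field k] [Field L] [Algebra k L] [Algebra.IsSeparable k L] :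
    Algebra.IsGeometricallyReduced k L := by
  haveI := Algebra.FormallyEtale.of_isSeparable k L
  exact (Groth.Agent.Sep.formallySmooth_iff_isGeometricallyReduced k L).1 inferInstance

/-- The residue algebra instance of a local map agrees with `ResidueField.map`. -/
theorem geomRed_canonical {R S : Type u} [CommRing R] [IsLocalRing R] [CommRing S] [IsLocalRing S]
    [Algebra R S] [IsLocalHom (algebraMap R S)]
    (h : @Algebra.IsGeometricallyReduced (ResidueField R) (ResidueField S) _ _
      (ResidueField.map (algebraMap R S)).toAlgebra) :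
    Algebra.IsGeometricallyReduced (ResidueField R) (ResidueField S) := by
  have heq : (ResidueField.map (algebraMap R S)).toAlgebra = (inferInstance : Algebra (ResidueField R) (ResidueField S)) :=
    Algebra.algebra_ext _ _ fun r => by
      obtain ⟨r, rfl⟩ := residue_surjective r
      rfl
  rw [heq] at h; exact h

variable (A : Type u) [CommRing A] [IsDomain A] [IsDiscreteValuationRing A]
  (K : Type u) [Field K] [Algebra A K] [IsFractionRing A K]
  (E₁ E₂ M : Type u) [Field E₁] [Field E₂] [Field M] [Algebra K E₁] [Algebra K E₂] [Algebra K M]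
  [Algebra E₁ M] [Algebra E₂ M] [IsScalarTower K E₁ M] [IsScalarTower K E₂ M]
  [FiniteDimensional K E₁] [FiniteDimensional K E₂] [FiniteDimensional K M]

include E₁ E₂ in
theorem unramified_compositum (hgen : Algebra.adjoin E₂ (Set.range (algebraMap E₁ M)) = ⊤)
    (h₁ : EtRam.IsUnramifiedExt A ((algebraMap K E₁).comp (algebraMap A K)))
    (h₂ : EtRam.IsUnramifiedExt A ((algebraMap K E₂).comp (algebraMap A K))) :
    EtRam.IsUnramifiedExt A ((algebraMap K M).comp (algebraMap A K)) := by
  classical
  intro W hW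
  letI : Algebra A W := (RingHom.codRestrict _ W hW.1).toAlgebra
  intro _
  have hc₁ : (algebraMap K M).comp (algebraMap A K) =
      (algebraMap E₁ M).comp ((algebraMap K E₁).comp (algebraMap A K)) := by
    rw [← RingHom.comp_assoc, ← IsScalarTower.algebraMap_eq K E₁ M]
  have hc₂ : (algebraMap K M).comp (algebraMap A K) =
      (algebraMap E₂ M).comp ((algebraMap K E₂).comp (algebraMap A K)) := by
    rw [← RingHom.comp_assoc, ← IsScalarTower.algebraMap_eq K E₂ M]
  have hV₁ : EtRam.Dominates A ((algebraMap K E₁).comp (algebraMap A K)) (W.comap (algebraMap E₁ M)) :=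
    dominates_comap _ (hc₁ ▸ hW)
  have hV₂ : EtRam.Dominates A ((algebraMap K E₂).comp (algebraMap A K)) (W.comap (algebraMap E₂ M)) :=
    dominates_comap _ (hc₂ ▸ hW)
  haveI := dvr_of_dominates A K E₁ _ rfl _ hV₁
  haveI := dvr_of_dominates A K E₂ _ rfl _ hV₂
  haveI := dvr_of_dominates A K M _ rfl _ hW
  letI : Algebra A (W.comap (algebraMap E₂ M)) := (RingHom.codRestrict _ _ hV₂.1).toAlgebra
  haveI : IsLocalHom (algebraMap A (W.comap (algebraMap E₂ M))) := isLocalHom_cod hV₂
  letI : Algebra A (W.comap (algebraMap E₁ M)) := (RingHom.codRestrict _ _ hV₁.1).toAlgebra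
  haveI : IsLocalHom (algebraMap A (W.comap (algebraMap E₁ M))) := isLocalHom_cod hV₁
  obtain ⟨hw₂, hs₂⟩ := @h₂ _ hV₂ (inferInstance : IsLocalHom (algebraMap A (W.comap (algebraMap E₂ M))))
  obtain ⟨hw₁, hs₁⟩ := @h₁ _ hV₁ (inferInstance : IsLocalHom (algebraMap A (W.comap (algebraMap E₁ M))))
  haveI := geomRed_of_separable (ResidueField A) (ResidueField (W.comap (algebraMap E₂ M)))
  letI : Algebra A E₂ := ((algebraMap K E₂).comp (algebraMap A K)).toAlgebra
  haveI : IsScalarTower A K E₂ := IsScalarTower.of_algebraMap_eq fun _ => rfl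
  haveI : IsScalarTower A (W.comap (algebraMap E₂ M)) E₂ := IsScalarTower.of_algebraMap_eq fun _ => rfl
  obtain ⟨hw, hg⟩ := Groth.Agent.S1983.result A (W.comap (algebraMap E₂ M)) K E₂
    (injective_cod A K E₂ _ rfl _ hV₂.1) hw₂ E₁ M hgen W (dominates_self_comap (algebraMap E₂ M) W)
  letI : Algebra (W.comap (algebraMap E₁ M)) W := (EtRam.inclOfComap W (algebraMap E₁ M)).toAlgebra
  haveI : IsLocalHom (algebraMap (W.comap (algebraMap E₁ M)) W) := EtRam.isLocalHom_inclOfComap _ _
  haveI : IsScalarTower A (W.comap (algebraMap E₁ M)) W :=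
    IsScalarTower.of_algebraMap_eq fun a => Subtype.ext (DFunLike.congr_fun hc₁ a)
  refine ⟨weakly_trans A (W.comap (algebraMap E₁ M)) W hw₁ hw, ?_⟩
  haveI : FiniteDimensional E₁ M := FiniteDimensional.right K E₁ M
  haveI : IsScalarTower (W.comap (algebraMap E₁ M)) W M := IsScalarTower.of_algebraMap_eq fun _ => rfl
  haveI : Module.Finite (ResidueField (W.comap (algebraMap E₁ M))) (ResidueField W) :=
    (Groth.Agent.S7132.result (W.comap (algebraMap E₁ M)) W E₁ M
      (fun a b h => Subtype.ext ((algebraMap E₁ M).injective (congrArg Subtype.val h)))).1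
  haveI : Algebra.IsGeometricallyReduced (ResidueField (W.comap (algebraMap E₁ M))) (ResidueField W) := geomRed_canonical hg
  exact sep_trans A (W.comap (algebraMap E₁ M)) W hs₁
    (GlobFun18.isSeparable_of_isGeometricallyReduced (k := ResidueField (W.comap (algebraMap E₁ M))) (ResidueField W))

include E₁ E₂ in
theorem tame_compositum (hgen : Algebra.adjoin E₂ (Set.range (algebraMap E₁ M)) = ⊤)
    (h₁ : EtRam.IsTamelyRamified A ((algebraMap K E₁).comp (algebraMap A K)))
    (h₂ : EtRam.IsTamelyRamified A ((algebraMap K E₂).comp (algebraMap A K))) :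
    EtRam.IsTamelyRamified A ((algebraMap K M).comp (algebraMap A K)) := by
  classical
  intro W hW
  letI : Algebra A W := (RingHom.codRestrict _ W hW.1).toAlgebra
  intro _
  have hc₁ : (algebraMap K M).comp (algebraMap A K) =
      (algebraMap E₁ M).comp ((algebraMap K E₁).comp (algebraMap A K)) := by
    rw [← RingHom.comp_assoc, ← IsScalarTower.algebraMap_eq K E₁ M]
  have hc₂ : (algebraMap K M).comp (algebraMap A K) =
      (algebraMap E₂ M).comp ((algebraMap K E₂).comp (algebraMap A K)) := by
    rw [← RingHom.comp_assoc, ← IsScalarTower.algebraMap_eq K E₂ M]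
  have hV₁ : EtRam.Dominates A ((algebraMap K E₁).comp (algebraMap A K)) (W.comap (algebraMap E₁ M)) :=
    dominates_comap _ (hc₁ ▸ hW)
  have hV₂ : EtRam.Dominates A ((algebraMap K E₂).comp (algebraMap A K)) (W.comap (algebraMap E₂ M)) :=
    dominates_comap _ (hc₂ ▸ hW)
  haveI := dvr_of_dominates A K E₁ _ rfl _ hV₁
  haveI := dvr_of_dominates A K E₂ _ rfl _ hV₂
  haveI := dvr_of_dominates A K M _ rfl _ hW
  letI : Algebra A (W.comap (algebraMap E₂ M)) := (RingHom.codRestrict _ _ hV₂.1).toAlgebra
  haveI : IsLocalHom (algebraMap A (W.comap (algebraMap E₂ M))) := isLocalHom_cod hV₂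
  letI : Algebra A (W.comap (algebraMap E₁ M)) := (RingHom.codRestrict _ _ hV₁.1).toAlgebra
  haveI : IsLocalHom (algebraMap A (W.comap (algebraMap E₁ M))) := isLocalHom_cod hV₁
  obtain ⟨hs₂, he₂⟩ := @h₂ _ hV₂ (inferInstance : IsLocalHom (algebraMap A (W.comap (algebraMap E₂ M))))
  obtain ⟨hs₁, he₁⟩ := @h₁ _ hV₁ (inferInstance : IsLocalHom (algebraMap A (W.comap (algebraMap E₁ M))))
  haveI := geomRed_of_separable (ResidueField A) (ResidueField (W.comap (algebraMap E₂ M)))
  set e₂ := Ideal.ramificationIdx' (maximalIdeal A) (maximalIdeal (W.comap (algebraMap E₂ M))) with he₂def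
  have hinj₂ := injective_cod A K E₂ _ rfl _ hV₂.1
  have he₂0 : e₂ ≠ 0 := by
    intro h0
    have h := map_maximalIdeal_eq_pow A (W.comap (algebraMap E₂ M)) hinj₂
    rw [← he₂def, h0, pow_zero, Ideal.one_eq_top] at h
    exact (maximalIdeal.isMaximal _).ne_top (top_le_iff.1 (h ▸
      (((local_hom_TFAE (algebraMap A (W.comap (algebraMap E₂ M)))).out 0 2 rfl rfl).1 inferInstance)))
  obtain ⟨ρ, hρ⟩ := IsDiscreteValuationRing.exists_irreducible (W.comap (algebraMap E₁ M))
  let Ω := AlgebraicClosure M
  haveI : IsScalarTower K E₁ Ω := IsScalarTower.of_algebraMap_eq fun x => by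
    rw [IsScalarTower.algebraMap_apply K M Ω, IsScalarTower.algebraMap_apply K E₁ M,
      IsScalarTower.algebraMap_apply E₁ M Ω]
  obtain ⟨x, hx⟩ := IsAlgClosed.exists_pow_nat_eq (algebraMap E₁ Ω (ρ : E₁)) (Nat.pos_of_ne_zero he₂0)
  have hxint : IsIntegral E₁ x := ⟨Polynomial.X ^ e₂ - Polynomial.C (ρ : E₁),
    Polynomial.monic_X_pow_sub_C _ he₂0, by simp [hx]⟩
  have hxintM : IsIntegral M x := hxint.tower_top
  let N := IntermediateField.adjoin E₁ ({x} : Set Ω)
  let M' := IntermediateField.adjoin M ({x} : Set Ω)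
  haveI : FiniteDimensional E₁ N := IntermediateField.adjoin.finiteDimensional hxint
  haveI : FiniteDimensional M M' := IntermediateField.adjoin.finiteDimensional hxintM
  have hNM : ∀ z : N, (z : Ω) ∈ M' := by
    intro z
    have hle : N ≤ M'.restrictScalars E₁ := by
      rw [IntermediateField.adjoin_le_iff]
      intro y hy
      rw [Set.mem_singleton_iff] at hy
      rw [hy]
      exact IntermediateField.mem_adjoin_simple_self M x
    exact hle z.2
  let fN : N →+* M' :=
    { toFun := fun z => ⟨(z : Ω), hNM z⟩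
      map_one' := rfl, map_mul' := fun _ _ => rfl, map_zero' := rfl, map_add' := fun _ _ => rfl }
  letI : Algebra N M' := fN.toAlgebra
  haveI : IsScalarTower K E₁ N := inferInstance
  haveI : FiniteDimensional K N := Module.Finite.trans E₁ N
  haveI : FiniteDimensional K M' := Module.Finite.trans M M'
  haveI : IsScalarTower K E₂ M' := IsScalarTower.of_algebraMap_eq fun z => by
    apply Subtype.ext
    show algebraMap K Ω z = algebraMap E₂ Ω (algebraMap K E₂ z)
    rw [IsScalarTower.algebraMap_apply K M Ω, IsScalarTower.algebraMap_apply K E₂ M,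
      IsScalarTower.algebraMap_apply E₂ M Ω]
  haveI : IsScalarTower K N M' := IsScalarTower.of_algebraMap_eq fun z => Subtype.ext rfl
  have hgen' : Algebra.adjoin E₂ (Set.range (algebraMap N M')) = ⊤ := by
    let F := Algebra.adjoin E₂ (Set.range (algebraMap N M'))
    have hM : ∀ y : M, algebraMap M M' y ∈ F := by
      intro y
      have hy : y ∈ Algebra.adjoin E₂ (Set.range (algebraMap E₁ M)) := by rw [hgen]; trivial
      induction hy using Algebra.adjoin_induction with
      | mem z hz =>
        obtain ⟨z, rfl⟩ := hz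
        exact Algebra.subset_adjoin ⟨algebraMap E₁ N z, Subtype.ext
          (IsScalarTower.algebraMap_apply E₁ M Ω z)⟩
      | algebraMap z =>
        rw [← IsScalarTower.algebraMap_apply]; exact F.algebraMap_mem _
      | add a b _ _ ha hb => rw [map_add]; exact add_mem ha hb
      | mul a b _ _ ha hb => rw [map_mul]; exact mul_mem ha hb
    let F' : Subalgebra M M' := { F.toSubsemiring with algebraMap_mem' := hM }
    refine top_le_iff.1 fun y _ => ?_
    have hpb := (IntermediateField.adjoin.powerBasis hxintM).adjoin_gen_eq_top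
    have hle : Algebra.adjoin M {(IntermediateField.adjoin.powerBasis hxintM).gen} ≤ F' := by
      rw [Algebra.adjoin_le_iff, Set.singleton_subset_iff]
      exact Algebra.subset_adjoin ⟨⟨x, IntermediateField.mem_adjoin_simple_self E₁ x⟩, Subtype.ext rfl⟩
    exact hle (by rw [hpb]; trivial)
  obtain ⟨W', hW'⟩ := exists_comap_eq (algebraMap M M') W
  subst hW'
  have hcM' : (algebraMap K M').comp (algebraMap A K) =
      (algebraMap M M').comp ((algebraMap K M).comp (algebraMap A K)) := by
    rw [← RingHom.comp_assoc, ← IsScalarTower.algebraMap_eq K M M']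
  have hcN : (algebraMap K M').comp (algebraMap A K) =
      (algebraMap N M').comp ((algebraMap K N).comp (algebraMap A K)) := by
    rw [← RingHom.comp_assoc, ← IsScalarTower.algebraMap_eq K N M']
  have hAW' : EtRam.Dominates A ((algebraMap K M').comp (algebraMap A K)) W' := by
    rw [hcM']
    exact dominates_trans hW _ (dominates_self_comap (algebraMap M M') W')
  have hAN : EtRam.Dominates A ((algebraMap K N).comp (algebraMap A K)) (W'.comap (algebraMap N M')) :=
    dominates_comap _ (hcN ▸ hAW')
  haveI := dvr_of_dominates A K N _ rfl _ hAN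
  haveI := dvr_of_dominates A K M' _ rfl _ hAW'
  letI : Algebra A (W'.comap (algebraMap N M')) := (RingHom.codRestrict _ _ hAN.1).toAlgebra
  haveI : IsLocalHom (algebraMap A (W'.comap (algebraMap N M'))) := isLocalHom_cod hAN
  let fV : (W'.comap (algebraMap M M')).comap (algebraMap E₁ M) →+* W'.comap (algebraMap N M') :=
    { toFun := fun z => ⟨algebraMap E₁ N (z : E₁), by
        show algebraMap N M' (algebraMap E₁ N (z : E₁)) ∈ W'
        have h : algebraMap N M' (algebraMap E₁ N (z : E₁)) = algebraMap M M' (algebraMap E₁ M (z : E₁)) :=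
          Subtype.ext (IsScalarTower.algebraMap_apply E₁ M Ω _)
        rw [h]; exact z.2⟩
      map_one' := Subtype.ext (map_one _), map_mul' := fun _ _ => Subtype.ext (map_mul _ _ _)
      map_zero' := Subtype.ext (map_zero _), map_add' := fun _ _ => Subtype.ext (map_add _ _ _) }
  letI : Algebra ((W'.comap (algebraMap M M')).comap (algebraMap E₁ M)) (W'.comap (algebraMap N M')) := fV.toAlgebra
  have hE₁N : ∀ z : E₁, algebraMap N M' (algebraMap E₁ N z) = algebraMap M M' (algebraMap E₁ M z) := fun z =>
    Subtype.ext (IsScalarTower.algebraMap_apply E₁ M Ω z)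
  haveI : IsLocalHom (algebraMap ((W'.comap (algebraMap M M')).comap (algebraMap E₁ M)) (W'.comap (algebraMap N M'))) := by
    constructor
    intro z hz
    apply (EtRam.isLocalHom_inclOfComap (W'.comap (algebraMap M M')) (algebraMap E₁ M)).map_nonunit
    apply (EtRam.isLocalHom_inclOfComap W' (algebraMap M M')).map_nonunit
    have h := hz.map (EtRam.inclOfComap W' (algebraMap N M'))
    have heq : EtRam.inclOfComap W' (algebraMap M M')
        (EtRam.inclOfComap (W'.comap (algebraMap M M')) (algebraMap E₁ M) z) =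
        EtRam.inclOfComap W' (algebraMap N M') (fV z) := Subtype.ext (hE₁N _).symm
    rw [heq]; exact h
  have hinjV : Function.Injective
      (algebraMap ((W'.comap (algebraMap M M')).comap (algebraMap E₁ M)) (W'.comap (algebraMap N M'))) :=
    fun a b h => Subtype.ext ((algebraMap E₁ N).injective (congrArg Subtype.val h))
  haveI : IsScalarTower A ((W'.comap (algebraMap M M')).comap (algebraMap E₁ M)) (W'.comap (algebraMap N M')) :=
    IsScalarTower.of_algebraMap_eq fun a => Subtype.ext (IsScalarTower.algebraMap_apply K E₁ N _)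
  letI : Algebra ((W'.comap (algebraMap M M')).comap (algebraMap E₁ M)) N :=
    ((algebraMap E₁ N).comp ((W'.comap (algebraMap M M')).comap (algebraMap E₁ M)).subtype).toAlgebra
  haveI : IsScalarTower ((W'.comap (algebraMap M M')).comap (algebraMap E₁ M)) E₁ N :=
    IsScalarTower.of_algebraMap_eq fun _ => rfl
  haveI : IsScalarTower ((W'.comap (algebraMap M M')).comap (algebraMap E₁ M)) (W'.comap (algebraMap N M')) N :=
    IsScalarTower.of_algebraMap_eq fun _ => rfl
  have hdeg : Module.finrank E₁ N ≤ e₂ := by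
    rw [IntermediateField.adjoin.finrank hxint]
    refine le_trans (Polynomial.natDegree_le_of_dvd (minpoly.dvd E₁ x (p := Polynomial.X ^ e₂ - Polynomial.C (ρ : E₁))
      (by simp [hx])) (Polynomial.monic_X_pow_sub_C _ he₂0).ne_zero) ?_
    rw [Polynomial.natDegree_X_pow_sub_C]
  have hxW : x ∈ N := IntermediateField.mem_adjoin_simple_self E₁ x
  let xN : N := ⟨x, hxW⟩
  have hxN : xN ^ e₂ = algebraMap E₁ N (ρ : E₁) := Subtype.ext hx
  have hxmem : xN ∈ W'.comap (algebraMap N M') := by
    by_contra hn
    have h0 : xN ≠ 0 := fun h => hn (h ▸ (W'.comap (algebraMap N M')).zero_mem)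
    rw [← ValuationSubring.valuation_le_one_iff, not_le] at hn
    have h1 : (W'.comap (algebraMap N M')).valuation (xN ^ e₂) ≤ 1 := by
      rw [hxN]; exact ((W'.comap (algebraMap N M')).valuation_le_one_iff _).2 (fV ρ).2
    rw [map_pow] at h1
    exact absurd h1 (not_le.2 (one_lt_pow₀ hn he₂0))
  set eN := Ideal.ramificationIdx' (maximalIdeal ((W'.comap (algebraMap M M')).comap (algebraMap E₁ M)))
    (maximalIdeal (W'.comap (algebraMap N M'))) with heN
  have h7 := Groth.Agent.S7132.result _ (W'.comap (algebraMap N M')) E₁ N hinjV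
  haveI := h7.1
  have hfpos : 0 < Module.finrank (ResidueField ((W'.comap (algebraMap M M')).comap (algebraMap E₁ M)))
      (ResidueField (W'.comap (algebraMap N M'))) := Module.finrank_pos
  have hmapN := map_maximalIdeal_eq_pow _ (W'.comap (algebraMap N M')) hinjV
  rw [← heN] at hmapN
  obtain ⟨σ, hσ⟩ := IsDiscreteValuationRing.exists_irreducible (W'.comap (algebraMap N M'))
  rw [hρ.maximalIdeal_eq, hσ.maximalIdeal_eq, Ideal.map_span, Set.image_singleton, Ideal.span_singleton_pow,
    Ideal.span_singleton_eq_span_singleton] at hmapN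
  have hρ0 : algebraMap _ (W'.comap (algebraMap N M')) ρ ≠ 0 := (map_ne_zero_iff _ hinjV).2 hρ.ne_zero
  have hxp : (⟨xN, hxmem⟩ : W'.comap (algebraMap N M')) ^ e₂ = algebraMap _ (W'.comap (algebraMap N M')) ρ :=
    Subtype.ext hxN
  have hx0 : (⟨xN, hxmem⟩ : W'.comap (algebraMap N M')) ≠ 0 := fun h => hρ0 (by
    rw [← hxp, h, zero_pow he₂0])
  obtain ⟨k, w, hw⟩ := IsDiscreteValuationRing.eq_unit_mul_pow_irreducible hx0 hσ
  have hassoc : Associated (σ ^ (k * e₂)) (σ ^ eN) := by
    refine Associated.trans ?_ hmapN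
    rw [← hxp, hw, pow_mul]
    exact Associated.pow_pow (associated_unit_mul_left _ _ w.isUnit).symm
  have hke : k * e₂ = eN := le_antisymm ((pow_dvd_pow_iff hσ.ne_zero hσ.not_isUnit).1 hassoc.dvd)
    ((pow_dvd_pow_iff hσ.ne_zero hσ.not_isUnit).1 hassoc.dvd')
  have h8 := le_trans h7.2 hdeg
  rw [← heN] at h8
  have hk1 : k = 1 := by
    have hk : k ≠ 0 := by
      intro h0
      rw [h0, pow_zero, mul_one] at hw
      have h := (w.isUnit.pow e₂)
      rw [← hw, hxp] at h
      exact hρ.not_isUnit (isUnit_of_map_unit (algebraMap _ (W'.comap (algebraMap N M'))) _ h)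
    have h9 : k * e₂ ≤ 1 * e₂ := by
      rw [one_mul, hke]; exact le_trans (Nat.le_mul_of_pos_right _ hfpos) h8
    have := Nat.le_of_mul_le_mul_right h9 (Nat.pos_of_ne_zero he₂0)
    omega
  have heq : eN = e₂ := by rw [← hke, hk1, one_mul]
  have hf1 : Module.finrank (ResidueField ((W'.comap (algebraMap M M')).comap (algebraMap E₁ M)))
      (ResidueField (W'.comap (algebraMap N M'))) = 1 := by
    rw [heq] at h8
    exact le_antisymm (Nat.le_of_mul_le_mul_left (by rwa [mul_one]) (Nat.pos_of_ne_zero he₂0)) hfpos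
  have hsN : Algebra.IsSeparable (ResidueField ((W'.comap (algebraMap M M')).comap (algebraMap E₁ M)))
      (ResidueField (W'.comap (algebraMap N M'))) := ⟨fun q => by
    obtain ⟨c, hc⟩ := (finrank_eq_one_iff_of_nonzero' (1 : ResidueField (W'.comap (algebraMap N M'))) one_ne_zero).1 hf1 q
    rw [← hc, Algebra.smul_def, mul_one]
    exact isSeparable_algebraMap c⟩
  -- the comparison with `E₂`
  have hVeq : W'.comap (algebraMap E₂ M') = (W'.comap (algebraMap M M')).comap (algebraMap E₂ M) := by
    rw [ValuationSubring.comap_comap, ← IsScalarTower.algebraMap_eq]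
  letI : Algebra A E₂ := ((algebraMap K E₂).comp (algebraMap A K)).toAlgebra
  haveI : IsScalarTower A K E₂ := IsScalarTower.of_algebraMap_eq fun _ => rfl
  haveI : IsScalarTower A ((W'.comap (algebraMap M M')).comap (algebraMap E₂ M)) E₂ :=
    IsScalarTower.of_algebraMap_eq fun _ => rfl
  have heA : Ideal.ramificationIdx' (maximalIdeal A) (maximalIdeal (W'.comap (algebraMap N M'))) =
      Ideal.ramificationIdx' (maximalIdeal A) (maximalIdeal ((W'.comap (algebraMap M M')).comap (algebraMap E₁ M))) * e₂ := by
    rw [ramificationIdx'_mul A ((W'.comap (algebraMap M M')).comap (algebraMap E₁ M)) (W'.comap (algebraMap N M'))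
      (injective_cod A K E₁ _ rfl _ hV₁.1) hinjV, ← heN, heq]
  have htame : CharZero (ResidueField A) ∨ ∃ p : ℕ, p.Prime ∧ CharP (ResidueField A) p ∧ ¬ p ∣ e₂ ∧
      Algebra.IsGeometricallyReduced (ResidueField A) (ResidueField ((W'.comap (algebraMap M M')).comap (algebraMap E₂ M))) := by
    obtain ⟨q, hq⟩ := CharP.exists (ResidueField A)
    rcases CharP.char_is_prime_or_zero (ResidueField A) q with hp | rfl
    · exact Or.inr ⟨q, hp, hq, he₂ q hp hq, inferInstance⟩
    · exact Or.inl (CharP.charP_to_charZero _)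
  have hWdom : EtRam.Dominates ((W'.comap (algebraMap M M')).comap (algebraMap E₂ M))
      ((algebraMap E₂ M').comp (algebraMap ((W'.comap (algebraMap M M')).comap (algebraMap E₂ M)) E₂)) W' :=
    hVeq ▸ dominates_self_comap (algebraMap E₂ M') W'
  have hab := Groth.Agent.S1982.result A ((W'.comap (algebraMap M M')).comap (algebraMap E₂ M)) K E₂ hinj₂ htame
    N M' hgen' W' hWdom (fun a => hAN.1 a)
  obtain ⟨hw', hg'⟩ := hab (by
    show e₂ ∣ Ideal.ramificationIdx' (maximalIdeal A) (maximalIdeal (W'.comap (algebraMap N M')))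
    rw [heA]; exact dvd_mul_left _ _)
  letI : Algebra (W'.comap (algebraMap N M')) W' := (EtRam.inclOfComap W' (algebraMap N M')).toAlgebra
  haveI : IsLocalHom (algebraMap (W'.comap (algebraMap N M')) W') := EtRam.isLocalHom_inclOfComap _ _
  letI : Algebra A W' := (RingHom.codRestrict _ W' hAW'.1).toAlgebra
  haveI : IsLocalHom (algebraMap A W') := isLocalHom_cod hAW'
  haveI : IsScalarTower A (W'.comap (algebraMap N M')) W' :=
    IsScalarTower.of_algebraMap_eq fun a => Subtype.ext (DFunLike.congr_fun hcN a)
  letI : Algebra (W'.comap (algebraMap M M')) W' := (EtRam.inclOfComap W' (algebraMap M M')).toAlgebra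
  haveI : IsLocalHom (algebraMap (W'.comap (algebraMap M M')) W') := EtRam.isLocalHom_inclOfComap _ _
  haveI : IsScalarTower A (W'.comap (algebraMap M M')) W' :=
    IsScalarTower.of_algebraMap_eq fun a => Subtype.ext (DFunLike.congr_fun hcM' a)
  haveI : FiniteDimensional N M' := FiniteDimensional.right K N M'
  haveI : IsScalarTower (W'.comap (algebraMap N M')) W' M' := IsScalarTower.of_algebraMap_eq fun _ => rfl
  haveI : Module.Finite (ResidueField (W'.comap (algebraMap N M'))) (ResidueField W') :=
    (Groth.Agent.S7132.result (W'.comap (algebraMap N M')) W' N M'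
      (fun a b h => Subtype.ext ((algebraMap N M').injective (congrArg Subtype.val h)))).1
  haveI : Algebra.IsGeometricallyReduced (ResidueField (W'.comap (algebraMap N M'))) (ResidueField W') := geomRed_canonical hg'
  have hsW' : Algebra.IsSeparable (ResidueField A) (ResidueField W') :=
    sep_trans A (W'.comap (algebraMap N M')) W'
      (sep_trans A ((W'.comap (algebraMap M M')).comap (algebraMap E₁ M)) (W'.comap (algebraMap N M')) hs₁ hsN)
      (GlobFun18.isSeparable_of_isGeometricallyReduced (k := ResidueField (W'.comap (algebraMap N M'))) (ResidueField W'))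
  have hi1 : Function.Injective (algebraMap (W'.comap (algebraMap N M')) W') :=
    fun a b h => Subtype.ext ((algebraMap N M').injective (congrArg Subtype.val h))
  have heW : Ideal.ramificationIdx' (maximalIdeal A) (maximalIdeal W') =
      Ideal.ramificationIdx' (maximalIdeal A) (maximalIdeal ((W'.comap (algebraMap M M')).comap (algebraMap E₁ M))) * e₂ := by
    rw [ramificationIdx'_mul A (W'.comap (algebraMap N M')) W' (injective_cod A K N _ rfl _ hAN.1) hi1,
      (weaklyUnramified_iff (W'.comap (algebraMap N M')) W' hi1).1 hw', mul_one, heA]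
  refine ⟨sep_bot A (W'.comap (algebraMap M M')) W' hsW', fun p hp hc hdvd => ?_⟩
  have hd : p ∣ Ideal.ramificationIdx' (maximalIdeal A) (maximalIdeal W') := by
    rw [ramificationIdx'_mul A (W'.comap (algebraMap M M')) W' (injective_cod A K M _ rfl _ hW.1)
      (fun a b h => Subtype.ext ((algebraMap M M').injective (congrArg Subtype.val h)))]
    exact hdvd.mul_right _
  rw [heW] at hd
  rcases hp.dvd_mul.1 hd with h | h
  · exact he₁ p hp hc h
  · exact he₂ p hp hc h

end Groth.Agent.EtRamH7
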