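import Groth.Agent.Lib.EtRamH7.FibreCrit
import Groth.Agent.Lib.EtRamH7.Compositum
import Mathlib.RingTheory.Valuation.Integral
import Mathlib.FieldTheory.KummerPolynomial
import Mathlib.FieldTheory.PurelyInseparable.Basic

/-!
# Extensions of prime degree of a discrete valuation field

Criteria for total ramification, for purely inseparable residue extension, and for unramifiedness.
-/

universe u

open IsLocalRing Polynomial

namespace Groth.Agent.EtRamH7

variable (A : Type u) [CommRing A] [IsDomain A] [IsDiscreteValuationRing A]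
    (K L : Type u) [Field K] [Field L] [Algebra A K] [IsFractionRing A K] [Algebra K L]
    [FiniteDimensional K L] [Algebra A L] [IsScalarTower A K L]

local notation "g" => algebraMap A L

omit [FiniteDimensional K L] in
include K in
theorem exists_dominates : ∃ V : ValuationSubring L, EtRam.Dominates A g V := by
  let VA : ValuationSubring K := ⟨(algebraMap A K).range, fun x => by
    rcases ValuationRing.isInteger_or_isInteger A x with ⟨a, ha⟩ | ⟨a, ha⟩
    · exact Or.inl ⟨a, ha⟩
    · exact Or.inr ⟨a, ha⟩⟩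
  have hVA : EtRam.Dominates A (algebraMap A K) VA := by
    refine ⟨fun a => ⟨a, rfl⟩, fun a ha => ?_⟩
    have : (⟨algebraMap A K a, ⟨a, rfl⟩⟩ : VA) ∈ maximalIdeal VA := fun hu => by
      obtain ⟨⟨_, b, rfl⟩, hb⟩ := hu.exists_right_inv
      have h1 : algebraMap A K (a * b) = algebraMap A K 1 := by
        rw [map_mul, map_one]; exact congrArg Subtype.val hb
      exact (mem_maximalIdeal _).1 ha (IsUnit.of_mul_eq_one _ (IsFractionRing.injective A K h1))
    exact (VA.valuation_lt_one_iff _).1 this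
  obtain ⟨W, hW⟩ := exists_comap_eq (algebraMap K L) VA
  refine ⟨W, IsScalarTower.algebraMap_eq A K L ▸ dominates_trans (V := W.comap (algebraMap K L)) ?_ _ (dominates_self_comap _ W)⟩
  rw [hW]; exact hVA

variable {p : ℕ} (x : L)

include K in
/-- If `1, x, …, x^(p-1)` stay independent modulo `π` at every dominating valuation ring and `[L:K] ≤ p`,
then they form a basis, integrally so, and the dominating valuation ring is unique. -/
theorem primeExt_basis (π : A) (hπ : Irreducible π) (hd : Module.finrank K L ≤ p)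
    (hx : ∀ V : ValuationSubring L, EtRam.Dominates A g V → x ∈ V)
    (hkey : ∀ V : ValuationSubring L, EtRam.Dominates A g V → ∀ d : Fin p → A, (∃ i, IsUnit (d i)) →
      ∀ y : L, y ∈ V → ∑ i, g (d i) * x ^ (i : ℕ) ≠ g π * y) :
    Module.finrank K L = p ∧
    (∀ V V' : ValuationSubring L, EtRam.Dominates A g V → EtRam.Dominates A g V' → V = V') ∧
    ∀ V : ValuationSubring L, EtRam.Dominates A g V → ∀ y ∈ V,
      ∃ d : Fin p → A, y = ∑ i, g (d i) * x ^ (i : ℕ) := by
  classical
  -- scaling
  have hscale : ∀ c : Fin p → K, c ≠ 0 → ∃ i₀, c i₀ ≠ 0 ∧ ∀ j, ∃ d : A, c j = algebraMap A K d * c i₀ := by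
    intro c hc
    obtain ⟨j₀, hj₀⟩ : ∃ j, c j ≠ 0 := Function.ne_iff.1 hc
    obtain ⟨i₀, -, hi₀⟩ := Finset.exists_max_image Finset.univ
      (fun i => ValuationRing.valuation A K (c i)) ⟨j₀, Finset.mem_univ _⟩
    have hne : c i₀ ≠ 0 := fun h => hj₀ <| by
      have := hi₀ j₀ (Finset.mem_univ _)
      rw [h, map_zero, le_zero_iff, map_eq_zero] at this
      exact this
    refine ⟨i₀, hne, fun j => ?_⟩
    have h1 : ValuationRing.valuation A K (c j / c i₀) ≤ 1 := by
      rw [map_div₀]
      exact div_le_one_of_le₀ (hi₀ j (Finset.mem_univ _)) zero_le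
    obtain ⟨d, hd⟩ := (ValuationRing.mem_integer_iff A K _).1 h1
    exact ⟨d, by rw [hd, div_mul_cancel₀ _ hne]⟩
  obtain ⟨V₀, hV₀⟩ := exists_dominates A K L
  have hsum : ∀ (c : Fin p → K) (i₀ : Fin p) (d : Fin p → A), (∀ j, c j = algebraMap A K (d j) * c i₀) →
      ∑ i, c i • x ^ (i : ℕ) = algebraMap K L (c i₀) * ∑ i, g (d i) * x ^ (i : ℕ) := by
    intro c i₀ d hd'
    rw [Finset.mul_sum]
    refine Finset.sum_congr rfl fun i _ => ?_
    rw [Algebra.smul_def, hd' i, map_mul, ← IsScalarTower.algebraMap_apply, mul_comm (g (d i)), mul_assoc]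
  have hunit : ∀ (c : Fin p → K) (i₀ : Fin p) (d : Fin p → A), c i₀ ≠ 0 →
      (∀ j, c j = algebraMap A K (d j) * c i₀) → d i₀ = 1 := by
    intro c i₀ d hne hd'
    have := hd' i₀
    conv_lhs at this => rw [← one_mul (c i₀), ← map_one (algebraMap A K)]
    exact (IsFractionRing.injective A K (mul_right_cancel₀ hne this)).symm
  have hli : LinearIndependent K fun i : Fin p => x ^ (i : ℕ) := by
    rw [Fintype.linearIndependent_iff]
    intro c hc
    by_contra hne
    push Not at hne
    obtain ⟨i₀, h0, hi₀⟩ := hscale c (Function.ne_iff.2 hne)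
    choose d hd' using hi₀
    rw [hsum c i₀ d hd', mul_eq_zero, map_eq_zero] at hc
    exact hkey V₀ hV₀ d ⟨i₀, hunit c i₀ d h0 hd' ▸ isUnit_one⟩ 0 V₀.zero_mem
      (by rw [mul_zero]; exact hc.resolve_left h0)
  have hfin : Module.finrank K L = p := by
    refine le_antisymm hd ?_
    simpa using hli.fintype_card_le_finrank
  have hspan : ∀ y : L, ∃ c : Fin p → K, ∑ i, c i • x ^ (i : ℕ) = y := fun y => by
    have := hli.span_eq_top_of_card_eq_finrank' (by rw [Fintype.card_fin, hfin])
    exact (Submodule.mem_span_range_iff_exists_fun K).1 (this ▸ Submodule.mem_top)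
  have hint : ∀ V : ValuationSubring L, EtRam.Dominates A g V → ∀ y ∈ V,
      ∃ d : Fin p → A, y = ∑ i, g (d i) * x ^ (i : ℕ) := by
    intro V hV y hy
    obtain ⟨c, rfl⟩ := hspan y
    by_cases hc : c = 0
    · exact ⟨0, by simp [hc]⟩
    obtain ⟨i₀, h0, hi₀⟩ := hscale c hc
    choose d hd' using hi₀
    rcases ValuationRing.isInteger_or_isInteger A (c i₀) with ⟨a, ha⟩ | ⟨a, ha⟩
    · refine ⟨fun j => d j * a, Finset.sum_congr rfl fun i _ => ?_⟩
      rw [Algebra.smul_def, hd' i, ← ha, ← map_mul, ← IsScalarTower.algebraMap_apply]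
    by_cases hau : IsUnit a
    · obtain ⟨w, rfl⟩ := hau
      refine ⟨fun j => d j * ↑w⁻¹, Finset.sum_congr rfl fun i _ => ?_⟩
      rw [Algebra.smul_def, hd' i, ← inv_inv (c i₀), ← ha, ← map_units_inv, ← map_mul, ← IsScalarTower.algebraMap_apply]
    exfalso
    have ha' : a ∈ maximalIdeal A := (mem_maximalIdeal a).2 hau
    rw [hπ.maximalIdeal_eq, Ideal.mem_span_singleton] at ha'
    obtain ⟨b, rfl⟩ := ha'
    rw [hsum c i₀ d hd'] at hy
    refine hkey V hV d ⟨i₀, hunit c i₀ d h0 hd' ▸ isUnit_one⟩ _ (V.mul_mem _ _ (hV.1 b) hy) ?_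
    rw [← mul_assoc, ← mul_assoc, ← map_mul, IsScalarTower.algebraMap_apply A K L, ha, ← map_mul,
      inv_mul_cancel₀ h0, map_one, one_mul]
  refine ⟨hfin, fun V V' hV hV' => ?_, hint⟩
  have hle : ∀ W W' : ValuationSubring L, EtRam.Dominates A g W → EtRam.Dominates A g W' → W ≤ W' := by
    intro W W' hW hW' y hy
    obtain ⟨d, rfl⟩ := hint W hW y hy
    exact sum_mem fun i _ => mul_mem (hW'.1 _) (pow_mem (hx W' hW') _)
  exact le_antisymm (hle V V' hV hV') (hle V' V hV' hV)

include K in
/-- `x ^ p` is `π` times a unit at every dominating valuation ring: the powers of `x` form an integral basis. -/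
theorem basis_of_pow (hp : 0 < p) (π : A) (hπ : Irreducible π) (hd : Module.finrank K L ≤ p)
    (hx : ∀ V : ValuationSubring L, EtRam.Dominates A g V → ∃ w : L, w ∈ V ∧ w⁻¹ ∈ V ∧ w ≠ 0 ∧ x ^ p = g π * w) :
    Module.finrank K L = p ∧
    (∀ V V' : ValuationSubring L, EtRam.Dominates A g V → EtRam.Dominates A g V' → V = V') ∧
    ∀ V : ValuationSubring L, EtRam.Dominates A g V → x ∈ V ∧ ∀ y ∈ V,
      ∃ d : Fin p → A, y = ∑ i, g (d i) * x ^ (i : ℕ) := by
  classical
  have hxV : ∀ V : ValuationSubring L, EtRam.Dominates A g V → x ∈ V := by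
    intro V hV
    obtain ⟨w, hw, -, -, hxp⟩ := hx V hV
    rcases V.mem_or_inv_mem x with h | h
    · exact h
    rcases eq_or_ne x 0 with rfl | hx0
    · exact V.zero_mem
    have : x = x ^ p * x⁻¹ ^ (p - 1) := by
      rw [inv_pow, ← div_eq_mul_inv, eq_div_iff (pow_ne_zero _ hx0), ← pow_succ', Nat.sub_add_cancel hp]
    rw [this, hxp]
    exact mul_mem (mul_mem (hV.1 π) hw) (pow_mem h _)
  have hg0 : g π ≠ 0 := by
    rw [IsScalarTower.algebraMap_apply A K L]
    exact fun h => hπ.ne_zero (IsFractionRing.injective A K (by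
      rw [(map_eq_zero (algebraMap K L)).1 h, map_zero]))
  have hkey : ∀ V : ValuationSubring L, EtRam.Dominates A g V → ∀ d : Fin p → A, (∃ i, IsUnit (d i)) →
      ∀ y : L, y ∈ V → ∑ i, g (d i) * x ^ (i : ℕ) ≠ g π * y := by
    intro V hV d hd' y hy heq
    letI : Algebra A V := (RingHom.codRestrict g V hV.1).toAlgebra
    obtain ⟨w, hw, hw', hw0, hxp⟩ := hx V hV
    let X' : V := ⟨x, hxV V hV⟩
    have hW : IsUnit (⟨w, hw⟩ : V) := IsUnit.of_mul_eq_one ⟨w⁻¹, hw'⟩ (Subtype.ext (mul_inv_cancel₀ hw0))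
    have hXp : X' ^ p = algebraMap A V π * ⟨w, hw⟩ := Subtype.ext hxp
    have hπV : ¬ IsUnit (algebraMap A V π) := by
      rw [← mem_nonunits_iff, ← mem_maximalIdeal]
      exact (V.valuation_lt_one_iff _).2 (hV.2 π ((mem_maximalIdeal π).2 hπ.not_isUnit))
    have hX0 : X' ≠ 0 := fun h => hg0 (by
      have h1 : x = 0 := congrArg Subtype.val h
      rw [h1, zero_pow hp.ne', zero_eq_mul] at hxp
      exact hxp.resolve_right hw0)
    have hdvd : ∀ k ≤ p, X' ^ k ∣ algebraMap A V π := fun k hk => by
      have : X' ^ k ∣ X' ^ p := pow_dvd_pow X' hk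
      rw [hXp] at this
      exact (hW.dvd_mul_right).1 this
    obtain ⟨i₀, hi₀⟩ : ∃ i₀ : Fin p, IsUnit (d i₀) ∧ ∀ j < i₀, ¬ IsUnit (d j) := by
      obtain ⟨i, hi⟩ := hd'
      let S := Finset.univ.filter fun j => IsUnit (d j)
      have hS : S.Nonempty := ⟨i, by simp [S, hi]⟩
      refine ⟨S.min' hS, (Finset.mem_filter.1 (S.min'_mem hS)).2, fun j hj hju => ?_⟩
      exact absurd (S.min'_le j (by simp [S, hju])) (not_le.2 hj)
    have heq' : ∑ i, algebraMap A V (d i) * X' ^ (i : ℕ) = algebraMap A V π * ⟨y, hy⟩ := by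
      apply Subtype.ext
      push_cast
      exact heq
    have hmain : X' ^ ((i₀ : ℕ) + 1) ∣ algebraMap A V (d i₀) * X' ^ (i₀ : ℕ) := by
      have hrest : ∀ j ∈ Finset.univ.erase i₀, X' ^ ((i₀ : ℕ) + 1) ∣ algebraMap A V (d j) * X' ^ (j : ℕ) := by
        intro j hj
        rcases lt_trichotomy j i₀ with h | h | h
        · have hm : d j ∈ maximalIdeal A := (mem_maximalIdeal _).2 (hi₀.2 j h)
          rw [hπ.maximalIdeal_eq, Ideal.mem_span_singleton] at hm
          exact ((hdvd _ i₀.2).trans (map_dvd _ hm)).mul_right _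
        · exact absurd h (Finset.ne_of_mem_erase hj)
        · exact (pow_dvd_pow X' (Nat.succ_le_of_lt h)).mul_left _
      have := Finset.add_sum_erase Finset.univ (fun i => algebraMap A V (d i) * X' ^ (i : ℕ)) (Finset.mem_univ i₀)
      rw [heq'] at this
      rw [eq_sub_of_add_eq this]
      exact dvd_sub ((hdvd _ i₀.2).mul_right _) (Finset.dvd_sum hrest)
    rw [(hi₀.1.map _).dvd_mul_left, pow_succ] at hmain
    have hXu : IsUnit X' := isUnit_of_dvd_one
      ((mul_dvd_mul_iff_left (pow_ne_zero (i₀ : ℕ) hX0)).1 (by rwa [mul_one]))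
    exact hπV ((IsUnit.mul_iff.1 (hXp ▸ hXu.pow p)).1)
  obtain ⟨hfin, huniq, hint⟩ := primeExt_basis A K L x π hπ hd hxV hkey
  exact ⟨hfin, huniq, fun V hV => ⟨hxV V hV, hint V hV⟩⟩

include K in
/-- `x ^ p` is `π` times a unit at every dominating valuation ring: total ramification. -/
theorem totRam_of_pow (hp : 0 < p) (π : A) (hπ : Irreducible π) (hd : Module.finrank K L ≤ p)
    (hx : ∀ V : ValuationSubring L, EtRam.Dominates A g V → ∃ w : L, w ∈ V ∧ w⁻¹ ∈ V ∧ w ≠ 0 ∧ x ^ p = g π * w) :
    Module.finrank K L = p ∧ EtRam.IsTotallyRamified A g := by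
  classical
  obtain ⟨hfin, huniq, hbas⟩ := basis_of_pow A K L x hp π hπ hd hx
  have hxV : ∀ V : ValuationSubring L, EtRam.Dominates A g V → x ∈ V := fun V hV => (hbas V hV).1
  have hint := fun V hV => (hbas V hV).2
  refine ⟨hfin, exists_dominates A K L, huniq, fun V hV r => ?_⟩
  letI : Algebra A V := (RingHom.codRestrict g V hV.1).toAlgebra
  obtain ⟨v, rfl⟩ := residue_surjective r
  obtain ⟨d, hd'⟩ := hint V hV v v.2
  let X' : V := ⟨x, hxV V hV⟩
  have hXm : X' ∈ maximalIdeal V := by
    obtain ⟨w, hw, -, -, hxp⟩ := hx V hV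
    refine (Ideal.IsPrime.mem_of_pow_mem (Ideal.IsMaximal.isPrime inferInstance) p ?_)
    have : X' ^ p = algebraMap A V π * ⟨w, hw⟩ := Subtype.ext hxp
    rw [this]
    exact Ideal.mul_mem_right _ _ ((V.valuation_lt_one_iff _).2 (hV.2 π ((mem_maximalIdeal π).2 hπ.not_isUnit)))
  refine ⟨d ⟨0, hp⟩, ?_⟩
  have hv : v = ∑ i, algebraMap A V (d i) * X' ^ (i : ℕ) := by
    apply Subtype.ext
    push_cast
    exact hd'
  show residue V (algebraMap A V (d ⟨0, hp⟩)) = residue V v
  rw [hv, map_sum, Finset.sum_eq_single (⟨0, hp⟩ : Fin p)]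
  · simp
  · intro j _ hj
    rw [map_mul, map_pow, (residue_eq_zero_iff _).2 hXm, zero_pow (fun h => hj (Fin.ext h)), mul_zero]
  · simp

include K in
/-- `x ^ p` has residue a non `p`-th power: weakly unramified with purely inseparable residue extension of degree `p`. -/
theorem insep_of_pow (hp : p.Prime) (hchar : CharP (ResidueField A) p) (π : A) (hπ : Irreducible π)
    (hd : Module.finrank K L ≤ p) (a : A) (ha : ∀ r : A, residue A a ≠ residue A r ^ p)
    (hx : ∀ V : ValuationSubring L, EtRam.Dominates A g V → ∃ (hxV : x ∈ V) (haV : g a ∈ V),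
      residue V ⟨x, hxV⟩ ^ p = residue V ⟨g a, haV⟩) :
    Module.finrank K L = p ∧ (∃ V : ValuationSubring L, EtRam.Dominates A g V) ∧
      (∀ V V' : ValuationSubring L, EtRam.Dominates A g V → EtRam.Dominates A g V' → V = V') ∧
      ∀ (V : ValuationSubring L) (h : EtRam.Dominates A g V),
        letI : Algebra A V := (RingHom.codRestrict g V h.1).toAlgebra
        ∀ [IsLocalHom (algebraMap A V)],
          EtRam.IsWeaklyUnramified A V ∧
            IsPurelyInseparable (ResidueField A) (ResidueField V) ∧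
            Module.finrank (ResidueField A) (ResidueField V) = p := by
  classical
  haveI := hchar
  haveI : Fact p.Prime := ⟨hp⟩
  have hxV : ∀ V : ValuationSubring L, EtRam.Dominates A g V → x ∈ V := fun V hV => (hx V hV).1
  have hirr : Irreducible (X ^ p - C (residue A a) : (ResidueField A)[X]) :=
    X_pow_sub_C_irreducible_of_prime hp fun b hb => by
      obtain ⟨r, rfl⟩ := residue_surjective b
      exact ha r hb.symm
  have hres : ∀ (V : ValuationSubring L) (hV : EtRam.Dominates A g V),
      letI : Algebra A V := (RingHom.codRestrict g V hV.1).toAlgebra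
      ∀ [IsLocalHom (algebraMap A V)], LinearIndependent (ResidueField A)
          (fun i : Fin p => residue V ⟨x, hxV V hV⟩ ^ (i : ℕ)) := by
    intro V hV
    letI : Algebra A V := (RingHom.codRestrict g V hV.1).toAlgebra
    intro _
    obtain ⟨h1, h2, hθ⟩ := hx V hV
    have hmin : minpoly (ResidueField A) (residue V ⟨x, hxV V hV⟩) = X ^ p - C (residue A a) := by
      refine (minpoly.eq_of_irreducible_of_monic hirr ?_ (monic_X_pow_sub_C _ hp.ne_zero)).symm
      rw [map_sub, map_pow, aeval_X, aeval_C, hθ, sub_eq_zero]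
      rfl
    have := linearIndependent_pow (K := ResidueField A) (residue V ⟨x, hxV V hV⟩)
    rw [hmin, natDegree_X_pow_sub_C] at this
    exact this
  have hnot : ∀ (V : ValuationSubring L) (hV : EtRam.Dominates A g V) (d : Fin p → A), (∃ i, IsUnit (d i)) →
      letI : Algebra A V := (RingHom.codRestrict g V hV.1).toAlgebra
      ∑ i, algebraMap A V (d i) * (⟨x, hxV V hV⟩ : V) ^ (i : ℕ) ∉ maximalIdeal V := by
    intro V hV d ⟨i, hi⟩
    letI : Algebra A V := (RingHom.codRestrict g V hV.1).toAlgebra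
    haveI : IsLocalHom (algebraMap A V) := isLocalHom_cod hV
    intro hmem
    rw [← residue_eq_zero_iff, map_sum] at hmem
    have := Fintype.linearIndependent_iff.1 (hres V hV) (fun j => residue A (d j)) ?_ i
    · exact (mem_maximalIdeal _).1 ((residue_eq_zero_iff _).1 this) hi
    rw [← hmem]
    refine Finset.sum_congr rfl fun j _ => ?_
    rw [map_mul, map_pow, Algebra.smul_def]
    rfl
  have hkey : ∀ V : ValuationSubring L, EtRam.Dominates A g V → ∀ d : Fin p → A, (∃ i, IsUnit (d i)) →
      ∀ y : L, y ∈ V → ∑ i, g (d i) * x ^ (i : ℕ) ≠ g π * y := by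
    intro V hV d hd' y hy heq
    letI : Algebra A V := (RingHom.codRestrict g V hV.1).toAlgebra
    refine hnot V hV d hd' ?_
    have : ∑ i, algebraMap A V (d i) * (⟨x, hxV V hV⟩ : V) ^ (i : ℕ) = algebraMap A V π * ⟨y, hy⟩ := by
      apply Subtype.ext
      push_cast
      exact heq
    rw [this]
    exact Ideal.mul_mem_right _ _ ((V.valuation_lt_one_iff _).2 (hV.2 π ((mem_maximalIdeal π).2 hπ.not_isUnit)))
  obtain ⟨hfin, huniq, hint⟩ := primeExt_basis A K L x π hπ hd hxV hkey
  refine ⟨hfin, exists_dominates A K L, huniq, fun V hV => ?_⟩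
  letI : Algebra A V := (RingHom.codRestrict g V hV.1).toAlgebra
  intro _
  have hexp : ∀ v : V, ∃ d : Fin p → A, v = ∑ i, algebraMap A V (d i) * (⟨x, hxV V hV⟩ : V) ^ (i : ℕ) := by
    intro v
    obtain ⟨d, hd'⟩ := hint V hV v v.2
    refine ⟨d, Subtype.ext ?_⟩
    push_cast
    exact hd'
  refine ⟨?_, ?_⟩
  · refine le_antisymm (Ideal.map_le_iff_le_comap.2 fun a ha' => ?_) fun v hv => ?_
    · exact (V.valuation_lt_one_iff _).2 (hV.2 a ha')
    obtain ⟨d, rfl⟩ := hexp v
    by_cases hu : ∃ i, IsUnit (d i)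
    · exact absurd hv (hnot V hV d hu)
    push Not at hu
    exact sum_mem fun i _ => Ideal.mul_mem_right _ _ (Ideal.mem_map_of_mem _ ((mem_maximalIdeal _).2 (hu i)))
  let θ : ResidueField V := residue V ⟨x, hxV V hV⟩
  have hspan : ∀ r : ResidueField V, ∃ c : Fin p → ResidueField A, ∑ i, c i • θ ^ (i : ℕ) = r := by
    intro r
    obtain ⟨v, rfl⟩ := residue_surjective r
    obtain ⟨d, rfl⟩ := hexp v
    refine ⟨fun i => residue A (d i), ?_⟩
    rw [map_sum]
    refine Finset.sum_congr rfl fun j _ => ?_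
    rw [map_mul, map_pow, Algebra.smul_def]
    rfl
  refine ⟨?_, ?_⟩
  · haveI : CharP (ResidueField V) p := (Algebra.charP_iff (ResidueField A) (ResidueField V) p).1 hchar
    haveI : ExpChar (ResidueField A) p := ExpChar.prime hp
    haveI : ExpChar (ResidueField V) p := ExpChar.prime hp
    rw [isPurelyInseparable_iff_pow_mem (ResidueField A) p]
    intro r
    obtain ⟨c, rfl⟩ := hspan r
    refine ⟨1, ?_⟩
    obtain ⟨h1, h2, hθ⟩ := hx V hV
    rw [pow_one, sum_pow_char]
    refine sum_mem fun i _ => ?_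
    refine ⟨c i ^ p * residue A a ^ (i : ℕ), ?_⟩
    rw [Algebra.smul_def, map_mul, map_pow, map_pow, mul_pow, ← pow_mul, mul_comm (i : ℕ) p, pow_mul]
    show _ * algebraMap (ResidueField A) (ResidueField V) (residue A a) ^ (i : ℕ) = _ * (residue V ⟨x, _⟩ ^ p) ^ (i : ℕ)
    rw [hθ]
    rfl
  · have hle : ⊤ ≤ Submodule.span (ResidueField A) (Set.range fun i : Fin p => θ ^ (i : ℕ)) := fun r _ =>
      (Submodule.mem_span_range_iff_exists_fun _).2 (hspan r)
    rw [Module.finrank_eq_card_basis (Module.Basis.mk (hres V hV) hle), Fintype.card_fin]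

include K in
/-- Generated by a root of a monic polynomial with separable reduction: unramified. -/
theorem unram_of_root (F : A[X]) (hF : F.Monic) (hs : (F.map (residue A)).Separable) (hz : aeval x F = 0)
    (hgen : ∀ y : L, ∃ q : K[X], aeval x q = y) : EtRam.IsUnramifiedExt A g := by
  classical
  intro V hV
  letI : Algebra A V := (RingHom.codRestrict g V hV.1).toAlgebra
  intro _
  haveI : IsScalarTower A V L := IsScalarTower.of_algebraMap_eq fun _ => rfl
  have hgc : g = (algebraMap K L).comp (algebraMap A K) := IsScalarTower.algebraMap_eq A K L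
  haveI := dvr_of_dominates A K L g hgc V hV
  have hinj : Function.Injective (algebraMap A V) := injective_cod A K L g hgc V hV.1
  obtain ⟨π, hπ⟩ := IsDiscreteValuationRing.exists_irreducible A
  have hxV : x ∈ V := by
    have hi : IsIntegral A x := ⟨F, hF, hz⟩
    obtain ⟨y, hy⟩ := IsIntegrallyClosed.isIntegral_iff.1 (hi.tower_top (A := V))
    exact hy ▸ y.2
  let X' : V := ⟨x, hxV⟩
  have hX : aeval X' F = 0 := FaithfulSMul.algebraMap_injective V L (by
    rw [← aeval_algebraMap_apply, map_zero]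
    exact hz)
  let Fb : (ResidueField A)[X] := F.map (residue A)
  have hFb : Fb.Monic := hF.map _
  haveI : Module.Finite (ResidueField A) (AdjoinRoot Fb) := hFb.finite_adjoinRoot
  haveI : IsArtinianRing (AdjoinRoot Fb) := IsArtinianRing.of_finite (ResidueField A) _
  haveI : IsReduced (AdjoinRoot Fb) := isReduced_adjoinRoot hFb hs
  haveI : Algebra.IsGeometricallyReduced (ResidueField A) (AdjoinRoot Fb) := by
    rw [Algebra.isGeometricallyReduced_field_iff]
    haveI : IsReduced (TensorProduct (ResidueField A) (AlgebraicClosure (ResidueField A)) (ResidueField A)) :=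
      isReduced_of_injective (Algebra.TensorProduct.rid (ResidueField A) (ResidueField A) (AlgebraicClosure (ResidueField A)))
        (AlgEquiv.injective _)
    haveI : IsReduced (AdjoinRoot (Fb.map (Algebra.TensorProduct.includeRight (R := ResidueField A)
        (A := AlgebraicClosure (ResidueField A)) (B := ResidueField A)).toRingHom)) :=
      isReduced_adjoinRoot (hFb.map _) hs.map
    exact isReduced_of_injective (AdjoinRoot.tensorAlgEquiv Fb _ rfl) (AlgEquiv.injective _)
  have hroot : Fb.eval₂ (algebraMap (ResidueField A) (ResidueField V)) (residue V X') = 0 := by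
    rw [eval₂_map]
    have h1 : (algebraMap (ResidueField A) (ResidueField V)).comp (residue A) =
        (residue V).comp (algebraMap A V) := rfl
    rw [h1, ← hom_eval₂, ← aeval_def, hX, map_zero]
  obtain ⟨hw, hgr⟩ := fibre_criterion (V := A) (W := V) (S := A[X]) (T := AdjoinRoot Fb) hinj π hπ
    (aeval X').toRingHom ((AdjoinRoot.mk Fb).comp (mapRingHom (residue A)))
    (AdjoinRoot.mk_surjective.comp (map_surjective _ residue_surjective))
    (AdjoinRoot.liftAlgHom Fb (Algebra.ofId _ _) (residue V X') hroot)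
    (fun s => by
      show AdjoinRoot.liftAlgHom Fb (Algebra.ofId (ResidueField A) (ResidueField V)) (residue V X') hroot
        (AdjoinRoot.mk Fb (s.map (residue A))) = residue V (aeval X' s)
      rw [AdjoinRoot.liftAlgHom_mk, eval₂_map, aeval_def, hom_eval₂]
      rfl)
    (fun s hs' => by
      obtain ⟨d, hd'⟩ := AdjoinRoot.mk_eq_zero.1 hs'
      obtain ⟨d', rfl⟩ := map_surjective (residue A) residue_surjective d
      have h1 : ∀ i, π ∣ (s - F * d').coeff i := fun i => by
        have h2 : (s - F * d').map (residue A) = 0 := by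
          rw [Polynomial.map_sub, Polynomial.map_mul]; exact sub_eq_zero.2 hd'
        have h3 := congrArg (fun q : (ResidueField A)[X] => q.coeff i) h2
        simp only [coeff_map, coeff_zero, residue_eq_zero_iff, hπ.maximalIdeal_eq, Ideal.mem_span_singleton] at h3
        exact h3
      obtain ⟨r, hr⟩ := C_dvd_iff_dvd_coeff π _ |>.2 h1
      refine ⟨r, ?_⟩
      show aeval X' s = algebraMap A V π * aeval X' r
      rw [← sub_add_cancel s (F * d'), hr, map_add, map_mul, map_mul, aeval_C, hX, zero_mul, add_zero])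
    (fun v => by
      obtain ⟨q, hq⟩ := hgen v
      obtain ⟨b, hb0, hb⟩ := IsLocalization.integerNormalization_spec (nonZeroDivisors A) q
      refine ⟨IsLocalization.integerNormalization (nonZeroDivisors A) q, C b, ?_, ?_⟩
      · rw [AlgHom.toRingHom_eq_coe, RingHom.coe_coe, aeval_C, map_ne_zero_iff _ hinj]
        exact nonZeroDivisors.ne_zero hb0
      · refine Subtype.ext ?_
        show v.1 * (aeval X' (C b)).1 = (aeval X' (IsLocalization.integerNormalization _ q)).1
        rw [show (aeval X' (C b)).1 = g b by rw [aeval_C]; rfl, mul_comm]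
        show _ = algebraMap V L (aeval X' (IsLocalization.integerNormalization _ q))
        rw [← aeval_algebraMap_apply, ← aeval_map_algebraMap K, show algebraMap V L X' = x from rfl, ← hq]
        rw [hb, ← IsScalarTower.algebraMap_smul K b q, map_smul, Algebra.smul_def, ← IsScalarTower.algebraMap_apply])
  haveI := hgr
  haveI : Module.Finite (ResidueField A) (ResidueField V) :=
    (Groth.Agent.S7132.result A V K L hinj).1
  exact ⟨hw, GlobFun18.isSeparable_of_isGeometricallyReduced (k := ResidueField A) (ResidueField V)⟩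

end Groth.Agent.EtRamH7
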