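import Groth.Agent.Lib.EtRamH7.Compositum
import Groth.Agent.Lib.PseudoCompl21.Dominate

/-!
# Composition and descent for the local extensions attached to field maps
-/

set_option autoImplicit false
set_option linter.style.haveILetI false

universe u

open IsLocalRing

namespace Groth.Agent.EtRamH7

variable {E F G : Type u} [Field E] [Field F] [Field G]

/-- `W ∩ E → W` is weakly unramified with geometrically reduced residue extension. -/
def Good (W : ValuationSubring F) (f : E →+* F) : Prop :=
  letI : Algebra (W.comap f) W := (EtRam.inclOfComap W f).toAlgebra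
  EtRam.IsWeaklyUnramified (W.comap f) W ∧
    @Algebra.IsGeometricallyReduced (ResidueField (W.comap f)) (ResidueField W) _ _
      (ResidueField.map (EtRam.inclOfComap W f)).toAlgebra

theorem good_comp (W : ValuationSubring G) (f : E →+* F) (g : F →+* G)
    (h₁ : Good (W.comap g) f) (h₂ : Good W g) : Good W (g.comp f) := by
  obtain ⟨hw₁, hg₁⟩ := h₁
  obtain ⟨hw₂, hg₂⟩ := h₂
  let i₁ := EtRam.inclOfComap (W.comap g) f
  let i₂ := EtRam.inclOfComap W g
  refine ⟨?_, ?_⟩
  · show (maximalIdeal ((W.comap g).comap f)).map (i₂.comp i₁) = maximalIdeal W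
    rw [← Ideal.map_map]
    exact (congrArg _ hw₁).trans hw₂
  · letI := (ResidueField.map i₁).toAlgebra
    letI := (ResidueField.map i₂).toAlgebra
    letI : Algebra (ResidueField ((W.comap g).comap f)) (ResidueField W) :=
      (ResidueField.map (i₂.comp i₁)).toAlgebra
    haveI : IsScalarTower (ResidueField ((W.comap g).comap f)) (ResidueField (W.comap g)) (ResidueField W) :=
      IsScalarTower.of_algebraMap_eq' (ResidueField.map_comp i₁ i₂)
    haveI : Algebra.IsGeometricallyReduced (ResidueField ((W.comap g).comap f)) (ResidueField (W.comap g)) := hg₁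
    haveI : Algebra.IsGeometricallyReduced (ResidueField (W.comap g)) (ResidueField W) := hg₂
    exact PseudoCompl21.isGeometricallyReduced_trans (k := ResidueField ((W.comap g).comap f))
      (ResidueField (W.comap g)) (ResidueField W)

theorem good_descend (W : ValuationSubring G) (f : E →+* F) (g : F →+* G)
    (h : Good W (g.comp f)) : Good (W.comap g) f := by
  obtain ⟨hw, hg⟩ := h
  let i₁ := EtRam.inclOfComap (W.comap g) f
  let i₂ := EtRam.inclOfComap W g
  refine ⟨?_, ?_⟩
  · show (maximalIdeal ((W.comap g).comap f)).map i₁ = maximalIdeal (W.comap g)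
    have hw' : (maximalIdeal ((W.comap g).comap f)).map (i₂.comp i₁) = maximalIdeal W := hw
    refine le_antisymm (((local_hom_TFAE i₁).out 0 2 rfl rfl).1 (EtRam.isLocalHom_inclOfComap _ f)) ?_
    intro x hx
    have hx' : i₂ x ∈ (maximalIdeal ((W.comap g).comap f)).map (i₂.comp i₁) := by
      rw [hw', mem_maximalIdeal]
      rw [mem_maximalIdeal] at hx
      exact fun hu => hx ((EtRam.isLocalHom_inclOfComap W g).map_nonunit x hu)
    obtain ⟨r, hr, w, hrw⟩ : ∃ r ∈ maximalIdeal ((W.comap g).comap f), ∃ w : W,
        i₂ x = i₂ (i₁ r) * w := by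
      refine Submodule.span_induction (p := fun y _ => ∃ r ∈ maximalIdeal ((W.comap g).comap f), ∃ w : W,
        y = i₂ (i₁ r) * w) ?_ ?_ ?_ ?_ hx'
      · rintro _ ⟨r, hr, rfl⟩
        exact ⟨r, hr, 1, by rw [mul_one]; rfl⟩
      · exact ⟨0, zero_mem _, 0, by simp⟩
      · rintro _ _ - - ⟨r, hr, w, rfl⟩ ⟨r', hr', w', rfl⟩
        rcases ValuationRing.dvd_total r r' with ⟨c, rfl⟩ | ⟨c, rfl⟩
        · exact ⟨r, hr, w + i₂ (i₁ c) * w', by rw [map_mul, map_mul]; ring⟩
        · exact ⟨r', hr', i₂ (i₁ c) * w + w', by rw [map_mul, map_mul]; ring⟩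
      · rintro a _ - ⟨r, hr, w, rfl⟩
        exact ⟨r, hr, a * w, by rw [smul_eq_mul]; ring⟩
    have hval : g (x : F) = g (f (r : E)) * (w : G) := congrArg Subtype.val hrw
    by_cases h0 : f (r : E) = 0
    · have : x = 0 := Subtype.ext (g.injective (by simp [hval, h0]))
      rw [this]; exact zero_mem _
    have hgw : g ((x : F) / f (r : E)) = (w : G) := by
      rw [map_div₀, hval, mul_div_cancel_left₀ _ ((_root_.map_ne_zero g).2 h0)]
    have hmem : (x : F) / f (r : E) ∈ W.comap g := by
      show g _ ∈ W
      rw [hgw]; exact w.2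
    have hfac : x = i₁ r * ⟨_, hmem⟩ := Subtype.ext (mul_div_cancel₀ _ h0).symm
    rw [hfac]
    exact Ideal.mul_mem_right _ _ (Ideal.mem_map_of_mem _ hr)
  · letI := (ResidueField.map i₁).toAlgebra
    letI := (ResidueField.map i₂).toAlgebra
    letI : Algebra (ResidueField ((W.comap g).comap f)) (ResidueField W) :=
      (ResidueField.map (i₂.comp i₁)).toAlgebra
    haveI : IsScalarTower (ResidueField ((W.comap g).comap f)) (ResidueField (W.comap g)) (ResidueField W) :=
      IsScalarTower.of_algebraMap_eq' (ResidueField.map_comp i₁ i₂)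
    haveI : Algebra.IsGeometricallyReduced (ResidueField ((W.comap g).comap f)) (ResidueField W) := hg
    exact Algebra.IsGeometricallyReduced.of_injective
      (IsScalarTower.toAlgHom (ResidueField ((W.comap g).comap f)) (ResidueField (W.comap g)) (ResidueField W))
      (RingHom.injective _)

theorem good_of_bijective (W : ValuationSubring F) (f : E →+* F) (hf : Function.Bijective f) : Good W f := by
  let i := EtRam.inclOfComap W f
  have hi : Function.Bijective i := by
    refine ⟨fun a b h => Subtype.ext (hf.1 (congrArg Subtype.val h)), fun w => ?_⟩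
    obtain ⟨e, he⟩ := hf.2 w
    exact ⟨⟨e, by show f e ∈ W; rw [he]; exact w.2⟩, Subtype.ext he⟩
  refine ⟨?_, ?_⟩
  · show (maximalIdeal (W.comap f)).map i = maximalIdeal W
    refine le_antisymm (((local_hom_TFAE i).out 0 2 rfl rfl).1 (EtRam.isLocalHom_inclOfComap _ f)) ?_
    intro w hw
    obtain ⟨x, rfl⟩ := hi.2 w
    refine Ideal.mem_map_of_mem _ ?_
    rw [mem_maximalIdeal] at hw ⊢
    exact fun hu => hw (hu.map i)
  · letI := (ResidueField.map i).toAlgebra
    have hb : Function.Bijective (Algebra.ofId (ResidueField (W.comap f)) (ResidueField W)) := by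
      refine ⟨RingHom.injective _, fun y => ?_⟩
      obtain ⟨w, rfl⟩ := residue_surjective y
      obtain ⟨x, rfl⟩ := hi.2 w
      exact ⟨residue _ x, rfl⟩
    haveI : Algebra.IsGeometricallyReduced (ResidueField (W.comap f)) (ResidueField (W.comap f)) :=
      geomRed_of_separable _ _
    exact Algebra.IsGeometricallyReduced.of_injective (AlgEquiv.ofBijective _ hb).symm.toAlgHom
      (AlgEquiv.ofBijective _ hb).symm.injective

end Groth.Agent.EtRamH7
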