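import Groth.Agent.Lib.EtRamH7.PrimeExt

/-!
# Purely inseparable extensions of prime degree over discrete valuation rings
-/

universe u

open IsLocalRing

namespace Groth.Agent.EtRamH7

theorem pow_mem_range_of_insep {F E : Type u} [Field F] [Field E] [Algebra F E] [FiniteDimensional F E] {p : ℕ}
    (hp : p.Prime) [IsPurelyInseparable F E] (hdeg : Module.finrank F E = p) :
    CharP F p ∧ ∀ z : E, z ^ p ∈ (algebraMap F E).range := by
  obtain ⟨q, hq⟩ := ExpChar.exists F
  obtain ⟨x, hx⟩ : ∃ x : E, x ∉ (algebraMap F E).range := by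
    by_contra h
    push Not at h
    have : Module.finrank F E = 1 :=
      finrank_eq_one 1 one_ne_zero fun y => (h y).elim fun c hc => ⟨c, by rw [Algebra.smul_def, hc, mul_one]⟩
    rw [hdeg] at this
    exact hp.one_lt.ne' this
  have hall : ∀ z : E, z ∈ (algebraMap F E).range ∨
      ∃ n, q ^ n = p ∧ z ^ (q ^ n) ∈ (algebraMap F E).range := by
    intro z
    obtain ⟨n, y, hy⟩ := IsPurelyInseparable.minpoly_eq_X_pow_sub_C F q z
    have hdvd : (minpoly F z).natDegree ∣ p := by
      rw [← IntermediateField.adjoin.finrank (IsIntegral.of_finite F z), ← hdeg]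
      exact ⟨_, (Module.finrank_mul_finrank F (IntermediateField.adjoin F {z}) E).symm⟩
    rcases (Nat.dvd_prime hp).1 hdvd with h | h
    · exact Or.inl (minpoly.natDegree_eq_one_iff.1 h)
    · refine Or.inr ⟨n, by rw [← h, hy, Polynomial.natDegree_X_pow_sub_C], y, ?_⟩
      have := minpoly.aeval F z
      rw [hy] at this
      simp only [map_sub, map_pow, Polynomial.aeval_X, Polynomial.aeval_C, sub_eq_zero] at this
      exact this.symm
  obtain ⟨n, hn, -⟩ := (hall x).resolve_left hx
  have hqp : q = p := by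
    have hn0 : n ≠ 0 := fun h => hp.one_lt.ne' (by rw [← hn, h, pow_zero])
    rcases hq with _ | ⟨hq'⟩
    · rw [one_pow] at hn; exact absurd hn hp.one_lt.ne
    · exact (Nat.prime_dvd_prime_iff_eq hq' hp).1 (hn ▸ dvd_pow_self q hn0)
  subst hqp
  refine ⟨?_, fun z => ?_⟩
  · rcases hq with _ | ⟨hq'⟩
    · exact absurd hp Nat.not_prime_one
    · assumption
  rcases hall z with ⟨c, rfl⟩ | ⟨m, hm, hz⟩
  · exact ⟨c ^ q, map_pow _ _ _⟩
  · rwa [hm] at hz

/-- The valuation subring attached to a discrete valuation ring in its fraction field. -/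
def rangeSubring (R F : Type u) [CommRing R] [IsDomain R] [ValuationRing R] [Field F] [Algebra R F]
    [IsFractionRing R F] : ValuationSubring F :=
  ⟨(algebraMap R F).range, fun x => by
    rcases ValuationRing.isInteger_or_isInteger R x with ⟨a, ha⟩ | ⟨a, ha⟩
    · exact Or.inl ⟨a, ha⟩
    · exact Or.inr ⟨a, ha⟩⟩

theorem mem_rangeSubring {R F : Type u} [CommRing R] [IsDomain R] [ValuationRing R] [Field F] [Algebra R F]
    [IsFractionRing R F] {x : F} : x ∈ rangeSubring R F ↔ ∃ r, algebraMap R F r = x := Iff.rfl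

theorem dominates_rangeSubring (B C M : Type u) [CommRing B] [IsLocalRing B] [CommRing C] [IsDomain C]
    [ValuationRing C] [Field M] [Algebra C M] [IsFractionRing C M] [Algebra B C] [IsLocalHom (algebraMap B C)] :
    EtRam.Dominates B ((algebraMap C M).comp (algebraMap B C)) (rangeSubring C M) := by
  refine ⟨fun b => ⟨algebraMap B C b, rfl⟩, fun b hb => ?_⟩
  refine ((rangeSubring C M).valuation_lt_one_iff ⟨_, algebraMap B C b, rfl⟩).1 ?_
  intro hu
  obtain ⟨⟨_, c, rfl⟩, hc⟩ := hu.exists_right_inv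
  have h1 : algebraMap C M (algebraMap B C b * c) = algebraMap C M 1 := by
    rw [map_mul, map_one]; exact congrArg Subtype.val hc
  exact (mem_maximalIdeal _).1 hb (isUnit_of_map_unit (algebraMap B C) b
    (IsUnit.of_mul_eq_one _ (IsFractionRing.injective C M h1)))

/-- An element of the fraction field whose image is integral in the bigger valuation ring is integral. -/
theorem exists_of_map_eq {B C L M : Type u} [CommRing B] [IsDomain B] [ValuationRing B] [CommRing C] [IsDomain C]
    [Field L] [Field M] [Algebra B L] [IsFractionRing B L] [Algebra C M] [IsFractionRing C M] [Algebra B C]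
    [IsLocalHom (algebraMap B C)] [Algebra L M] [Algebra B M] [IsScalarTower B L M] [IsScalarTower B C M]
    (l : L) (c : C) (h : algebraMap L M l = algebraMap C M c) : ∃ b : B, algebraMap B L b = l := by
  rcases ValuationRing.isInteger_or_isInteger B l with ⟨b, hb⟩ | ⟨b, hb⟩
  · exact ⟨b, hb⟩
  rcases eq_or_ne l 0 with rfl | h0
  · exact ⟨0, map_zero _⟩
  have h1 : algebraMap B C b * c = 1 := by
    refine IsFractionRing.injective C M ?_
    rw [map_mul, map_one, ← IsScalarTower.algebraMap_apply B C M, IsScalarTower.algebraMap_apply B L M, hb, ← h,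
      ← map_mul, inv_mul_cancel₀ h0, map_one]
  obtain ⟨u, rfl⟩ := isUnit_of_map_unit (algebraMap B C) b (IsUnit.of_mul_eq_one _ h1)
  exact ⟨↑u⁻¹, by rw [map_units_inv, hb, inv_inv]⟩

/-- When `c ^ p` is a uniformizer of `B`, the bigger valuation ring is `B[c]`. -/
theorem adjoin_eq_top_of_pow {p : ℕ} (hp : 0 < p) (B C L M : Type u) [CommRing B] [IsDomain B]
    [IsDiscreteValuationRing B] [CommRing C] [IsDomain C] [IsDiscreteValuationRing C] [Field L] [Field M]
    [Algebra B L] [IsFractionRing B L] [Algebra C M] [IsFractionRing C M] [Algebra B C] [IsLocalHom (algebraMap B C)]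
    [Algebra L M] [Algebra B M] [IsScalarTower B L M] [IsScalarTower B C M] [FiniteDimensional L M]
    (hd : Module.finrank L M ≤ p) (π : B) (hπ : Irreducible π) (u : Bˣ) (c : C)
    (hc : c ^ p = algebraMap B C (π * u)) : Algebra.adjoin B {c} = ⊤ := by
  have hx : ∀ V : ValuationSubring M, EtRam.Dominates B (algebraMap B M) V →
      ∃ w : M, w ∈ V ∧ w⁻¹ ∈ V ∧ w ≠ 0 ∧ algebraMap C M c ^ p = algebraMap B M π * w := fun V hV =>
    ⟨algebraMap B M u, hV.1 _, by
      rw [← map_units_inv (algebraMap B M) u]; exact hV.1 _, (u.isUnit.map (algebraMap B M)).ne_zero, by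
      rw [← map_pow, hc, ← IsScalarTower.algebraMap_apply, map_mul]⟩
  obtain ⟨-, -, hbas⟩ := basis_of_pow B L M (algebraMap C M c) hp π hπ hd hx
  have hdom : EtRam.Dominates B (algebraMap B M) (rangeSubring C M) := by
    rw [IsScalarTower.algebraMap_eq B C M]; exact dominates_rangeSubring B C M
  rw [eq_top_iff]
  intro y _
  obtain ⟨d, hd'⟩ := (hbas _ hdom).2 (algebraMap C M y) ⟨y, rfl⟩
  have : y = ∑ i, algebraMap B C (d i) * c ^ (i : ℕ) := by
    refine IsFractionRing.injective C M ?_
    rw [hd', map_sum]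
    refine Finset.sum_congr rfl fun i _ => ?_
    rw [map_mul, map_pow, ← IsScalarTower.algebraMap_apply]
  rw [this]
  exact sum_mem fun i _ => mul_mem (Subalgebra.algebraMap_mem _ _) (pow_mem (Algebra.self_mem_adjoin_singleton B c) _)

/-- The dichotomy: weakly unramified, or `π` is a `p`-th power up to a unit. -/
theorem weakly_or_pow {p : ℕ} (hp : p.Prime) (B C L M : Type u) [CommRing B] [IsDomain B]
    [IsDiscreteValuationRing B] [CommRing C] [IsDomain C] [IsDiscreteValuationRing C] [Field L] [Field M]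
    [Algebra B L] [IsFractionRing B L] [Algebra C M] [IsFractionRing C M] [Algebra B C] [IsLocalHom (algebraMap B C)]
    [Algebra L M] [Algebra B M] [IsScalarTower B L M] [IsScalarTower B C M] (hinj : Function.Injective (algebraMap B C))
    (hpow : ∀ z : M, z ^ p ∈ (algebraMap L M).range) (π : B) (hπ : Irreducible π) :
    EtRam.IsWeaklyUnramified B C ∨ ∃ (u : Bˣ) (c : C), Irreducible c ∧ c ^ p = algebraMap B C (π * u) := by
  obtain ⟨c, hc⟩ := IsDiscreteValuationRing.exists_irreducible C
  obtain ⟨l, hl⟩ := hpow (algebraMap C M c)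
  rw [← map_pow] at hl
  obtain ⟨b, rfl⟩ := exists_of_map_eq (B := B) l (c ^ p) hl
  have hb : algebraMap B C b = c ^ p := IsFractionRing.injective C M (by
    rw [← IsScalarTower.algebraMap_apply, IsScalarTower.algebraMap_apply B L M, hl])
  have hb0 : b ≠ 0 := fun h => pow_ne_zero p hc.ne_zero (by rw [← hb, h, map_zero])
  obtain ⟨j, u, hju⟩ := IsDiscreteValuationRing.eq_unit_mul_pow_irreducible hb0 hπ
  have hπ' : algebraMap B C π ≠ 0 := fun h => hπ.ne_zero (hinj (h.trans (map_zero _).symm))
  obtain ⟨k, w, hkw⟩ := IsDiscreteValuationRing.eq_unit_mul_pow_irreducible hπ' hc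
  have hk : k * j = p := by
    rw [hju, map_mul, map_pow, hkw, mul_pow, ← mul_assoc, ← pow_mul] at hb
    have h1 : (Units.map (algebraMap B C).toMonoidHom u * w ^ j : Cˣ) • c ^ (k * j) = (1 : Cˣ) • c ^ p := by
      rw [Units.smul_def, Units.smul_def, smul_eq_mul, smul_eq_mul, Units.val_one, one_mul, Units.val_mul,
        Units.val_pow_eq_pow_val]
      exact hb
    exact IsDiscreteValuationRing.unit_mul_pow_congr_pow hc hc _ 1 _ _ h1
  rcases (Nat.dvd_prime hp).1 (⟨j, hk.symm⟩ : k ∣ p) with rfl | rfl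
  · left
    show Ideal.map (algebraMap B C) (maximalIdeal B) = maximalIdeal C
    rw [hπ.maximalIdeal_eq, hc.maximalIdeal_eq, Ideal.map_span, Set.image_singleton, hkw, pow_one]
    exact Ideal.span_singleton_mul_left_unit w.isUnit _
  · right
    obtain rfl : j = 1 := Nat.eq_of_mul_eq_mul_left hp.pos (by rw [hk, mul_one])
    exact ⟨u, c, hc, by rw [← hb, hju, pow_one, mul_comm]⟩

end Groth.Agent.EtRamH7
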