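import Groth.Agent.Lib.EtRamH7.ASKummer
import Mathlib.RingTheory.Polynomial.Cyclotomic.Roots
import Mathlib.Data.Nat.Choose.Dvd

/-!
# Kummer type extensions in mixed characteristic
-/

universe u

open IsLocalRing Polynomial

namespace Groth.Agent.EtRamH7

variable {p : ℕ} (hp : p.Prime) (A : Type u) [CommRing A] [IsDomain A] [IsDiscreteValuationRing A]
  (K L : Type u) [Field K] [Field L] [Algebra A K] [IsFractionRing A K] [Algebra K L]
  [Algebra A L] [IsScalarTower A K L] [CharZero K] [CharP (ResidueField A) p]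
  (ζ : A) (hζ : aeval ζ (cyclotomic p ℤ) = 0)
  (P : A[X]) (hP : C ((1 - ζ) ^ p) * P = (1 + C (1 - ζ) * X) ^ p - 1)

include hp hζ K in
omit [Algebra A L] [IsScalarTower A K L] [Algebra K L] [CharP (ResidueField A) p] [IsDiscreteValuationRing A] in
theorem kummer_primitive : IsPrimitiveRoot ζ p ∧ (1 - ζ) ≠ 0 := by
  haveI : NeZero (p : A) := ⟨fun h => by
    have := congrArg (algebraMap A K) h
    rw [map_natCast, map_zero] at this
    exact Nat.cast_ne_zero.2 hp.ne_zero this⟩
  have h1 : IsPrimitiveRoot ζ p := isRoot_cyclotomic_iff.1 (by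
    rw [IsRoot.def, ← map_cyclotomic_int p A]
    rwa [eval_map, ← algebraMap_int_eq, ← aeval_def])
  exact ⟨h1, sub_ne_zero.2 (Ne.symm (h1.ne_one hp.one_lt))⟩

include hp hζ K in
omit [Algebra A L] [IsScalarTower A K L] [Algebra K L] in
theorem kummer_w_mem : 1 - ζ ∈ maximalIdeal A := by
  haveI : Fact p.Prime := ⟨hp⟩
  obtain ⟨h1, -⟩ := kummer_primitive hp A K ζ hζ
  rw [← residue_eq_zero_iff, map_sub, map_one, sub_eq_zero]
  haveI : ExpChar (ResidueField A) p := ExpChar.prime hp
  refine (frobenius_inj (ResidueField A) p ?_)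
  rw [map_one, frobenius_def, ← map_pow, h1.pow_eq_one, map_one]

include hp hζ hP K in
omit [Algebra A L] [IsScalarTower A K L] [Algebra K L] in
/-- The shape of `P`. -/
theorem kummer_poly : P.Monic ∧ P.natDegree = p ∧ P.map (residue A) = X ^ p - X := by
  haveI : Fact p.Prime := ⟨hp⟩
  obtain ⟨h1, hw0⟩ := kummer_primitive hp A K ζ hζ
  have hwm := kummer_w_mem hp A K ζ hζ
  set w := 1 - ζ with hw
  have hcoeff : ∀ i, w ^ p * P.coeff i = (if i = 0 then 0 else (p.choose i : A) * w ^ i) := by
    intro i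
    have h2 := congrArg (fun q : A[X] => q.coeff i) hP
    simp only [coeff_C_mul, coeff_sub, coeff_one] at h2
    have h3 : ((1 + C w * X : A[X]) ^ p).coeff i = (p.choose i : A) * w ^ i := by
      rw [show ((1 : A[X]) + C w * X) ^ p = ((1 + X) ^ p).comp (C w * X) by simp [pow_comp],
        comp_C_mul_X_coeff, coeff_one_add_X_pow]
    rw [h3] at h2
    rw [h2]
    split_ifs with hi
    · subst hi; simp
    · simp
  have hwp : w ^ p ≠ 0 := pow_ne_zero _ hw0
  have hc : ∀ i, P.coeff i ≠ 0 → i ≤ p := fun i hi => by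
    by_contra h
    push Not at h
    refine hi ((mul_eq_zero.1 ?_).resolve_left hwp)
    rw [hcoeff, if_neg (by omega), Nat.choose_eq_zero_of_lt h, Nat.cast_zero, zero_mul]
  have hcp : P.coeff p = 1 := by
    refine mul_left_cancel₀ hwp ?_
    rw [hcoeff, if_neg hp.ne_zero, Nat.choose_self, Nat.cast_one, one_mul, mul_one]
  have hdeg : P.natDegree = p := by
    refine le_antisymm (natDegree_le_iff_coeff_eq_zero.2 fun i hi => ?_) (le_natDegree_of_ne_zero (by rw [hcp]; exact one_ne_zero))
    by_contra h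
    exact (hc i h).not_gt hi
  have hmon : P.Monic := by rw [Monic, leadingCoeff, hdeg, hcp]
  refine ⟨hmon, hdeg, ?_⟩
  have hc0 : P.coeff 0 = 0 := by
    have := hcoeff 0
    rw [if_pos rfl] at this
    exact (mul_eq_zero.1 this).resolve_left hwp
  have hc1 : w ^ (p - 1) * P.coeff 1 = (p : A) := by
    refine mul_left_cancel₀ hw0 ?_
    rw [← mul_assoc, ← pow_succ', Nat.sub_add_cancel hp.pos, hcoeff, if_neg one_ne_zero, Nat.choose_one_right]
    ring
  have hmid : ∀ i, 2 ≤ i → i < p → residue A (P.coeff i) = 0 := by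
    intro i h2 hi
    obtain ⟨q, hq⟩ := Nat.Prime.dvd_choose_self hp (show i ≠ 0 by omega) hi
    have : P.coeff i = w ^ (i - 1) * (P.coeff 1 * q) := by
      refine mul_left_cancel₀ hwp ?_
      rw [hcoeff, if_neg (by omega), hq, Nat.cast_mul, ← hc1,
        show w ^ p = w ^ (p - 1) * w by rw [← pow_succ, Nat.sub_add_cancel hp.pos]]
      conv_lhs => rw [show w ^ i = w ^ (i - 1) * w by rw [← pow_succ, Nat.sub_add_cancel (by omega : 1 ≤ i)]]
      ring
    rw [this, map_mul, map_pow, (residue_eq_zero_iff _).2 hwm, zero_pow (by omega), zero_mul]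
  have hl : residue A (P.coeff 1) = -1 := by
    -- `-1` is a root of `P`
    have hr : eval (-1 : A) P = 0 := by
      refine (mul_eq_zero.1 ?_).resolve_left hwp
      have h2 := congrArg (eval (-1 : A)) hP
      simp only [eval_mul, eval_C, eval_sub, eval_pow, eval_add, eval_one, eval_X] at h2
      rw [h2, show (1 : A) + w * -1 = ζ by rw [hw]; ring, h1.pow_eq_one, sub_self]
    have h2 := congrArg (residue A) hr
    rw [eval_eq_sum_range, hdeg, map_sum, map_zero, Finset.sum_range_succ, hcp,
      Finset.sum_eq_single 1] at h2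
    · simp only [map_mul, map_pow, map_neg, map_one, pow_one, one_mul] at h2
      rw [neg_one_pow_char] at h2
      linear_combination -h2
    · intro i hi hne
      rw [Finset.mem_range] at hi
      rcases Nat.eq_zero_or_pos i with rfl | hpos
      · simp [hc0]
      · rw [map_mul, hmid i (by omega) hi, zero_mul]
    · intro h
      exact absurd (Finset.mem_range.2 hp.one_lt) h
  ext i
  rw [coeff_map, coeff_sub, coeff_X_pow, coeff_X]
  rcases lt_trichotomy i 1 with h | rfl | h
  · obtain rfl : i = 0 := by omega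
    simp [hc0, hp.ne_zero.symm]
  · simp [hl, hp.one_lt.ne]
  · rcases lt_trichotomy i p with h' | rfl | h'
    · simp [hmid i h h', h'.ne, h.ne]
    · simp [hcp, h.ne]
    · have : P.coeff i = 0 := by by_contra hh; exact (hc i hh).not_gt h'
      simp [this, h'.ne', h.ne]

omit [IsDomain A] [IsDiscreteValuationRing A] [IsFractionRing A K] [CharZero K] [CharP (ResidueField A) p] [Algebra A K] [IsScalarTower A K L] [Algebra K L] in
include hP in
/-- The defining identity, evaluated. -/
theorem kummer_eval (x : L) : algebraMap A L (1 - ζ) ^ p * aeval x P = (1 + algebraMap A L (1 - ζ) * x) ^ p - 1 := by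
  have := congrArg (aeval x) hP
  simpa [map_mul, map_sub, map_pow, map_add] using this

variable {A K L}

omit [Algebra A L] [IsScalarTower A K L] [IsDiscreteValuationRing A] [CharP (ResidueField A) p] in
include hp hζ hP in
theorem kummer_galois (hmon : P.Monic) (hdeg : P.natDegree = p) [Algebra A L] [IsScalarTower A K L] (ξ : K) (z : L)
    (hz : aeval z P = algebraMap K L ξ) (hgen : IntermediateField.adjoin K {z} = ⊤) :
    FiniteDimensional K L ∧ IsGalois K L ∧ (Module.finrank K L = 1 ∨ Module.finrank K L = p) := by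
  classical
  haveI : Fact p.Prime := ⟨hp⟩
  obtain ⟨h1, hw0⟩ := kummer_primitive hp A K ζ hζ
  set W : K := algebraMap A K (1 - ζ) with hW
  have hW0 : W ≠ 0 := fun h => hw0 (IsFractionRing.injective A K (by rw [← hW, h, map_zero]))
  have hζK : IsPrimitiveRoot (algebraMap A K ζ) p := h1.map_of_injective (IsFractionRing.injective A K)
  have hWL : algebraMap K L W = algebraMap A L (1 - ζ) := (IsScalarTower.algebraMap_apply A K L _).symm
  set y : L := 1 + algebraMap K L W * z with hy
  set u : K := 1 + W ^ p * ξ with hu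
  have hyu : y ^ p = algebraMap K L u := by
    rw [hu, map_add, map_one, map_mul, map_pow, ← hz, hWL, kummer_eval A L ζ P hP, hy, hWL]
    ring
  have hgy : IntermediateField.adjoin K {y} = ⊤ := by
    rw [eq_top_iff, ← hgen, IntermediateField.adjoin_simple_le_iff]
    have hzy : z = algebraMap K L W⁻¹ * (y - 1) := by
      rw [hy, add_sub_cancel_left, ← mul_assoc, ← map_mul, inv_mul_cancel₀ hW0, map_one, one_mul]
    rw [hzy]
    exact mul_mem (IntermediateField.algebraMap_mem _ _)
      (sub_mem (IntermediateField.mem_adjoin_simple_self K y) (one_mem _))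
  have hroot : aeval y (X ^ p - C u : K[X]) = 0 := by simp [hyu]
  obtain ⟨hfd, hle, -⟩ := generator_facts K L hgy (monic_X_pow_sub_C u hp.ne_zero) hroot
  haveI := hfd
  refine ⟨hfd, ?_⟩
  have hint : IsIntegral K y := ⟨_, monic_X_pow_sub_C u hp.ne_zero, hroot⟩
  have hfin : Module.finrank K L = (minpoly K y).natDegree := by
    have := IntermediateField.adjoin.finrank hint
    rwa [hgy, IntermediateField.finrank_top'] at this
  by_cases hb : ∃ b : K, b ^ p = u
  · obtain ⟨b, hbu⟩ := hb
    rw [← hbu] at hyu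
    have hyK : y ∈ (algebraMap K L).range := by
      rw [map_pow] at hyu
      rcases eq_or_ne (algebraMap K L b) 0 with h0 | h0
      · rw [h0, zero_pow hp.ne_zero] at hyu
        exact ⟨0, by rw [map_zero, eq_zero_of_pow_eq_zero hyu]⟩
      have h2 : (y / algebraMap K L b) ^ p = 1 := by rw [div_pow, hyu, div_self (pow_ne_zero _ h0)]
      haveI : NeZero p := ⟨hp.ne_zero⟩
      obtain ⟨i, -, hi⟩ := (hζK.map_of_injective (algebraMap K L).injective).eq_pow_of_pow_eq_one h2
      exact ⟨algebraMap A K ζ ^ i * b, by rw [map_mul, map_pow, hi, div_mul_cancel₀ _ h0]⟩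
    have h1' : Module.finrank K L = 1 := by rw [hfin, minpoly.natDegree_eq_one_iff]; exact hyK
    have : (⊥ : IntermediateField K L) = ⊤ := by
      rw [← hgy]
      exact (IntermediateField.adjoin_simple_eq_bot_iff.2 hyK).symm
    exact ⟨IsGalois.of_algEquiv ((IntermediateField.botEquiv K L).symm.trans
      ((IntermediateField.equivOfEq this).trans IntermediateField.topEquiv)), Or.inl h1'⟩
  · push Not at hb
    have hirr := X_pow_sub_C_irreducible_of_prime hp hb
    have hdegL : Module.finrank K L = p := by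
      rw [hfin, ← minpoly.eq_of_irreducible_of_monic hirr hroot (monic_X_pow_sub_C u hp.ne_zero), natDegree_X_pow_sub_C]
    have hK : (primitiveRoots p K).Nonempty := ⟨_, (mem_primitiveRoots hp.pos).2 hζK⟩
    have hp' : (primitiveRoots (Module.finrank K L) K).Nonempty := hdegL.symm ▸ hK
    haveI := isSplittingField_X_pow_sub_C_of_root_adjoin_eq_top (K := K) (L := L) hp' (a := u) (α := y)
      (by rw [hdegL, hyu]) hgy
    refine ⟨?_, Or.inr hdegL⟩
    exact isGalois_of_isSplittingField_X_pow_sub_C (n := Module.finrank K L) hp' (hdegL.symm ▸ hirr) L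

include hp hζ hP in
/-- All Kummer type extensions fall under the four cases. -/
theorem kummer_cases (π : A) (hπ : Irreducible π) (ξ : K) (z : L) (hz : aeval z P = algebraMap K L ξ)
    (hgen : IntermediateField.adjoin K {z} = ⊤) : Cases A K L p := by
  classical
  haveI : Fact p.Prime := ⟨hp⟩
  obtain ⟨hmon, hdeg, hred⟩ := kummer_poly hp A K ζ hζ P hP
  obtain ⟨h1, hw0⟩ := kummer_primitive hp A K ζ hζ
  have hwm := kummer_w_mem hp A K ζ hζ
  obtain ⟨e, v, hv⟩ := IsDiscreteValuationRing.eq_unit_mul_pow_irreducible hw0 hπ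
  have he : 0 < e := Nat.pos_of_ne_zero fun h0 => by
    rw [h0, pow_zero, mul_one] at hv
    exact (mem_maximalIdeal _).1 hwm (hv ▸ v.isUnit)
  have hπ0 : algebraMap A K π ≠ 0 := fun h => hπ.ne_zero (IsFractionRing.injective A K (by rw [h, map_zero]))
  have hπL : algebraMap A L π ≠ 0 := by
    rw [IsScalarTower.algebraMap_apply A K L]; exact (_root_.map_ne_zero _).2 hπ0
  have hev : ∀ (n : ℕ) (ξ : K) (z : L) (a : A), aeval z P = algebraMap K L ξ →
      algebraMap A K a = ξ * algebraMap A K π ^ n →
      algebraMap A L π ^ n * aeval z P = algebraMap A L a := fun n ξ z a hz ha => by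
    rw [hz, IsScalarTower.algebraMap_apply A K L a, ha, map_mul, map_pow, ← IsScalarTower.algebraMap_apply, mul_comm]
  set W : K := algebraMap A K (1 - ζ) with hW
  have hW0 : W ≠ 0 := fun h => hw0 (IsFractionRing.injective A K (by rw [← hW, h, map_zero]))
  have hWL : algebraMap K L W = algebraMap A L (1 - ζ) := (IsScalarTower.algebraMap_apply A K L _).symm
  have hzu : ∀ (ξ : K) (z : L), aeval z P = algebraMap K L ξ →
      (1 + algebraMap K L W * z) ^ p = algebraMap K L (1 + W ^ p * ξ) := fun ξ z hz => by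
    rw [map_add, map_one, map_mul, map_pow, ← hz, hWL, kummer_eval A L ζ P hP]
    ring
  -- regeneration
  have hregen : ∀ (y : L), IntermediateField.adjoin K {y} = ⊤ → ∀ (c d : K), c ≠ 0 → ∀ (z' : L),
      y = algebraMap K L c * z' + algebraMap K L d → IntermediateField.adjoin K {z'} = ⊤ := by
    intro y hy c d _ z' hyz
    rw [eq_top_iff, ← hy, IntermediateField.adjoin_simple_le_iff, hyz]
    exact add_mem (mul_mem (IntermediateField.algebraMap_mem _ _) (IntermediateField.mem_adjoin_simple_self K z'))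
      (IntermediateField.algebraMap_mem _ _)
  -- poles smaller than that of `w⁻ᵖ`
  have hsmall : ∀ (n : ℕ), n + 1 ≤ p * e → ∀ (ξ : K) (z : L), aeval z P = algebraMap K L ξ →
      IntermediateField.adjoin K {z} = ⊤ → (∃ a : A, algebraMap A K a = ξ * algebraMap A K π ^ n) → Cases A K L p := by
    intro n
    induction n with
    | zero =>
      intro _ ξ z hz hgen ⟨a, ha⟩
      obtain ⟨hfd, -, hrk⟩ := kummer_galois hp ζ hζ P hP hmon hdeg ξ z hz hgen
      obtain ⟨_, _, hq⟩ := generator_facts K L hgen (minpoly.monic (IsIntegral.of_finite K z)) (minpoly.aeval K z)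
      rcases case_integral A K L hp inferInstance P hmon hdeg hred z hrk hq a
        (by simpa using hev 0 ξ z a hz ha) with h | h
      · exact Or.inl h
      · exact Or.inr (Or.inl h)
    | succ n ih =>
      intro hne ξ z hz hgen ⟨a, ha⟩
      obtain ⟨hfd, -, hrk⟩ := kummer_galois hp ζ hζ P hP hmon hdeg ξ z hz hgen
      have hd : Module.finrank K L ≤ p := by rcases hrk with h | h <;> rw [h]; exact hp.pos
      by_cases hau : IsUnit a
      swap
      · have hm : a ∈ maximalIdeal A := (mem_maximalIdeal a).2 hau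
        rw [hπ.maximalIdeal_eq, Ideal.mem_span_singleton] at hm
        obtain ⟨b, rfl⟩ := hm
        refine ih (by omega) ξ z hz hgen ⟨b, mul_left_cancel₀ hπ0 ?_⟩
        rw [← map_mul, ha, pow_succ]; ring
      by_cases hpn : p ∣ n + 1
      swap
      · exact Or.inr (Or.inr (Or.inl
          (case_pole_coprime A K L hp P hmon hdeg hd π hπ (n + 1) hau.unit hpn z (hev _ ξ z a hz ha))))
      by_cases hr : ∃ r : A, residue A a = residue A r ^ p
      swap
      · push Not at hr
        exact Or.inr (Or.inr (Or.inr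
          (case_pole_insep A K L hp inferInstance P hmon hdeg hd π hπ (n + 1) a n.succ_pos hpn hr z (hev _ ξ z a hz ha)).1))
      obtain ⟨r, hr⟩ := hr
      obtain ⟨m, hm⟩ := hpn
      have hm0 : 0 < m := Nat.pos_of_ne_zero fun h => by rw [h, mul_zero] at hm; omega
      have hme : m < e := Nat.lt_of_mul_lt_mul_left (a := p) (by omega)
      obtain ⟨b, hb, hbe⟩ := eval_pole A K P hmon hdeg π hπ (-r) m hm0
      obtain ⟨b', hb'⟩ : π ∣ a + b := by
        have h' : π ∣ a + (-r) ^ p := by
          rw [← Ideal.mem_span_singleton, ← hπ.maximalIdeal_eq, ← residue_eq_zero_iff, map_add, map_pow, map_neg,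
            neg_pow, neg_one_pow_char, hr]
          ring
        rw [show a + b = (a + (-r) ^ p) + (b - (-r) ^ p) by ring]
        exact dvd_add h' hb
      let c : K := algebraMap A K (-r) / algebraMap A K π ^ m
      have hWc : 1 + W * c = algebraMap A K (1 + ↑v * π ^ (e - m) * (-r)) := by
        show 1 + algebraMap A K (1 - ζ) * (algebraMap A K (-r) / algebraMap A K π ^ m) = _
        rw [hv, show π ^ e = π ^ (e - m) * π ^ m by rw [← pow_add, Nat.sub_add_cancel hme.le]]
        simp only [map_add, map_one, map_mul, map_pow]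
        field_simp
      have hne0 : 1 + W * c ≠ 0 := by
        rw [hWc]
        refine fun h => hπ.not_isUnit (isUnit_of_dvd_one ?_)
        have h' := IsFractionRing.injective A K (h.trans (map_zero _).symm)
        rw [eq_neg_of_add_eq_zero_left h', dvd_neg]
        exact ((dvd_pow_self π (by omega : e - m ≠ 0)).mul_left _).mul_right _
      let z' : L := z + algebraMap K L c + algebraMap K L W * z * algebraMap K L c
      let Pc : K := aeval c P
      have hPc : aeval (algebraMap K L c) P = algebraMap K L Pc := aeval_algebraMap_apply L c P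
      have hz' : aeval z' P = algebraMap K L (ξ + Pc + W ^ p * ξ * Pc) := by
        refine mul_left_cancel₀ (pow_ne_zero p (show algebraMap A L (1 - ζ) ≠ 0 by
          rw [← hWL]; exact (_root_.map_ne_zero _).2 hW0)) ?_
        rw [kummer_eval A L ζ P hP, show 1 + algebraMap A L (1 - ζ) * z' =
          (1 + algebraMap A L (1 - ζ) * z) * (1 + algebraMap A L (1 - ζ) * algebraMap K L c) by
            simp only [z', hWL]; ring, mul_pow]
        have e1 := kummer_eval A L ζ P hP z
        have e2 := kummer_eval A L ζ P hP (algebraMap K L c)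
        rw [hz] at e1
        rw [hPc] at e2
        simp only [map_add, map_mul, map_pow, hWL]
        linear_combination (-(1 + algebraMap A L (1 - ζ) * algebraMap K L c) ^ p) * e1
          - (1 + algebraMap A L (1 - ζ) ^ p * algebraMap K L ξ) * e2
      refine ih (by omega) _ z' hz' ?_ ?_
      · refine hregen z hgen (1 + W * c)⁻¹ (-(1 + W * c)⁻¹ * c) (inv_ne_zero hne0) z' ?_
        have : algebraMap K L (1 + W * c) ≠ 0 := (_root_.map_ne_zero _).2 hne0
        simp only [z', map_mul, map_neg, map_inv₀, map_add, map_one] at this ⊢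
        field_simp
        ring
      · obtain ⟨q, hq⟩ : π ^ (n + 2) ∣ (1 - ζ) ^ p := by
          rw [hv, mul_pow, ← pow_mul, mul_comm e p]
          exact (pow_dvd_pow π hne).mul_left _
        refine ⟨b' + q * a * b, mul_left_cancel₀ hπ0 ?_⟩
        have e3 : algebraMap A K π ^ (n + 1) * Pc = algebraMap A K b := by rw [hm]; exact hbe
        have e4 := congrArg (algebraMap A K) hq
        have e5 := congrArg (algebraMap A K) hb'
        rw [map_pow, ← hW, map_mul, map_pow] at e4
        rw [map_add, map_mul] at e5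
        simp only [map_add, map_mul]
        rw [e4]
        linear_combination (-1 : K) * e5 + ha - e3
          + algebraMap A K π * algebraMap A K q * algebraMap A K b * ha
          - algebraMap A K π * algebraMap A K q * (ξ * algebraMap A K π ^ (n + 1)) * e3
  -- general case
  obtain ⟨hfd, -, hrk⟩ := kummer_galois hp ζ hζ P hP hmon hdeg ξ z hz hgen
  have hd : Module.finrank K L ≤ p := by rcases hrk with h | h <;> rw [h]; exact hp.pos
  set y : L := 1 + algebraMap K L W * z with hy
  have hyu := hzu ξ z hz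
  rw [← hy] at hyu
  rcases eq_or_ne (1 + W ^ p * ξ) 0 with hu0 | hu0
  · left
    rw [hu0, map_zero] at hyu
    have hy0 := eq_zero_of_pow_eq_zero hyu
    have hzK : z ∈ (algebraMap K L).range := ⟨-W⁻¹, by
      have hWL0 : algebraMap K L W ≠ 0 := (_root_.map_ne_zero _).2 hW0
      rw [map_neg, map_inv₀]
      refine mul_left_cancel₀ hWL0 ?_
      rw [mul_neg, mul_inv_cancel₀ hWL0]
      linear_combination -(hy.symm.trans hy0)⟩
    have hint : IsIntegral K z := IsIntegral.of_finite K z
    have := IntermediateField.adjoin.finrank hint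
    rw [hgen, IntermediateField.finrank_top'] at this
    rw [this, minpoly.natDegree_eq_one_iff]
    exact hzK
  obtain ⟨s₀, a, ha⟩ := exists_pole A K π hπ (1 + W ^ p * ξ)
  have ha0 : a ≠ 0 := fun h => by
    rw [h, map_zero, eq_comm, mul_eq_zero] at ha
    exact ha.elim hu0 (pow_ne_zero _ hπ0)
  obtain ⟨i, α, rfl⟩ := IsDiscreteValuationRing.eq_unit_mul_pow_irreducible ha0 hπ
  -- shift by a multiple of `p`
  obtain ⟨N, q, r, hN, hr⟩ : ∃ N q r : ℕ, N = p * q + r ∧ r < p ∧ N + s₀ = i + p * s₀ :=
    ⟨i + (p - 1) * s₀, (i + (p - 1) * s₀) / p, (i + (p - 1) * s₀) % p, (Nat.div_add_mod _ p).symm,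
      Nat.mod_lt _ hp.pos, by rw [add_assoc, ← Nat.succ_mul, Nat.succ_eq_add_one, Nat.sub_add_cancel hp.pos]⟩
  obtain ⟨hrp, hNs⟩ := hr
  set x : L := y * algebraMap A L π ^ s₀ / algebraMap A L π ^ q with hx
  have hxp : x ^ p = algebraMap A L ↑α * algebraMap A L π ^ r := by
    have h2 : (1 + W ^ p * ξ) * algebraMap A K π ^ (p * s₀) = algebraMap A K α * algebraMap A K π ^ N := by
      refine mul_right_cancel₀ (pow_ne_zero s₀ hπ0) ?_
      rw [map_mul, map_pow] at ha
      rw [mul_assoc _ (algebraMap A K π ^ N), ← pow_add, hNs, pow_add]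
      linear_combination (-(algebraMap A K π ^ (p * s₀))) * ha
    have h3 := congrArg (algebraMap K L) h2
    rw [map_mul, map_mul, map_pow, map_pow, ← IsScalarTower.algebraMap_apply, ← IsScalarTower.algebraMap_apply,
      ← hyu, hN, pow_add] at h3
    rw [hx, div_pow, mul_pow, ← pow_mul, ← pow_mul, div_eq_iff (pow_ne_zero _ hπL), mul_comm q p, mul_comm s₀ p, h3]
    ring
  rcases Nat.eq_zero_or_pos r with rfl | hr0
  swap
  · -- totally ramified
    obtain ⟨s, hs⟩ := Nat.exists_mul_mod_eq_one_of_coprime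
      ((hp.coprime_iff_not_dvd.2 (fun h => (Nat.le_of_dvd hr0 h).not_gt hrp)).symm) hp.one_lt
    obtain ⟨t, ht⟩ : ∃ t, r * s = p * t + 1 := ⟨r * s / p, by
      conv_lhs => rw [← Nat.div_add_mod (r * s) p, hs.2]⟩
    obtain ⟨hfin, htot⟩ := totRam_of_pow A K L (x ^ s / algebraMap A L π ^ t) hp.pos π hπ hd fun V hV =>
      ⟨algebraMap A L ↑(α ^ s), hV.1 _, by
        rw [show (algebraMap A L ↑(α ^ s))⁻¹ = algebraMap A L ↑(α ^ s)⁻¹ from (map_units_inv (algebraMap A L) (α ^ s)).symm]
        exact hV.1 _, ((α ^ s).isUnit.map (algebraMap A L)).ne_zero, by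
        rw [div_pow, ← pow_mul, mul_comm s p, pow_mul, hxp, div_eq_iff (pow_ne_zero _ (pow_ne_zero _ hπL)),
          Units.val_pow_eq_pow_val, map_pow, mul_pow, ← pow_mul, ht, pow_succ, pow_mul]
        ring⟩
    exact Or.inr (Or.inr (Or.inl ⟨htot, hfin⟩))
  rw [pow_zero, mul_one] at hxp
  by_cases hap : ∃ ρ : A, residue A (α : A) = residue A ρ ^ p
  swap
  · push Not at hap
    refine Or.inr (Or.inr (Or.inr ?_))
    obtain ⟨-, h1, h2, h3⟩ := insep_of_pow A K L x hp inferInstance π hπ hd α hap fun V hV => by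
      have hxV : x ∈ V := by
        rcases V.mem_or_inv_mem x with hh | hh
        · exact hh
        rcases eq_or_ne x 0 with h0 | h0
        · rw [h0]; exact V.zero_mem
        have : x = algebraMap A L ↑α * x⁻¹ ^ (p - 1) := by
          rw [inv_pow, ← div_eq_mul_inv, eq_div_iff (pow_ne_zero _ h0), ← pow_succ', Nat.sub_add_cancel hp.pos, hxp]
        rw [this]
        exact mul_mem (hV.1 _) (pow_mem hh _)
      exact ⟨hxV, hV.1 _, (map_pow _ _ _).symm.trans (congrArg _ (Subtype.ext hxp))⟩
    exact ⟨h1, h2, h3⟩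
  obtain ⟨ρ, hρ⟩ := hap
  obtain ⟨ρ, rfl⟩ : IsUnit ρ := IsLocalRing.notMem_maximalIdeal.1 fun hm => by
    rw [(residue_eq_zero_iff ρ).2 hm, zero_pow hp.ne_zero] at hρ
    exact (α.isUnit.map (residue A)).ne_zero hρ
  -- normalise to `1 + w^p ξ'`
  set b : A := ↑α * (↑ρ⁻¹) ^ p with hbdef
  obtain ⟨b₁, hb₁⟩ : π ∣ b - 1 := by
    rw [← Ideal.mem_span_singleton, ← hπ.maximalIdeal_eq, ← residue_eq_zero_iff, map_sub, map_one, hbdef, map_mul,
      map_pow, hρ, ← mul_pow, ← map_mul, Units.mul_inv, map_one, one_pow, sub_self]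
  set z' : L := (x * algebraMap A L ↑ρ⁻¹ - 1) / algebraMap K L W with hz'def
  set ξ' : K := algebraMap A K (b - 1) / W ^ p with hξ'
  have hWL0 : algebraMap K L W ≠ 0 := (_root_.map_ne_zero _).2 hW0
  have hz' : aeval z' P = algebraMap K L ξ' := by
    refine mul_left_cancel₀ (pow_ne_zero p (hWL ▸ hWL0 : algebraMap A L (1 - ζ) ≠ 0)) ?_
    rw [kummer_eval A L ζ P hP, ← hWL, hz'def, mul_div_cancel₀ _ hWL0, add_sub_cancel, mul_pow, hxp, hξ', map_div₀,
      map_pow, mul_div_cancel₀ _ (pow_ne_zero _ hWL0), ← IsScalarTower.algebraMap_apply, map_sub, map_one, hbdef,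
      map_mul, map_pow]
  refine hsmall (p * e - 1) (by have := Nat.mul_pos hp.pos he; omega) ξ' z' hz' ?_ ?_
  · have hgy : IntermediateField.adjoin K {y} = ⊤ := hregen z hgen W⁻¹ (-W⁻¹) (inv_ne_zero hW0) y (by
      rw [hy, map_neg, map_inv₀]; field_simp; ring)
    refine hregen y hgy
      (algebraMap A K π ^ q * algebraMap A K ρ * W / algebraMap A K π ^ s₀)
      (algebraMap A K π ^ q * algebraMap A K ρ / algebraMap A K π ^ s₀)
      (div_ne_zero (mul_ne_zero (mul_ne_zero (pow_ne_zero _ hπ0) (ρ.isUnit.map (algebraMap A K)).ne_zero) hW0)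
        (pow_ne_zero _ hπ0)) z' ?_
    simp only [map_div₀, map_mul, map_pow, ← IsScalarTower.algebraMap_apply, hz'def, hx]
    have hρρ : algebraMap A L ↑ρ * algebraMap A L ↑ρ⁻¹ = 1 := by rw [← map_mul, Units.mul_inv, map_one]
    field_simp
    linear_combination (-(y * algebraMap A L π ^ s₀)) * hρρ
  · refine ⟨b₁ * ↑(v ^ p)⁻¹, ?_⟩
    have h1e : p * e = (p * e - 1) + 1 := (Nat.sub_add_cancel (Nat.mul_pos hp.pos he)).symm
    have hvp : algebraMap A K ↑(v ^ p)⁻¹ * algebraMap A K ↑v ^ p = 1 := by
      rw [← map_pow, ← Units.val_pow_eq_pow_val, ← map_mul, Units.inv_mul, map_one]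
    rw [hξ', hW, hv, hb₁, div_mul_eq_mul_div, eq_div_iff (pow_ne_zero _ (by
      rw [← hv, ← hW]; exact hW0))]
    simp only [map_mul, map_pow, mul_pow, ← pow_mul]
    rw [mul_comm e p]
    conv_lhs => rw [h1e, pow_succ]
    linear_combination (algebraMap A K b₁ * algebraMap A K π ^ (p * e - 1) * algebraMap A K π) * hvp

end Groth.Agent.EtRamH7
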