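import Groth.Agent.Lib.EtRamH7.PrimeExt
import Mathlib.FieldTheory.KummerExtension
import Mathlib.Algebra.CharP.Lemmas

/-!
# The ramification cases of extensions given by `P(z) = ξ` with `P ≡ X^p - X`
-/

universe u

open IsLocalRing Polynomial

namespace Groth.Agent.EtRamH7

variable (A : Type u) [CommRing A] [IsDomain A] [IsDiscreteValuationRing A]
    (K L : Type u) [Field K] [Field L] [Algebra A K] [IsFractionRing A K] [Algebra K L]
    [Algebra A L] [IsScalarTower A K L]

local notation "g" => algebraMap A L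

/-- The fourth case: unique weakly unramified valuation ring with inseparable residue extension. -/
def InsepCase (p : ℕ) : Prop :=
  (∃ V : ValuationSubring L, EtRam.Dominates A g V) ∧
    (∀ V V' : ValuationSubring L, EtRam.Dominates A g V → EtRam.Dominates A g V' → V = V') ∧
    ∀ (V : ValuationSubring L) (h : EtRam.Dominates A g V),
      letI : Algebra A V := (RingHom.codRestrict g V h.1).toAlgebra
      ∀ [IsLocalHom (algebraMap A V)],
        EtRam.IsWeaklyUnramified A V ∧
          IsPurelyInseparable (ResidueField A) (ResidueField V) ∧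
          Module.finrank (ResidueField A) (ResidueField V) = p

/-- One of the four ramification cases holds. -/
def Cases (p : ℕ) : Prop :=
  Module.finrank K L = 1 ∨ (EtRam.IsUnramifiedExt A g ∧ Module.finrank K L = p) ∨
    (EtRam.IsTotallyRamified A g ∧ Module.finrank K L = p) ∨ InsepCase A L p

omit [IsDomain A] [IsDiscreteValuationRing A] [Algebra A K] [IsFractionRing A K] [Algebra A L] [IsScalarTower A K L] in
/-- A generator satisfying a monic equation: finiteness, the degree bound and polynomial expressions. -/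
theorem generator_facts {z : L} (hgen : IntermediateField.adjoin K {z} = ⊤) {f : K[X]} (hf : f.Monic)
    (hz : aeval z f = 0) :
    FiniteDimensional K L ∧ Module.finrank K L ≤ f.natDegree ∧ ∀ y : L, ∃ q : K[X], aeval z q = y := by
  have hint : IsIntegral K z := ⟨f, hf, hz⟩
  have h1 := IntermediateField.adjoin.finiteDimensional hint
  have h2 := IntermediateField.adjoin.finrank hint
  rw [hgen] at h1 h2
  rw [IntermediateField.finrank_top'] at h2
  refine ⟨Module.Finite.equiv IntermediateField.topEquiv.toLinearEquiv, ?_, fun y => ?_⟩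
  · rw [h2]; exact natDegree_le_natDegree (minpoly.min K z hf hz)
  have hy : y ∈ (IntermediateField.adjoin K {z}).toSubalgebra := by rw [hgen]; trivial
  rw [IntermediateField.adjoin_simple_toSubalgebra_of_isAlgebraic hint.isAlgebraic,
    Algebra.adjoin_singleton_eq_range_aeval] at hy
  exact hy

include K in
/-- If `π^n P(z) = a` with `n > 0` and `a` a unit then `z^p π^n` is `a` up to a unit congruent to `1`. -/
theorem pole_root {p : ℕ} (P : A[X]) (hP : P.Monic) (hdeg : P.natDegree = p) (π : A) (hπ : Irreducible π)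
    {n : ℕ} (hn : 0 < n) (a : Aˣ) (z : L) (h : g π ^ n * aeval z P = g a)
    (V : ValuationSubring L) (hV : EtRam.Dominates A g V) :
    ∃ u : V, residue V u = 1 ∧ z ^ p * g π ^ n * u = g a := by
  classical
  letI : Algebra A V := (RingHom.codRestrict g V hV.1).toAlgebra
  haveI : IsLocalHom (algebraMap A V) := isLocalHom_cod hV
  haveI : IsScalarTower A V L := IsScalarTower.of_algebraMap_eq fun _ => rfl
  have hzV : z ∉ V := by
    intro hz
    have h1 : algebraMap A V π ^ n * aeval (⟨z, hz⟩ : V) P = algebraMap A V a := by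
      apply FaithfulSMul.algebraMap_injective V L
      rw [map_mul, map_pow, ← aeval_algebraMap_apply, ← IsScalarTower.algebraMap_apply, ← IsScalarTower.algebraMap_apply]
      exact h
    have h2 : IsUnit (algebraMap A V π ^ n) := isUnit_of_mul_isUnit_left (h1 ▸ a.isUnit.map _)
    rw [isUnit_pow_iff hn.ne'] at h2
    exact hπ.not_isUnit (isUnit_of_map_unit (algebraMap A V) π h2)
  have hw : z⁻¹ ∈ V := (V.mem_or_inv_mem z).resolve_left hzV
  have hz0 : z ≠ 0 := fun h0 => hzV (h0 ▸ V.zero_mem)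
  let W : V := ⟨z⁻¹, hw⟩
  have hWm : W ∈ maximalIdeal V := fun hu => by
    obtain ⟨v, hv⟩ := hu.exists_right_inv
    have h1 : z⁻¹ * v.1 = 1 := congrArg Subtype.val hv
    rw [inv_mul_eq_iff_eq_mul₀ hz0, mul_one] at h1
    exact hzV (h1 ▸ v.2)
  refine ⟨1 + ∑ i ∈ Finset.range p, algebraMap A V (P.coeff i) * W ^ (p - i), ?_, ?_⟩
  · rw [map_add, map_one, map_sum, Finset.sum_eq_zero, add_zero]
    intro i hi
    rw [Finset.mem_range] at hi
    rw [map_mul, map_pow, (residue_eq_zero_iff _).2 hWm, zero_pow (by omega), mul_zero]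
  rw [← h]
  conv_rhs => rw [hP.as_sum, hdeg]
  rw [map_add, map_pow, aeval_X, map_sum]
  push_cast
  rw [mul_add, mul_add, mul_one, mul_comm (g π ^ n), mul_comm (g π ^ n), Finset.mul_sum, Finset.sum_mul]
  congr 1
  refine Finset.sum_congr rfl fun i hi => ?_
  rw [Finset.mem_range] at hi
  rw [map_mul, aeval_C, map_pow, aeval_X]
  show z ^ p * g π ^ n * (g (P.coeff i) * z⁻¹ ^ (p - i)) = _
  have : z ^ p * z⁻¹ ^ (p - i) = z ^ i := by
    rw [inv_pow, ← div_eq_mul_inv, div_eq_iff (pow_ne_zero _ hz0), ← pow_add]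
    congr 1
    omega
  rw [← this]
  ring

variable [FiniteDimensional K L]

include K in
/-- Case (B): a pole of order prime to `p`. -/
theorem case_pole_coprime {p : ℕ} (hp : p.Prime) (P : A[X]) (hP : P.Monic) (hdeg : P.natDegree = p)
    (hd : Module.finrank K L ≤ p) (π : A) (hπ : Irreducible π) (n : ℕ) (a : Aˣ) (hn : ¬ p ∣ n) (z : L)
    (h : g π ^ n * aeval z P = g a) : EtRam.IsTotallyRamified A g ∧ Module.finrank K L = p := by
  classical
  have hn0 : 0 < n := Nat.pos_of_ne_zero fun h0 => hn (h0 ▸ dvd_zero p)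
  obtain ⟨s, hs⟩ := Nat.exists_mul_mod_eq_one_of_coprime
    ((hp.coprime_iff_not_dvd.2 hn).symm) hp.one_lt
  obtain ⟨t, ht⟩ : ∃ t, n * s = p * t + 1 := ⟨n * s / p, by
    conv_lhs => rw [← Nat.div_add_mod (n * s) p, hs.2]⟩
  have hg0 : g π ≠ 0 := by
    rw [IsScalarTower.algebraMap_apply A K L]
    exact fun h0 => hπ.ne_zero (IsFractionRing.injective A K (by
      rw [(map_eq_zero (algebraMap K L)).1 h0, map_zero]))
  obtain ⟨hfin, htot⟩ := totRam_of_pow A K L ((z ^ s)⁻¹ / g π ^ t) hp.pos π hπ hd fun V hV => by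
    obtain ⟨u, hu1, hu⟩ := pole_root A K L P hP hdeg π hπ hn0 a z h V hV
    have huu : IsUnit u := IsLocalRing.notMem_maximalIdeal.1 fun hm => by
      rw [(residue_eq_zero_iff u).2 hm] at hu1; exact zero_ne_one hu1
    let c : Vˣ := huu.unit * (a⁻¹).map (RingHom.codRestrict g V hV.1)
    refine ⟨((c : V) : L) ^ s, pow_mem (c : V).2 s, ?_, ?_, ?_⟩
    · have h1 : ((c : V) : L)⁻¹ = (((c⁻¹ : Vˣ) : V) : L) :=
        (eq_inv_of_mul_eq_one_right (congrArg Subtype.val c.mul_inv)).symm
      rw [← inv_pow, h1]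
      exact pow_mem ((c⁻¹ : Vˣ) : V).2 s
    · exact pow_ne_zero _ fun h0 => c.ne_zero (Subtype.ext h0)
    have hc : z ^ p * g π ^ n * ((c : V) : L) = 1 := by
      show z ^ p * g π ^ n * (u.1 * g ↑a⁻¹) = 1
      rw [← mul_assoc, hu, ← map_mul, Units.mul_inv, map_one]
    have hz0 : z ≠ 0 := fun h0 => by
      rw [h0, zero_pow hp.ne_zero, zero_mul, zero_mul] at hc; exact zero_ne_one hc
    have h3 : (z ^ p * g π ^ n * ((c : V) : L)) ^ s = 1 := by rw [hc, one_pow]
    rw [mul_pow, mul_pow, ← pow_mul, ← pow_mul, ht, pow_succ] at h3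
    rw [div_pow, inv_pow, ← pow_mul, ← pow_mul, mul_comm s p, mul_comm t p,
      div_eq_iff (pow_ne_zero _ hg0), inv_eq_iff_eq_inv]
    refine eq_inv_of_mul_eq_one_left ?_
    linear_combination h3
  exact ⟨htot, hfin⟩

include K in
/-- Case (C): a pole of order divisible by `p` with leading residue not a `p`-th power. -/
theorem case_pole_insep {p : ℕ} (hp : p.Prime) (hchar : CharP (ResidueField A) p) (P : A[X]) (hP : P.Monic)
    (hdeg : P.natDegree = p) (hd : Module.finrank K L ≤ p) (π : A) (hπ : Irreducible π) (n : ℕ) (a : A)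
    (hn0 : 0 < n) (hn : p ∣ n) (ha : ∀ r : A, residue A a ≠ residue A r ^ p) (z : L)
    (h : g π ^ n * aeval z P = g a) : InsepCase A L p ∧ Module.finrank K L = p := by
  classical
  obtain ⟨m, rfl⟩ := hn
  have hau : IsUnit a := IsLocalRing.notMem_maximalIdeal.1 fun hm =>
    ha 0 (by rw [(residue_eq_zero_iff a).2 hm, map_zero, zero_pow hp.ne_zero])
  obtain ⟨a, rfl⟩ := hau
  obtain ⟨hfin, h1, h2, h3⟩ := insep_of_pow A K L (g π ^ m * z) hp hchar π hπ hd a ha fun V hV => by
    obtain ⟨u, hu1, hu⟩ := pole_root A K L P hP hdeg π hπ hn0 a z h V hV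
    have huu : IsUnit u := IsLocalRing.notMem_maximalIdeal.1 fun hm => by
      rw [(residue_eq_zero_iff u).2 hm] at hu1; exact zero_ne_one hu1
    have hxp : (g π ^ m * z) ^ p * u.1 = g a := by
      rw [← hu, mul_pow, ← pow_mul, mul_comm m p]; ring
    have hxV : g π ^ m * z ∈ V := by
      rcases V.mem_or_inv_mem (g π ^ m * z) with hh | hh
      · exact hh
      rcases eq_or_ne (g π ^ m * z) 0 with h0 | h0
      · rw [h0]; exact V.zero_mem
      obtain ⟨v, hv⟩ := huu.exists_right_inv
      have hv' : u.1 * v.1 = 1 := congrArg Subtype.val hv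
      have : g π ^ m * z = g a * v.1 * (g π ^ m * z)⁻¹ ^ (p - 1) := by
        rw [inv_pow, ← div_eq_mul_inv, eq_div_iff (pow_ne_zero _ h0), ← pow_succ', Nat.sub_add_cancel hp.pos,
          ← hxp, mul_assoc, hv', mul_one]
      rw [this]
      exact mul_mem (mul_mem (hV.1 _) v.2) (pow_mem hh _)
    refine ⟨hxV, hV.1 _, ?_⟩
    have h4 := congrArg (residue V) (show (⟨_, hxV⟩ : V) ^ p * u = ⟨g a, hV.1 _⟩ from Subtype.ext hxp)
    rwa [map_mul, hu1, mul_one, map_pow] at h4
  exact ⟨⟨h1, h2, h3⟩, hfin⟩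

include K in
/-- Case (A): `ξ` integral. -/
theorem case_integral {p : ℕ} (hp : p.Prime) (hchar : CharP (ResidueField A) p) (P : A[X]) (hP : P.Monic)
    (hdeg : P.natDegree = p) (hred : P.map (residue A) = X ^ p - X) (z : L)
    (hrk : Module.finrank K L = 1 ∨ Module.finrank K L = p)
    (hgen : ∀ y : L, ∃ q : K[X], aeval z q = y) (a : A) (h : aeval z P = g a) :
    Module.finrank K L = 1 ∨ (EtRam.IsUnramifiedExt A g ∧ Module.finrank K L = p) := by
  rcases hrk with h1 | h1
  · exact Or.inl h1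
  refine Or.inr ⟨unram_of_root A K L z (P - C a) ?_ ?_ (by rw [map_sub, aeval_C, h, sub_self]) hgen, h1⟩
  · exact hP.sub_of_left (degree_C_le.trans_lt (by
      rw [degree_eq_natDegree hP.ne_zero, hdeg]; exact_mod_cast hp.pos))
  haveI := hchar
  rw [Polynomial.map_sub, hred, map_C, separable_def, derivative_sub, derivative_C, sub_zero, derivative_sub,
    derivative_X_pow, CharP.cast_eq_zero, C_0, zero_mul, derivative_X, zero_sub]
  exact IsCoprime.neg_right isCoprime_one_right

omit [Algebra A L] [IsScalarTower A K L] [FiniteDimensional K L] in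
/-- Evaluation of `P` at `r / π^m`, cleared of denominators. -/
theorem eval_pole {p : ℕ} (P : A[X]) (hP : P.Monic) (hdeg : P.natDegree = p) (π : A) (hπ : Irreducible π)
    (r : A) (m : ℕ) (hm : 0 < m) :
    ∃ b : A, π ∣ b - r ^ p ∧
      algebraMap A K π ^ (p * m) * aeval (algebraMap A K r / algebraMap A K π ^ m) P = algebraMap A K b := by
  have hπ0 : algebraMap A K π ≠ 0 := fun h => hπ.ne_zero (IsFractionRing.injective A K (by rw [h, map_zero]))
  refine ⟨r ^ p + π * ∑ i ∈ Finset.range p, P.coeff i * r ^ i * π ^ (m * (p - i) - 1), ⟨_, add_sub_cancel_left _ _⟩, ?_⟩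
  conv_lhs => rw [hP.as_sum, hdeg]
  rw [map_add, map_add, map_pow, aeval_X, map_sum, mul_add, map_mul, map_sum, Finset.mul_sum, Finset.mul_sum,
    map_pow, div_pow, ← pow_mul, mul_comm m p, mul_div_cancel₀ _ (pow_ne_zero _ hπ0)]
  congr 1
  refine Finset.sum_congr rfl fun i hi => ?_
  rw [Finset.mem_range] at hi
  rw [map_mul (aeval (algebraMap A K r / algebraMap A K π ^ m)), aeval_C, map_pow (aeval (algebraMap A K r / algebraMap A K π ^ m)),
    aeval_X, map_mul, map_mul, map_pow, map_pow, div_pow, ← pow_mul]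
  have h1 : 1 ≤ m * (p - i) := Nat.mul_pos hm (by omega)
  have h2 : p * m = (m * (p - i) - 1) + 1 + m * i := by
    rw [Nat.sub_add_cancel h1, ← Nat.mul_add, Nat.sub_add_cancel hi.le, mul_comm]
  rw [h2, pow_add, pow_succ, mul_assoc, mul_div_assoc']
  field_simp

omit [Algebra A L] [IsScalarTower A K L] [FiniteDimensional K L] in
/-- Every element has a pole of bounded order. -/
theorem exists_pole (π : A) (hπ : Irreducible π) (ξ : K) :
    ∃ (n : ℕ) (a : A), algebraMap A K a = ξ * algebraMap A K π ^ n := by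
  obtain ⟨b, c, hc, rfl⟩ := IsFractionRing.div_surjective A ξ
  obtain ⟨n, v, rfl⟩ := IsDiscreteValuationRing.eq_unit_mul_pow_irreducible (nonZeroDivisors.ne_zero hc) hπ
  refine ⟨n, b * ↑v⁻¹, ?_⟩
  have hπ0 : algebraMap A K π ≠ 0 := fun h => hπ.ne_zero (IsFractionRing.injective A K (by rw [h, map_zero]))
  rw [map_mul, map_mul, map_pow, map_units_inv]
  field_simp

end Groth.Agent.EtRamH7
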