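import Groth.Agent.Lib.EtRamH7.PrimeExt
import Groth.Agent.Lib.EtRamH7.ASKummer
import Mathlib.RingTheory.TensorProduct.Basic
import Mathlib.RingTheory.PowerBasis

/-!
# Eisenstein–Artin–Schreier extensions `r ^ p = π + π ^ Q r`
-/

universe u

open IsLocalRing Polynomial
open scoped TensorProduct

namespace Groth.Agent.EtRamH7

/-- `X ^ p - c X - π` has no root when `c ∈ (π ^ 2)`. -/
theorem no_root_eis {B L : Type u} [CommRing B] [IsDomain B] [IsDiscreteValuationRing B] [Field L] [Algebra B L]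
    [IsFractionRing B L] {p : ℕ} (hp : 2 ≤ p) (π : B) (hπ : Irreducible π) (c : B) (hc : π ∣ c) (b : L) :
    b ^ p - algebraMap B L c * b ≠ algebraMap B L π := by
  intro hb
  rcases ValuationRing.isInteger_or_isInteger B b with ⟨a, rfl⟩ | ⟨a, ha⟩
  · have h : a ^ p - c * a = π := IsFractionRing.injective B L (by rw [map_sub, map_pow, map_mul, hb])
    have hap : π ∣ a ^ p := ⟨1 + hc.choose * a, by linear_combination h + a * hc.choose_spec⟩
    obtain ⟨a', rfl⟩ : π ∣ a := hπ.prime.dvd_of_dvd_pow hap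
    obtain ⟨d, rfl⟩ := hc
    refine hπ.not_isUnit (IsUnit.of_mul_eq_one (π ^ (p - 2) * a' ^ p - d * a') ?_)
    refine mul_left_cancel₀ hπ.ne_zero ?_
    obtain ⟨k, rfl⟩ := Nat.exists_eq_add_of_le hp
    rw [Nat.add_sub_cancel_left]
    linear_combination h
  · rcases eq_or_ne b 0 with rfl | h0
    · rw [zero_pow (by omega), mul_zero, sub_zero] at hb
      exact hπ.ne_zero (IsFractionRing.injective B L (by rw [← hb, map_zero]))
    have h : 1 - c * a ^ (p - 1) = π * a ^ p := IsFractionRing.injective B L (by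
      simp only [map_sub, map_one, map_mul, map_pow, ha, ← hb]
      obtain ⟨k, rfl⟩ := Nat.exists_eq_add_of_le hp
      rw [show 2 + k - 1 = k + 1 by omega, show 2 + k = (k + 1) + 1 by omega, inv_pow, inv_pow]
      field_simp
      ring)
    obtain ⟨d, rfl⟩ := hc
    exact hπ.not_isUnit (IsUnit.of_mul_eq_one (d * a ^ (p - 1) + a ^ p) (by linear_combination -h))

variable (B L : Type u) [CommRing B] [IsDomain B] [IsDiscreteValuationRing B] [Field L] [Algebra B L]
    [IsFractionRing B L] (M : Type u) [Field M] [Algebra L M] [FiniteDimensional L M] [Algebra B M]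
    [IsScalarTower B L M]

include L in
/-- Facts about an extension of degree at most `p` containing a root of `X ^ p - c X - π`. -/
theorem eis_facts {p : ℕ} (hp : 2 ≤ p) (π : B) (hπ : Irreducible π) (d : B) (hd : π ∣ d) (x : M)
    (hx : x ^ p = algebraMap B M π * (1 + algebraMap B M d * x)) (hdim : Module.finrank L M ≤ p) :
    Module.finrank L M = p ∧ EtRam.IsTotallyRamified B (algebraMap B M) ∧
    ∀ V : ValuationSubring M, EtRam.Dominates B (algebraMap B M) V →
      ∃ hxV : x ∈ V, maximalIdeal V = Ideal.span {(⟨x, hxV⟩ : V)} := by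
  have hp0 : 0 < p := by omega
  have hxV : ∀ V : ValuationSubring M, EtRam.Dominates B (algebraMap B M) V → x ∈ V := by
    intro V hV
    rcases V.mem_or_inv_mem x with h | h
    · exact h
    rcases eq_or_ne x 0 with h0 | h0
    · rw [h0]; exact V.zero_mem
    obtain ⟨k, hk⟩ := Nat.exists_eq_add_of_le hp
    have : x = algebraMap B M π * x⁻¹ ^ (k + 1) + algebraMap B M π * algebraMap B M d * x⁻¹ ^ k := by
      refine mul_right_cancel₀ (pow_ne_zero (k + 1) h0) ?_
      have h1 : x⁻¹ ^ (k + 1) * x ^ (k + 1) = 1 := by rw [← mul_pow, inv_mul_cancel₀ h0, one_pow]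
      have h2 : x⁻¹ ^ k * x ^ k = 1 := by rw [← mul_pow, inv_mul_cancel₀ h0, one_pow]
      rw [hk] at hx
      linear_combination hx - algebraMap B M π * h1 - algebraMap B M π * algebraMap B M d * x * h2
    rw [this]
    exact add_mem (mul_mem (hV.1 _) (pow_mem h _)) (mul_mem (mul_mem (hV.1 _) (hV.1 _)) (pow_mem h _))
  have hw : ∀ V : ValuationSubring M, EtRam.Dominates B (algebraMap B M) V →
      ∃ w : M, w ∈ V ∧ w⁻¹ ∈ V ∧ w ≠ 0 ∧ x ^ p = algebraMap B M π * w := by
    intro V hV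
    let w : V := 1 + ⟨algebraMap B M d, hV.1 d⟩ * ⟨x, hxV V hV⟩
    have hdm : (⟨algebraMap B M d, hV.1 d⟩ : V) ∈ maximalIdeal V :=
      (V.valuation_lt_one_iff _).2 (hV.2 d (by rw [hπ.maximalIdeal_eq, Ideal.mem_span_singleton]; exact hd))
    have hwu : IsUnit w := IsLocalRing.notMem_maximalIdeal.1 fun h => by
      have : (1 : V) ∈ maximalIdeal V := by
        have := (maximalIdeal V).sub_mem h (Ideal.mul_mem_right ⟨x, hxV V hV⟩ _ hdm)
        rwa [add_sub_cancel_right] at this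
      exact (mem_maximalIdeal _).1 this isUnit_one
    obtain ⟨v, hv⟩ := hwu.exists_right_inv
    have hv' : w.1 * v.1 = 1 := congrArg Subtype.val hv
    exact ⟨w.1, w.2, by rw [← eq_inv_of_mul_eq_one_right hv']; exact v.2, fun h => by
      rw [h, zero_mul] at hv'; exact zero_ne_one hv', hx⟩
  obtain ⟨hfin, htot⟩ := totRam_of_pow B L M x hp0 π hπ hdim hw
  obtain ⟨-, -, hbas⟩ := basis_of_pow B L M x hp0 π hπ hdim hw
  refine ⟨hfin, htot, fun V hV => ⟨hxV V hV, ?_⟩⟩
  letI : Algebra B V := (RingHom.codRestrict (algebraMap B M) V hV.1).toAlgebra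
  haveI : IsLocalHom (algebraMap B V) := isLocalHom_cod hV
  obtain ⟨w, hwV, hwV', hw0, hxw⟩ := hw V hV
  have hπV : algebraMap B V π = (⟨x, hxV V hV⟩ : V) ^ p * ⟨w⁻¹, hwV'⟩ := Subtype.ext (by
    show algebraMap B M π = x ^ p * w⁻¹
    rw [hxw, mul_assoc, mul_inv_cancel₀ hw0, mul_one])
  have hxm : (⟨x, hxV V hV⟩ : V) ∈ maximalIdeal V := by
    refine Ideal.IsPrime.mem_of_pow_mem (Ideal.IsMaximal.isPrime inferInstance) p ?_
    rw [show (⟨x, hxV V hV⟩ : V) ^ p = algebraMap B V π * ⟨w, hwV⟩ from Subtype.ext hxw]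
    exact Ideal.mul_mem_right _ _ ((V.valuation_lt_one_iff _).2 (hV.2 π ((mem_maximalIdeal π).2 hπ.not_isUnit)))
  refine le_antisymm (fun y hy => ?_) ((Ideal.span_singleton_le_iff_mem _).2 hxm)
  obtain ⟨e, he⟩ := (hbas V hV).2 y.1 y.2
  have hy' : y = ∑ i, algebraMap B V (e i) * (⟨x, hxV V hV⟩ : V) ^ (i : ℕ) := by
    apply Subtype.ext
    push_cast
    exact he
  obtain ⟨J, hJ⟩ : ∃ J : Ideal V, J = Ideal.span {(⟨x, hxV V hV⟩ : V)} := ⟨_, rfl⟩
  have hxJ : (⟨x, hxV V hV⟩ : V) ∈ J := by rw [hJ]; exact Ideal.mem_span_singleton_self _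
  rw [← hJ]
  have hxi : ∀ i : Fin p, (i : ℕ) ≠ 0 → algebraMap B V (e i) * (⟨x, hxV V hV⟩ : V) ^ (i : ℕ) ∈ J := fun i hi =>
    J.mul_mem_left _ (Ideal.pow_mem_of_mem J hxJ _ (Nat.pos_of_ne_zero hi))
  rw [hy']
  refine sum_mem fun i _ => ?_
  by_cases hi : (i : ℕ) = 0
  swap
  · exact hxi i hi
  have he0 : algebraMap B V (e i) ∈ maximalIdeal V := by
    rw [← residue_eq_zero_iff]
    have h1 := (residue_eq_zero_iff y).2 hy
    rw [hy', map_sum, Finset.sum_eq_single i] at h1
    · rwa [hi, pow_zero, mul_one] at h1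
    · intro j _ hj
      rw [map_mul, map_pow, (residue_eq_zero_iff _).2 hxm, zero_pow (fun h => hj (Fin.ext (by rw [hi, h]))), mul_zero]
    · simp
  have hei : π ∣ e i := by
    rw [← Ideal.mem_span_singleton, ← hπ.maximalIdeal_eq, mem_maximalIdeal]
    exact fun hu => (mem_maximalIdeal _).1 he0 (hu.map _)
  obtain ⟨e', he'⟩ := hei
  rw [hi, pow_zero, mul_one, he', map_mul, hπV]
  exact J.mul_mem_right _ (J.mul_mem_right _ (Ideal.pow_mem_of_mem J hxJ _ hp0))

/-- Base change of such an extension to a field without root stays a field. -/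
theorem isField_tensor {p : ℕ} {K K₁ : Type u} [Field K] [Field K₁] [Algebra K K₁] [FiniteDimensional K K₁]
    (hK₁ : Module.finrank K K₁ = p) (r : K₁) (hli : LinearIndependent K fun i : Fin p => r ^ (i : ℕ))
    (F E : Type u) [Field F] [Algebra K F] [Field E] [Algebra F E] [Algebra K E] [IsScalarTower K F E]
    (hE : Module.finrank F E = p) (s : E) (hs : LinearIndependent F fun i : Fin p => s ^ (i : ℕ))
    (hrel : ∀ f : K[X], aeval r f = 0 → aeval s f = 0) : IsField (F ⊗[K] K₁) := by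
  haveI : Nonempty (Fin p) := ⟨⟨0, hK₁ ▸ Module.finrank_pos⟩⟩
  haveI : FiniteDimensional F E := Module.finite_of_finrank_pos (hE ▸ hK₁ ▸ Module.finrank_pos)
  let b := basisOfLinearIndependentOfCardEqFinrank hli (by rw [Fintype.card_fin, hK₁])
  let pb : PowerBasis K K₁ := ⟨r, p, b, fun i => by simp [b, coe_basisOfLinearIndependentOfCardEqFinrank]⟩
  let j : K₁ →ₐ[K] E := pb.lift s (hrel _ (minpoly.aeval K r))
  let Φ : F ⊗[K] K₁ →ₐ[F] E := Algebra.TensorProduct.lift (Algebra.ofId F E) j fun _ _ => .all _ _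
  have hΦ : ∀ (f : F) (z : K₁), Φ (f ⊗ₜ z) = algebraMap F E f * j z := fun f z => by simp [Φ]
  have hsurj : Function.Surjective Φ := by
    intro y
    have hy : y ∈ Submodule.span F (Set.range fun i : Fin p => s ^ (i : ℕ)) := by
      rw [hs.span_eq_top_of_card_eq_finrank' (by rw [Fintype.card_fin, hE])]
      exact Submodule.mem_top
    refine (Submodule.span_le.2 ?_ : _ ≤ LinearMap.range Φ.toLinearMap) hy
    rintro _ ⟨i, rfl⟩
    refine ⟨(1 : F) ⊗ₜ (r ^ (i : ℕ)), ?_⟩
    rw [AlgHom.toLinearMap_apply]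
    show Φ ((1 : F) ⊗ₜ (r ^ (i : ℕ))) = _
    rw [hΦ, map_one, one_mul, map_pow]
    exact congrArg (· ^ (i : ℕ)) (pb.lift_gen s (hrel _ (minpoly.aeval K r)))
  have hinj : Function.Injective Φ :=
    (LinearMap.injective_iff_surjective_of_finrank_eq_finrank (f := Φ.toLinearMap)
      (by rw [Module.finrank_baseChange, hK₁, hE])).2 hsurj
  exact (RingEquiv.ofBijective Φ.toRingHom ⟨hinj, hsurj⟩).toMulEquiv.isField (Field.toIsField E)

end Groth.Agent.EtRamH7
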