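import Groth.Agent.Lib.EtRamH7.ASKummer

/-!
# Artin–Schreier extensions
-/

universe u

open IsLocalRing Polynomial

namespace Groth.Agent.EtRamH7

variable {p : ℕ} (hp : p.Prime) (K L : Type u) [Field K] [Field L] [Algebra K L] [CharP K p]

include hp in
theorem as_galois (ξ : K) (z : L) (hz : z ^ p - z = algebraMap K L ξ) (hgen : IntermediateField.adjoin K {z} = ⊤) :
    FiniteDimensional K L ∧ IsGalois K L ∧ (Module.finrank K L = 1 ∨ Module.finrank K L = p) := by
  classical
  haveI : Fact p.Prime := ⟨hp⟩
  haveI : CharP L p := charP_of_injective_algebraMap (algebraMap K L).injective p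
  haveI : ExpChar L p := ExpChar.prime hp
  have hmon : (X ^ p - X - C ξ : K[X]).Monic := by
    rw [sub_sub]; exact monic_X_pow_sub (by
      rw [degree_X_add_C]; exact_mod_cast hp.one_lt)
  have hdeg : (X ^ p - X - C ξ : K[X]).natDegree = p := by
    rw [sub_sub]
    exact natDegree_sub_eq_left_of_natDegree_lt (by rw [natDegree_X_add_C, natDegree_X_pow]; exact hp.one_lt) |>.trans
      (natDegree_X_pow p)
  have hroot : aeval z (X ^ p - X - C ξ : K[X]) = 0 := by simp [hz]
  obtain ⟨hfd, hle, hq⟩ := generator_facts K L hgen hmon hroot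
  haveI := hfd
  have hf0 : (X ^ p - X - C ξ : K[X]).map (algebraMap K L) ≠ 0 := (hmon.map _).ne_zero
  let R : Finset L := (Finset.range p).image fun i : ℕ => z + (i : L)
  have hR : R.card = p := by
    rw [Finset.card_image_of_injOn, Finset.card_range]
    intro i hi j hj hij
    simp only [Finset.coe_range, Set.mem_Iio] at hi hj
    exact CharP.natCast_injOn_Iio L p hi hj (add_left_cancel hij)
  have hRroot : R ⊆ ((X ^ p - X - C ξ : K[X]).map (algebraMap K L)).roots.toFinset := by
    intro x hx
    simp only [R, Finset.mem_image, Finset.mem_range] at hx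
    obtain ⟨i, -, rfl⟩ := hx
    rw [Multiset.mem_toFinset, mem_roots hf0, IsRoot.def, eval_map, ← aeval_def]
    have hfix : ((i : L)) ^ p = i := by
      rw [← map_natCast (ZMod.castHom (dvd_refl p) L) i, ← map_pow, ZMod.pow_card]
    simp only [map_sub, map_pow, aeval_X, aeval_C, add_pow_char, hfix]
    rw [← hz]; ring
  have hsplit : ((X ^ p - X - C ξ : K[X]).map (algebraMap K L)).Splits := by
    rw [splits_iff_card_roots]
    refine le_antisymm (card_roots' _) ?_
    calc ((X ^ p - X - C ξ : K[X]).map (algebraMap K L)).natDegree = R.card := by rw [natDegree_map, hdeg, hR]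
      _ ≤ _ := (Finset.card_le_card hRroot).trans (Multiset.toFinset_card_le _)
  have hsepf : (X ^ p - X - C ξ : K[X]).Separable := by
    rw [separable_def, derivative_sub, derivative_C, sub_zero, derivative_sub, derivative_X_pow,
      CharP.cast_eq_zero, C_0, zero_mul, derivative_X, zero_sub]
    exact IsCoprime.neg_right isCoprime_one_right
  haveI : IsSplittingField K L (X ^ p - X - C ξ : K[X]) := ⟨hsplit, by
    rw [eq_top_iff]
    intro y _
    obtain ⟨q, rfl⟩ := hq y
    exact Algebra.adjoin_mono (Set.singleton_subset_iff.2 ((mem_rootSet_of_ne hmon.ne_zero).2 hroot))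
      (aeval_mem_adjoin_singleton K z)⟩
  refine ⟨hfd, IsGalois.of_separable_splitting_field hsepf, ?_⟩
  -- the degree
  by_cases hd : Module.finrank K L = p
  · exact Or.inr hd
  left
  have hint : IsIntegral K z := ⟨_, hmon, hroot⟩
  have hdvd : (minpoly K z).map (algebraMap K L) ∣ (X ^ p - X - C ξ : K[X]).map (algebraMap K L) :=
    Polynomial.map_dvd _ (minpoly.dvd K z hroot)
  have hsp : ((minpoly K z).map (algebraMap K L)).Splits := hsplit.of_dvd hf0 hdvd
  have hrsub : ((minpoly K z).map (algebraMap K L)).roots ≤ ((X ^ p - X - C ξ : K[X]).map (algebraMap K L)).roots :=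
    roots.le_of_dvd hf0 hdvd
  have hall : ((X ^ p - X - C ξ : K[X]).map (algebraMap K L)).roots.toFinset = R :=
    (Finset.eq_of_subset_of_card_le hRroot ((Multiset.toFinset_card_le _).trans ((card_roots' _).trans
      (by rw [natDegree_map, hdeg, hR])))).symm
  have hK : ∀ x ∈ ((minpoly K z).map (algebraMap K L)).roots, ∃ i : K, x = z + algebraMap K L i := by
    intro x hx
    have : x ∈ R := hall ▸ Multiset.mem_toFinset.2 (Multiset.mem_of_le hrsub hx)
    simp only [R, Finset.mem_image] at this
    obtain ⟨i, -, rfl⟩ := this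
    exact ⟨i, by rw [map_natCast]⟩
  have hsumK : ∀ s : Multiset L, (∀ x ∈ s, ∃ i : K, x = z + algebraMap K L i) →
      ∃ i : K, s.sum = (Multiset.card s : L) * z + algebraMap K L i := by
    intro s
    induction s using Multiset.induction_on with
    | empty => exact fun _ => ⟨0, by simp⟩
    | cons x s ih =>
      intro hs
      obtain ⟨i, hi⟩ := hs x (Multiset.mem_cons_self x s)
      obtain ⟨j, hj⟩ := ih fun y hy => hs y (Multiset.mem_cons_of_mem hy)
      refine ⟨i + j, ?_⟩
      rw [Multiset.sum_cons, hi, hj, Multiset.card_cons, map_add, Nat.cast_succ]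
      ring
  obtain ⟨i, hi⟩ := hsumK _ hK
  have hnc := hsp.nextCoeff_eq_neg_sum_roots_of_monic ((minpoly.monic hint).map _)
  rw [nextCoeff_map (algebraMap K L).injective, hi, ← hsp.natDegree_eq_card_roots, natDegree_map] at hnc
  have hfin : Module.finrank K L = (minpoly K z).natDegree := by
    have := IntermediateField.adjoin.finrank hint
    rwa [hgen, IntermediateField.finrank_top'] at this
  have hlt : (minpoly K z).natDegree < p := hfin ▸ lt_of_le_of_ne (hdeg ▸ hle) hd
  have hne : ((minpoly K z).natDegree : K) ≠ 0 := by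
    rw [Ne, CharP.cast_eq_zero_iff K p]
    exact fun h => (Nat.le_of_dvd (minpoly.natDegree_pos hint) h).not_gt hlt
  have hzK : z ∈ (algebraMap K L).range := by
    refine ⟨-((minpoly K z).nextCoeff + i) / (minpoly K z).natDegree, ?_⟩
    rw [map_div₀, map_natCast, map_neg, map_add, div_eq_iff
      (by rw [← map_natCast (algebraMap K L)]; exact (_root_.map_ne_zero _).2 hne)]
    linear_combination -hnc
  rw [hfin, minpoly.natDegree_eq_one_iff]
  exact hzK

variable (A : Type u) [CommRing A] [IsDomain A] [IsDiscreteValuationRing A]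
    [Algebra A K] [IsFractionRing A K] [Algebra A L] [IsScalarTower A K L]

include hp in
theorem as_cases (π : A) (hπ : Irreducible π) :
    ∀ (n : ℕ) (ξ : K) (z : L), z ^ p - z = algebraMap K L ξ → IntermediateField.adjoin K {z} = ⊤ →
      (∃ a : A, algebraMap A K a = ξ * algebraMap A K π ^ n) → Cases A K L p := by
  haveI : Fact p.Prime := ⟨hp⟩
  haveI : CharP A p := (RingHom.charP_iff (algebraMap A K) (IsFractionRing.injective A K) p).2 inferInstance
  haveI hchar : CharP (ResidueField A) p := (CharP.charP_iff_prime_eq_zero hp).2 (by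
    rw [← map_natCast (residue A), CharP.cast_eq_zero, map_zero])
  have hPm : (X ^ p - X : A[X]).Monic := monic_X_pow_sub (by rw [degree_X]; exact_mod_cast hp.one_lt)
  have hPd : (X ^ p - X : A[X]).natDegree = p := by
    rw [natDegree_sub_eq_left_of_natDegree_lt (by rw [natDegree_X, natDegree_X_pow]; exact hp.one_lt), natDegree_X_pow]
  have hev : ∀ (n : ℕ) (ξ : K) (z : L) (a : A), z ^ p - z = algebraMap K L ξ →
      algebraMap A K a = ξ * algebraMap A K π ^ n →
      algebraMap A L π ^ n * aeval z (X ^ p - X : A[X]) = algebraMap A L a := fun n ξ z a hz ha => by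
    rw [map_sub, map_pow, aeval_X, hz, IsScalarTower.algebraMap_apply A K L a, ha, map_mul, map_pow,
      ← IsScalarTower.algebraMap_apply, mul_comm]
  intro n
  induction n with
  | zero =>
    intro ξ z hz hgen ⟨a, ha⟩
    obtain ⟨hfd, -, hrk⟩ := as_galois hp K L ξ z hz hgen
    obtain ⟨_, _, hq⟩ := generator_facts K L hgen (minpoly.monic (IsIntegral.of_finite K z)) (minpoly.aeval K z)
    rcases case_integral A K L hp hchar _ hPm hPd (by simp) z hrk hq a
      (by simpa using hev 0 ξ z a hz ha) with h | h
    · exact Or.inl h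
    · exact Or.inr (Or.inl h)
  | succ n ih =>
    intro ξ z hz hgen ⟨a, ha⟩
    obtain ⟨hfd, -, hrk⟩ := as_galois hp K L ξ z hz hgen
    have hd : Module.finrank K L ≤ p := by rcases hrk with h | h <;> rw [h]; exact hp.pos
    have hπ0 : algebraMap A K π ≠ 0 := fun h => hπ.ne_zero (IsFractionRing.injective A K (by rw [h, map_zero]))
    by_cases hau : IsUnit a
    swap
    · have hm : a ∈ maximalIdeal A := (mem_maximalIdeal a).2 hau
      rw [hπ.maximalIdeal_eq, Ideal.mem_span_singleton] at hm
      obtain ⟨b, rfl⟩ := hm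
      refine ih ξ z hz hgen ⟨b, mul_left_cancel₀ hπ0 ?_⟩
      rw [← map_mul, ha, pow_succ]; ring
    by_cases hpn : p ∣ n + 1
    swap
    · exact Or.inr (Or.inr (Or.inl (case_pole_coprime A K L hp _ hPm hPd hd π hπ (n + 1) hau.unit hpn z (hev _ ξ z a hz ha))))
    by_cases hr : ∃ r : A, residue A a = residue A r ^ p
    swap
    · push Not at hr
      exact Or.inr (Or.inr (Or.inr (case_pole_insep A K L hp hchar _ hPm hPd hd π hπ (n + 1) a n.succ_pos hpn hr z (hev _ ξ z a hz ha)).1))
    obtain ⟨r, hr⟩ := hr
    obtain ⟨m, hm⟩ := hpn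
    have hm0 : 0 < m := Nat.pos_of_ne_zero fun h => by rw [h, mul_zero] at hm; omega
    obtain ⟨b, hb, hbe⟩ := eval_pole A K (X ^ p - X : A[X]) hPm hPd π hπ r m hm0
    obtain ⟨b', hb'⟩ : π ∣ a - b := by
      rw [← sub_add_sub_cancel a (r ^ p) b]
      refine dvd_add ?_ (dvd_sub_comm.1 hb)
      rw [← Ideal.mem_span_singleton, ← hπ.maximalIdeal_eq, ← residue_eq_zero_iff, map_sub, map_pow, hr, sub_self]
    let c : K := algebraMap A K r / algebraMap A K π ^ m
    refine ih (ξ - (c ^ p - c)) (z - algebraMap K L c) ?_ ?_ ⟨b', mul_left_cancel₀ hπ0 ?_⟩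
    · haveI : CharP L p := charP_of_injective_algebraMap (algebraMap K L).injective p
      haveI : ExpChar L p := ExpChar.prime hp
      rw [sub_pow_char, map_sub (algebraMap K L) ξ, map_sub (algebraMap K L) (c ^ p), map_pow, ← hz]
      ring
    · rw [eq_top_iff, ← hgen, IntermediateField.adjoin_simple_le_iff]
      have := add_mem (IntermediateField.mem_adjoin_simple_self K (z - algebraMap K L c))
        ((IntermediateField.adjoin K {z - algebraMap K L c}).algebraMap_mem c)
      rwa [sub_add_cancel] at this
    rw [← map_mul, ← hb', map_sub, ha, ← hbe, map_sub, map_pow, aeval_X, ← hm, pow_succ]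
    ring

end Groth.Agent.EtRamH7
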