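import Groth.Agent.Lib.EtRamH7.TotRam

/-!
# A root of an Eisenstein polynomial generates a totally ramified extension
-/

universe u

open IsLocalRing Polynomial

namespace Groth.Agent.EtRamH7

variable (A : Type u) [CommRing A] [IsDomain A] [IsDiscreteValuationRing A]
    (K L : Type u) [Field K] [Field L] [Algebra A K] [IsFractionRing A K] [Algebra K L]
    [FiniteDimensional K L] [Algebra A L] [IsScalarTower A K L]

include K in
theorem eisRoot_totallyRamified {m : ℕ} (hm : m = Module.finrank K L) (hn : 0 < m)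
    {π : A} (hπ : Irreducible π) {b : Fin m → A} (hb : IsUnit (b ⟨0, hn⟩)) {x : L}
    (hx : aeval x (eisPoly m π b) = 0) (hgen : Algebra.adjoin K {x} = ⊤) :
    EtRam.IsTotallyRamified A (algebraMap A L) ∧ x ≠ 0 ∧
      IsIntegral A ((∑ i : Fin m, algebraMap A L (b i) * x ^ (i : ℕ))⁻¹) := by
  classical
  have hg : algebraMap A L = (algebraMap K L).comp (algebraMap A K) := IsScalarTower.algebraMap_eq A K L
  have hxint : IsIntegral A x := ⟨_, eisPoly_monic m π b, by rw [← aeval_def]; exact hx⟩
  have hrelL : x ^ m = algebraMap A L π * ∑ i : Fin m, algebraMap A L (b i) * x ^ (i : ℕ) := by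
    rw [← sub_eq_zero, ← hx]
    simp [eisPoly]
  have hK : ∀ z : L, ∃ a : A, a ≠ 0 ∧
      a • z ∈ Submodule.span A (Set.range fun i : Fin m => x ^ (i : ℕ)) := by
    intro z
    have hz : z ∈ Algebra.adjoin K {x} := by rw [hgen]; trivial
    rw [Algebra.adjoin_singleton_eq_range_aeval] at hz
    obtain ⟨g, rfl⟩ := hz
    obtain ⟨a, ha, hga⟩ := IsLocalization.integerNormalization_spec (nonZeroDivisors A) g
    refine ⟨a, nonZeroDivisors.ne_zero ha, ?_⟩
    set g' := IsLocalization.integerNormalization (nonZeroDivisors A) g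
    have h1 : aeval x g' = a • aeval x g := by
      rw [← aeval_map_algebraMap K, hga, ← IsScalarTower.algebraMap_smul K a g, map_smul,
        IsScalarTower.algebraMap_smul]
    show a • aeval x g ∈ _
    rw [← h1, ← modByMonic_add_div g' (eisPoly m π b), map_add, map_mul, hx, zero_mul, add_zero]
    rw [aeval_eq_sum_range' (n := m)]
    · refine Submodule.sum_mem _ fun i hi => Submodule.smul_mem _ _ (Submodule.subset_span ?_)
      exact ⟨⟨i, Finset.mem_range.1 hi⟩, rfl⟩
    · have h := natDegree_modByMonic_lt g' (eisPoly_monic m π b) (by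
        intro h; have := congrArg natDegree h; rw [eisPoly_natDegree, natDegree_one] at this; omega)
      rwa [eisPoly_natDegree] at h
  have key : ∀ (V : ValuationSubring L) (hV : EtRam.Dominates A (algebraMap A L) V),
      (∀ z ∈ V, z ∈ Submodule.span A (Set.range fun i : Fin m => x ^ (i : ℕ))) ∧
      Function.Surjective (fun a : A => residue V (RingHom.codRestrict (algebraMap A L) V hV.1 a)) ∧
      x ≠ 0 ∧
      IsIntegral A ((∑ i : Fin m, algebraMap A L (b i) * x ^ (i : ℕ))⁻¹) := by
    intro V hV
    letI : Algebra A V := (RingHom.codRestrict _ V hV.1).toAlgebra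
    haveI : IsLocalHom (algebraMap A V) := isLocalHom_cod hV
    haveI : IsScalarTower A V L := IsScalarTower.of_algebraMap_eq fun _ => rfl
    haveI := dvr_of_dominates A K L _ hg V hV
    have hinj : Function.Injective (algebraMap A V) := injective_cod A K L _ hg V hV.1
    obtain ⟨y, hy⟩ := IsIntegrallyClosed.isIntegral_iff.1 (hxint.tower_top (A := V))
    have hyx : (y : L) = x := hy
    have hrel : y ^ m = algebraMap A V π * ∑ i : Fin m, algebraMap A V (b i) * y ^ (i : ℕ) := by
      apply Subtype.val_injective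
      push_cast
      rw [hyx]
      exact hrelL
    obtain ⟨ρ, hρ⟩ := IsDiscreteValuationRing.exists_irreducible V
    have hπV : algebraMap A V π ∈ maximalIdeal V := by
      rw [mem_maximalIdeal]
      exact fun h => hπ.not_isUnit (isUnit_of_map_unit (algebraMap A V) _ h)
    have hym : y ∈ maximalIdeal V :=
      (maximalIdeal.isMaximal V).isPrime.mem_of_pow_mem m (hrel ▸ Ideal.mul_mem_right _ _ hπV)
    have hsu : IsUnit (∑ i : Fin m, algebraMap A V (b i) * y ^ (i : ℕ)) := by
      by_contra hns
      rw [← mem_nonunits_iff, ← mem_maximalIdeal,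
        ← Finset.add_sum_erase _ _ (Finset.mem_univ (⟨0, hn⟩ : Fin m))] at hns
      have hrest : (∑ j ∈ Finset.univ.erase (⟨0, hn⟩ : Fin m), algebraMap A V (b j) * y ^ (j : ℕ)) ∈
          maximalIdeal V := by
        refine Ideal.sum_mem _ fun j hj => Ideal.mul_mem_left _ _ (Ideal.pow_mem_of_mem _ hym _ ?_)
        exact Nat.pos_of_ne_zero fun h => Finset.ne_of_mem_erase hj (Fin.ext h)
      have h0 := (Ideal.add_mem_iff_left _ hrest).1 hns
      simp only [pow_zero, mul_one] at h0
      exact (mem_maximalIdeal _).1 h0 (hb.map _)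
    have hassoc0 : Associated (y ^ m) (algebraMap A V π) := by
      rw [hrel]; exact associated_mul_unit_left _ _ hsu
    have hπ0 : algebraMap A V π ≠ 0 := (map_ne_zero_iff _ hinj).2 hπ.ne_zero
    have hy0 : y ≠ 0 := by
      intro h
      rw [h, zero_pow hn.ne'] at hassoc0
      exact hπ0 (hassoc0.eq_zero_iff.1 rfl)
    obtain ⟨k, u, hu⟩ := IsDiscreteValuationRing.eq_unit_mul_pow_irreducible hy0 hρ
    have hk : k ≠ 0 := by
      intro h0
      rw [h0, pow_zero, mul_one] at hu
      exact (mem_maximalIdeal y).1 hym (hu ▸ u.isUnit)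
    have hmap := map_maximalIdeal_eq_pow A V hinj
    rw [hπ.maximalIdeal_eq, hρ.maximalIdeal_eq, Ideal.map_span, Set.image_singleton,
      Ideal.span_singleton_pow, Ideal.span_singleton_eq_span_singleton, ← hρ.maximalIdeal_eq,
      ← hπ.maximalIdeal_eq] at hmap
    set e := Ideal.ramificationIdx' (maximalIdeal A) (maximalIdeal V) with he
    have hyρ : Associated (y ^ m) (ρ ^ (k * m)) := by
      rw [pow_mul]
      exact Associated.pow_pow (by rw [hu]; exact associated_unit_mul_left _ _ u.isUnit)
    have hassoc : Associated (ρ ^ (k * m)) (ρ ^ e) := (hyρ.symm.trans hassoc0).trans hmap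
    have hke : k * m = e := le_antisymm ((pow_dvd_pow_iff hρ.ne_zero hρ.not_isUnit).1 hassoc.dvd)
      ((pow_dvd_pow_iff hρ.ne_zero hρ.not_isUnit).1 hassoc.dvd')
    have h7 := Groth.Agent.S7132.result A V K L hinj
    haveI := h7.1
    have hfpos : 0 < Module.finrank (ResidueField A) (ResidueField V) := Module.finrank_pos
    have h8 : e * Module.finrank (ResidueField A) (ResidueField V) ≤ m := hm ▸ (he ▸ h7.2)
    have hk1 : k = 1 := by
      have h9 : k * m ≤ 1 * m := by
        rw [one_mul, hke]; exact le_trans (Nat.le_mul_of_pos_right _ hfpos) h8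
      have := Nat.le_of_mul_le_mul_right h9 hn
      omega
    have hem : e = m := by rw [← hke, hk1, one_mul]
    have hyirr : Irreducible y := by
      rw [hk1, pow_one] at hu
      rw [hu, irreducible_units_mul]; exact hρ
    have hf1 : Module.finrank (ResidueField A) (ResidueField V) = 1 := by
      rw [hem] at h8
      exact le_antisymm (Nat.le_of_mul_le_mul_left (by rwa [mul_one]) hn) hfpos
    have hres : ∀ q : ResidueField V, ∃ a : A, residue V (algebraMap A V a) = q := by
      intro q
      obtain ⟨c, hc⟩ := (finrank_eq_one_iff_of_nonzero' (1 : ResidueField V) one_ne_zero).1 hf1 q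
      obtain ⟨a, rfl⟩ := residue_surjective c
      refine ⟨a, ?_⟩
      rw [← hc, Algebra.smul_def, mul_one]
      rfl
    have hdiv : ∀ c : Fin m → A, y ^ m ∣ (∑ i, algebraMap A V (c i) * y ^ (i : ℕ)) →
        ∀ i, c i ∈ maximalIdeal A := by
      intro c hc i
      by_contra hi
      let J := Finset.univ.filter fun j : Fin m => c j ∉ maximalIdeal A
      have hJ : J.Nonempty := ⟨i, Finset.mem_filter.2 ⟨Finset.mem_univ _, hi⟩⟩
      set j₀ := J.min' hJ with hj₀
      have hcj := (Finset.mem_filter.1 (J.min'_mem hJ)).2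
      rw [← hj₀] at hcj
      have hrest : y ^ ((j₀ : ℕ) + 1) ∣
          ∑ j ∈ Finset.univ.erase j₀, algebraMap A V (c j) * y ^ (j : ℕ) := by
        refine Finset.dvd_sum fun j hj => ?_
        rcases lt_or_gt_of_ne (Finset.ne_of_mem_erase hj) with hlt | hgt
        · have hcm : c j ∈ maximalIdeal A := by
            by_contra h
            exact absurd (J.min'_le j (Finset.mem_filter.2 ⟨Finset.mem_univ _, h⟩)) (not_le.2 hlt)
          obtain ⟨d, hd⟩ := Ideal.mem_span_singleton.1 (hπ.maximalIdeal_eq ▸ hcm)
          refine dvd_mul_of_dvd_left ((pow_dvd_pow y j₀.isLt).trans ?_) _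
          rw [hd, map_mul]
          exact hassoc0.dvd.trans (dvd_mul_right _ _)
        · exact dvd_mul_of_dvd_right (pow_dvd_pow y (Nat.succ_le_of_lt hgt)) _
      have hall := (pow_dvd_pow y j₀.isLt).trans hc
      rw [← Finset.add_sum_erase _ _ (Finset.mem_univ j₀), dvd_add_left hrest, pow_succ',
        mul_dvd_mul_iff_right (pow_ne_zero _ hy0)] at hall
      refine hyirr.not_isUnit (isUnit_of_dvd_unit hall ?_)
      exact ((notMem_maximalIdeal).1 hcj).map _
    have hmem : ∀ (j : ℕ) (z : V),
        π ^ j • (z : L) ∈ Submodule.span A (Set.range fun i : Fin m => x ^ (i : ℕ)) →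
        (z : L) ∈ Submodule.span A (Set.range fun i : Fin m => x ^ (i : ℕ)) := by
      intro j
      induction j with
      | zero => intro z hz; simpa using hz
      | succ j ih =>
        intro z hz
        obtain ⟨c, hc⟩ := (Submodule.mem_span_range_iff_exists_fun A).1 hz
        have hcV : (∑ i, algebraMap A V (c i) * y ^ (i : ℕ)) = algebraMap A V (π ^ (j + 1)) * z := by
          suffices h1 : algebraMap V L (∑ i, algebraMap A V (c i) * y ^ (i : ℕ)) =
              algebraMap V L (algebraMap A V (π ^ (j + 1)) * z) from Subtype.val_injective h1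
          rw [map_sum, map_mul, ← IsScalarTower.algebraMap_apply]
          rw [Algebra.smul_def] at hc
          simp only [Algebra.smul_def] at hc
          refine Eq.trans (Finset.sum_congr rfl fun i _ => ?_) hc
          rw [map_mul, map_pow, ← IsScalarTower.algebraMap_apply]
          show _ * (y : L) ^ (i : ℕ) = _
          rw [hyx]
        have hd := hdiv c (by
          rw [hcV, map_pow, pow_succ', mul_assoc]
          exact hassoc0.dvd.trans (dvd_mul_right _ _))
        have h2 : ∀ i, ∃ d, c i = π * d := fun i =>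
          Ideal.mem_span_singleton.1 (hπ.maximalIdeal_eq ▸ hd i)
        choose d hd' using h2
        refine ih z ((Submodule.mem_span_range_iff_exists_fun A).2 ⟨d, ?_⟩)
        have hπL : algebraMap A L π ≠ 0 :=
          (map_ne_zero_iff _ (hg ▸ (algebraMap K L).injective.comp (IsFractionRing.injective A K))).2 hπ.ne_zero
        apply mul_left_cancel₀ hπL
        rw [← Algebra.smul_def, ← Algebra.smul_def, smul_smul, ← pow_succ', ← hc, Finset.smul_sum]
        refine Finset.sum_congr rfl fun i _ => ?_
        rw [smul_smul, hd']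
    refine ⟨fun z hz => ?_, fun q => hres q, fun h => hy0 (Subtype.ext (hyx.trans h)), ?_⟩
    · obtain ⟨a, ha, haz⟩ := hK z
      obtain ⟨j, v, hv⟩ := IsDiscreteValuationRing.eq_unit_mul_pow_irreducible ha hπ
      refine hmem j ⟨z, hz⟩ ?_
      have h2 := Submodule.smul_mem _ ((v⁻¹ : Aˣ) : A) haz
      rw [smul_smul, hv, ← mul_assoc, Units.inv_mul, one_mul] at h2
      exact h2
    · have hfg : (Algebra.adjoin A {x}).toSubmodule.FG := hxint.fg_adjoin_singleton
      have hval : ((hsu.unit⁻¹ : Vˣ) : V).1 = (∑ i : Fin m, algebraMap A L (b i) * x ^ (i : ℕ))⁻¹ := by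
        apply eq_inv_of_mul_eq_one_right
        have h2 := congrArg Subtype.val hsu.mul_val_inv
        push_cast at h2
        rw [hyx] at h2
        exact h2
      rw [← hval]
      refine IsIntegral.of_mem_of_fg (Algebra.adjoin A {x}) hfg _ ?_
      have hin : ∀ z : L, z ∈ V → z ∈ Algebra.adjoin A {x} := by
        intro z hz
        obtain ⟨a, ha, haz⟩ := hK z
        obtain ⟨j, v, hv⟩ := IsDiscreteValuationRing.eq_unit_mul_pow_irreducible ha hπ
        have h2 := Submodule.smul_mem _ ((v⁻¹ : Aˣ) : A) haz
        rw [smul_smul, hv, ← mul_assoc, Units.inv_mul, one_mul] at h2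
        have h3 := hmem j ⟨z, hz⟩ h2
        refine (Submodule.span_le.2 ?_ : _ ≤ (Algebra.adjoin A {x}).toSubmodule) h3
        rintro _ ⟨i, rfl⟩
        exact pow_mem (Algebra.self_mem_adjoin_singleton A x) _
      exact hin _ ((hsu.unit⁻¹ : Vˣ) : V).2
  -- existence
  let V0 : ValuationSubring K := ⟨(algebraMap A K).range, fun z => by
    obtain ⟨r, hr⟩ | ⟨r, hr⟩ := ValuationRing.isInteger_or_isInteger A z
    · exact Or.inl ⟨r, hr⟩
    · exact Or.inr ⟨r, hr⟩⟩
  obtain ⟨V, hVeq⟩ := exists_comap_eq (algebraMap K L) V0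
  have hV : EtRam.Dominates A (algebraMap A L) V := by
    rw [hg]
    refine dominates_trans (V := V.comap (algebraMap K L)) ⟨fun a => ?_, fun a ha => ?_⟩ _
      (dominates_self_comap (algebraMap K L) V)
    · rw [hVeq]; exact ⟨a, rfl⟩
    · rw [hVeq]
      refine lt_of_le_of_ne ((ValuationSubring.valuation_le_one_iff _ _).2 ⟨a, rfl⟩) fun h => ?_
      rcases eq_or_ne a 0 with rfl | ha0
      · rw [map_zero, map_zero] at h; exact zero_ne_one h
      have h2 : (algebraMap A K a)⁻¹ ∈ (algebraMap A K).range := by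
        show (algebraMap A K a)⁻¹ ∈ V0
        rw [← ValuationSubring.valuation_le_one_iff, map_inv₀, h, inv_one]
      obtain ⟨c, hc⟩ := h2
      have h3 : a * c = 1 := IsFractionRing.injective A K (by
        rw [map_mul, hc, map_one, mul_inv_cancel₀ ((map_ne_zero_iff _ (IsFractionRing.injective A K)).2 ha0)])
      exact (mem_maximalIdeal a).1 ha (IsUnit.of_mul_eq_one c h3)
  refine ⟨⟨⟨V, hV⟩, fun W W' hW hW' => ?_, fun W hW => (key W hW).2.1⟩, (key V hV).2.2.1, (key V hV).2.2.2⟩
  have hsub : ∀ W : ValuationSubring L, EtRam.Dominates A (algebraMap A L) W →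
      ∀ z, z ∈ Submodule.span A (Set.range fun i : Fin m => x ^ (i : ℕ)) → z ∈ W := by
    intro W hW z hz
    letI : Algebra A W := (RingHom.codRestrict _ W hW.1).toAlgebra
    haveI : IsScalarTower A W L := IsScalarTower.of_algebraMap_eq fun _ => rfl
    obtain ⟨y, hy⟩ := IsIntegrallyClosed.isIntegral_iff.1 (hxint.tower_top (A := W))
    induction hz using Submodule.span_induction with
    | mem z hz => obtain ⟨i, rfl⟩ := hz; show x ^ (i : ℕ) ∈ W; rw [← hy]; exact pow_mem y.2 _
    | zero => exact W.zero_mem
    | add a b _ _ ha hb => exact add_mem ha hb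
    | smul a z _ hz => rw [Algebra.smul_def]; exact mul_mem (hW.1 a) hz
  ext z
  exact ⟨fun hz => hsub W' hW' z ((key W hW).1 z hz), fun hz => hsub W hW z ((key W' hW').1 z hz)⟩

end Groth.Agent.EtRamH7
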