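import Groth.Prelude.Def_EtRam
import Groth.Prelude.Def_CAlgX
import Mathlib.RingTheory.Smooth.Basic
import Mathlib.RingTheory.Ideal.Quotient.Operations

/-!
# Lifting out of a weakly unramified extension with formally smooth residue extension
-/

universe u

open IsLocalRing

namespace Groth.Agent.EtRamH7

variable {A B : Type u} [CommRing A] [IsLocalRing A] [CommRing B] [IsDomain B] [IsLocalRing B] [Algebra A B]
  [IsLocalHom (algebraMap A B)]

/-- A square zero extension of `B` killed by the uniformizer has a section. -/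
theorem exists_section [Algebra.FormallySmooth (ResidueField A) (ResidueField B)]
    (π : A) (hA : maximalIdeal A = Ideal.span {π}) (hB : maximalIdeal B = Ideal.span {algebraMap A B π})
    (hπ0 : algebraMap A B π ≠ 0)
    (E : Type u) [CommRing E] [Algebra A E] (f : E →ₐ[A] B) (hf : Function.Surjective f)
    (hsq : ∀ x y, f x = 0 → f y = 0 → x * y = 0) (hπ : ∀ x, f x = 0 → algebraMap A E π * x = 0) :
    ∃ s : B →ₐ[A] E, f.comp s = AlgHom.id A B := by
  classical
  let πE : E := algebraMap A E π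
  let I : Ideal E := Ideal.span {πE}
  letI : Algebra (ResidueField A) (E ⧸ I) := (Ideal.Quotient.lift (maximalIdeal A)
    (algebraMap A (E ⧸ I)) (fun a ha => by
      obtain ⟨c, rfl⟩ := Ideal.mem_span_singleton.1 (hA ▸ ha)
      rw [IsScalarTower.algebraMap_apply A E (E ⧸ I), Ideal.Quotient.algebraMap_eq, Ideal.Quotient.eq_zero_iff_mem, map_mul]
      exact Ideal.mul_mem_right _ _ (Ideal.mem_span_singleton_self _))).toAlgebra
  let f₀ : E →+* ResidueField B := (residue B).comp f.toRingHom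
  have hI0 : ∀ x ∈ I, f₀ x = 0 := by
    intro x hx
    obtain ⟨c, rfl⟩ := Ideal.mem_span_singleton.1 hx
    rw [map_mul]
    refine mul_eq_zero_of_left ?_ _
    show residue B (f (algebraMap A E π)) = 0
    rw [f.commutes, residue_eq_zero_iff, hB]
    exact Ideal.mem_span_singleton_self _
  let p : (E ⧸ I) →ₐ[ResidueField A] ResidueField B :=
    { Ideal.Quotient.lift I f₀ hI0 with
      commutes' := fun z => by
        obtain ⟨a, rfl⟩ := residue_surjective z
        show residue B (f (algebraMap A E a)) = residue B (algebraMap A B a)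
        rw [f.commutes] }
  have hpsurj : Function.Surjective p := fun z => by
    obtain ⟨b, rfl⟩ := residue_surjective z
    obtain ⟨x, hx⟩ := hf b
    exact ⟨Ideal.Quotient.mk I x, by show residue B (f x) = _; rw [hx]⟩
  have hkey : ∀ x : E, f₀ x = 0 → ∃ y : E, x - y ∈ I ∧ f y = 0 := by
    intro x hx
    obtain ⟨b, hb⟩ := Ideal.mem_span_singleton.1 (hB ▸ (residue_eq_zero_iff _).1 hx : f x ∈ Ideal.span {algebraMap A B π})
    obtain ⟨e, he⟩ := hf b
    refine ⟨x - πE * e, by rw [sub_sub_cancel]; exact Ideal.mul_mem_right _ _ (Ideal.mem_span_singleton_self _), ?_⟩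
    rw [map_sub, map_mul, f.commutes, hb, he, sub_self]
  have hker : IsNilpotent (RingHom.ker (p : (E ⧸ I) →+* ResidueField B)) := by
    refine ⟨2, ?_⟩
    rw [Submodule.zero_eq_bot, sq, eq_bot_iff, Ideal.mul_le]
    intro r hr s hs
    obtain ⟨r, rfl⟩ := Ideal.Quotient.mk_surjective r
    obtain ⟨s, rfl⟩ := Ideal.Quotient.mk_surjective s
    obtain ⟨r', hr', hr1⟩ := hkey r hr
    obtain ⟨s', hs', hs1⟩ := hkey s hs
    rw [Ideal.mem_bot, Ideal.Quotient.eq.2 hr', Ideal.Quotient.eq.2 hs', ← map_mul, hsq _ _ hr1 hs1, map_zero]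
  let σ := Algebra.FormallySmooth.liftOfSurjective (AlgHom.id (ResidueField A) (ResidueField B)) p hpsurj hker
  have hσ : ∀ z, p (σ z) = z := fun z =>
    Algebra.FormallySmooth.liftOfSurjective_apply (AlgHom.id (ResidueField A) (ResidueField B)) p hpsurj hker z
  let l₁ : E →ₐ[A] E ⧸ I := Ideal.Quotient.mkₐ A I
  let l₂ : E →ₐ[A] E ⧸ I :=
    { σ.toRingHom.comp f₀ with
      commutes' := fun a => by
        show σ (residue B (f (algebraMap A E a))) = algebraMap A (E ⧸ I) a
        rw [f.commutes]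
        exact σ.commutes (residue A a) }
  let E' : Subalgebra A E := AlgHom.equalizer l₁ l₂
  let q : E' →ₐ[A] B := f.comp E'.val
  have hinj : Function.Injective q := by
    rw [injective_iff_map_eq_zero]
    intro x hx
    have hx' : f (x : E) = 0 := hx
    have h1 : Ideal.Quotient.mk I (x : E) = 0 := by
      have h2 : l₁ x.1 = l₂ x.1 := x.2
      show l₁ x.1 = 0
      rw [h2]
      show σ (residue B (f (x : E))) = 0
      rw [hx', map_zero, map_zero]
    obtain ⟨e, he⟩ := Ideal.mem_span_singleton.1 (Ideal.Quotient.eq_zero_iff_mem.1 h1)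
    rw [he, map_mul, f.commutes] at hx'
    apply Subtype.ext
    rw [he]
    exact hπ e ((mul_eq_zero.1 hx').resolve_left hπ0)
  have hsurj : Function.Surjective q := by
    intro b
    obtain ⟨x₀, hx₀⟩ := hf b
    obtain ⟨d, hd⟩ := Ideal.Quotient.mk_surjective (l₁ x₀ - l₂ x₀)
    have hd0 : f₀ d = 0 := by
      show p (Ideal.Quotient.mk I d) = 0
      rw [hd, map_sub, sub_eq_zero]
      exact (hσ _).symm
    obtain ⟨y, hy, hy1⟩ := hkey d hd0
    refine ⟨⟨x₀ - y, ?_⟩, ?_⟩
    · show l₁ (x₀ - y) = l₂ (x₀ - y)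
      have h2 : l₂ y = 0 := by show σ (residue B (f y)) = 0; rw [hy1, map_zero, map_zero]
      have h3 : l₁ y = l₁ x₀ - l₂ x₀ := by rw [← hd]; exact (Ideal.Quotient.eq.2 hy).symm
      rw [map_sub, map_sub, h2, h3, sub_zero, sub_sub_cancel]
    · show f (x₀ - y) = b
      rw [map_sub, hx₀, hy1, sub_zero]
  let eq : E' ≃ₐ[A] B := AlgEquiv.ofBijective q ⟨hinj, hsurj⟩
  exact ⟨E'.val.comp eq.symm.toAlgHom, AlgHom.ext fun b => eq.apply_symm_apply b⟩

/-- Lifting along a square zero ideal killed by the uniformizer. -/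
theorem exists_lift_of_pi_smul [Algebra.FormallySmooth (ResidueField A) (ResidueField B)]
    (π : A) (hA : maximalIdeal A = Ideal.span {π}) (hB : maximalIdeal B = Ideal.span {algebraMap A B π})
    (hπ0 : algebraMap A B π ≠ 0)
    (C : Type u) [CommRing C] [Algebra A C] (J : Ideal C) (hJ : J ^ 2 = ⊥)
    (hπJ : ∀ j ∈ J, algebraMap A C π * j = 0) (ψ : B →ₐ[A] C ⧸ J) :
    ∃ χ : B →ₐ[A] C, (Ideal.Quotient.mkₐ A J).comp χ = ψ := by
  let E : Subalgebra A (B × C) :=
    AlgHom.equalizer (ψ.comp (AlgHom.fst A B C)) ((Ideal.Quotient.mkₐ A J).comp (AlgHom.snd A B C))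
  have hE : ∀ x : E, ψ (x : B × C).1 = Ideal.Quotient.mk J (x : B × C).2 := fun x => x.2
  let f : E →ₐ[A] B := (AlgHom.fst A B C).comp E.val
  have hker : ∀ x, f x = 0 → (x : B × C).2 ∈ J := fun x hx => by
    rw [← Ideal.Quotient.eq_zero_iff_mem, ← hE, show (x : B × C).1 = 0 from hx, map_zero]
  obtain ⟨s, hs⟩ := exists_section π hA hB hπ0 E f (fun b => by
      obtain ⟨c, hc⟩ := Ideal.Quotient.mk_surjective (ψ b)
      exact ⟨⟨(b, c), hc.symm⟩, rfl⟩)
    (fun x y hx hy => by
      apply Subtype.ext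
      refine Prod.ext ?_ ?_
      · show (x : B × C).1 * (y : B × C).1 = 0
        rw [show (x : B × C).1 = 0 from hx, zero_mul]
      · show (x : B × C).2 * (y : B × C).2 = 0
        have : (x : B × C).2 * (y : B × C).2 ∈ J ^ 2 := by
          rw [sq]; exact Ideal.mul_mem_mul (hker x hx) (hker y hy)
        rwa [hJ, Ideal.mem_bot] at this)
    (fun x hx => Subtype.ext (Prod.ext
      (by show algebraMap A B π * (x : B × C).1 = 0; rw [show (x : B × C).1 = 0 from hx, mul_zero])
      (hπJ _ (hker x hx))))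
  refine ⟨((AlgHom.snd A B C).comp E.val).comp s, AlgHom.ext fun b => ?_⟩
  show Ideal.Quotient.mk J ((s b : E) : B × C).2 = ψ b
  rw [← hE (s b)]
  exact congrArg ψ (AlgHom.congr_fun hs b)

/-- Lifting along a square zero ideal killed by a power of the uniformizer. -/
theorem exists_lift_of_pi_pow_smul [Algebra.FormallySmooth (ResidueField A) (ResidueField B)]
    (π : A) (hA : maximalIdeal A = Ideal.span {π}) (hB : maximalIdeal B = Ideal.span {algebraMap A B π})
    (hπ0 : algebraMap A B π ≠ 0) (n : ℕ) :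
    ∀ (C : Type u) [CommRing C] [Algebra A C] (J : Ideal C), J ^ 2 = ⊥ →
      (∀ j ∈ J, algebraMap A C π ^ n * j = 0) → ∀ ψ : B →ₐ[A] C ⧸ J,
      ∃ χ : B →ₐ[A] C, (Ideal.Quotient.mkₐ A J).comp χ = ψ := by
  induction n with
  | zero =>
    intro C _ _ J hJ hn ψ
    refine exists_lift_of_pi_smul π hA hB hπ0 C J hJ (fun j hj => ?_) ψ
    have := hn j hj
    rw [pow_zero, one_mul] at this
    rw [this, mul_zero]
  | succ n ih =>
    intro C _ _ J hJ hn ψ
    let J₁ : Ideal C := Ideal.span {algebraMap A C π} * J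
    have hJ₁ : J₁ ≤ J := Ideal.mul_le_right
    let m₁ : C →ₐ[A] C ⧸ J₁ := Ideal.Quotient.mkₐ A J₁
    let J' : Ideal (C ⧸ J₁) := J.map m₁
    have hJ' : J' ^ 2 = ⊥ := by rw [← Ideal.map_pow, hJ, Ideal.map_bot]
    have hπJ' : ∀ j ∈ J', algebraMap A (C ⧸ J₁) π * j = 0 := by
      intro j hj
      obtain ⟨j, hj', rfl⟩ := (Ideal.mem_map_iff_of_surjective m₁ Ideal.Quotient.mk_surjective).1 hj
      rw [← m₁.commutes, ← map_mul]
      exact Ideal.Quotient.eq_zero_iff_mem.2 (Ideal.mul_mem_mul (Ideal.mem_span_singleton_self _) hj')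
    let e := DoubleQuot.quotQuotEquivQuotOfLEₐ A hJ₁
    obtain ⟨ψ₁, hψ₁⟩ := exists_lift_of_pi_smul π hA hB hπ0 (C ⧸ J₁) J' hJ' hπJ'
      (e.symm.toAlgHom.comp ψ)
    have hJ₁2 : J₁ ^ 2 = ⊥ := by
      rw [eq_bot_iff, ← hJ]; exact Ideal.pow_right_mono hJ₁ 2
    have hn₁ : ∀ j ∈ J₁, algebraMap A C π ^ n * j = 0 := by
      intro j hj
      obtain ⟨z, hz, rfl⟩ := Ideal.mem_span_singleton_mul.1 hj
      rw [← mul_assoc, ← pow_succ]
      exact hn z hz
    obtain ⟨χ, hχ⟩ := ih C J₁ hJ₁2 hn₁ ψ₁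
    refine ⟨χ, AlgHom.ext fun b => ?_⟩
    have h1 : Ideal.Quotient.mk J' (ψ₁ b) = e.symm (ψ b) := AlgHom.congr_fun hψ₁ b
    have h2 : Ideal.Quotient.mk J₁ (χ b) = ψ₁ b := AlgHom.congr_fun hχ b
    show Ideal.Quotient.mk J (χ b) = ψ b
    rw [← e.apply_symm_apply (ψ b), ← h1, ← h2]
    rfl

end Groth.Agent.EtRamH7
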