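import Groth.Agent.Lib.EtRamH7.Good
import Groth.Agent.Lib.EtRamH7.StrictDVR
import Groth.Agent.Lib.NormSep24.StrictHens
import Groth.Prelude.Def_Hensel
import Groth.Agent.S1983
import Mathlib.FieldTheory.IsAlgClosed.AlgebraicClosure
import Mathlib.FieldTheory.Normal.Basic

/-!
# Solutions descend from strictly henselian extensions
-/

set_option autoImplicit false
set_option linter.style.haveILetI false

universe u

open IsLocalRing

namespace Groth.Agent.EtRamH7

section Enlarge

variable (A B K L : Type u) [CommRing A] [IsDomain A] [IsDiscreteValuationRing A]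
    [CommRing B] [IsDomain B] [IsDiscreteValuationRing B] [Algebra A B] [IsLocalHom (algebraMap A B)]
    [Field K] [Field L] [Algebra A K] [IsFractionRing A K] [Algebra B L] [IsFractionRing B L]
    [Algebra K L] [Algebra A L] [IsScalarTower A K L] [IsScalarTower A B L]

include A in
/-- A finite extension of a solution is a solution. -/
theorem good_enlarge (K₁ : Type u) [Field K₁] [Algebra K K₁] [FiniteDimensional K K₁]
    (hsol : EtRam.IsSolution B K L K₁) (K₂ : Type u) [Field K₂] [Algebra K K₂] [FiniteDimensional K K₂]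
    (ι : K₁ →ₐ[K] K₂) (M : Type u) [Field M] [Algebra L M] [Algebra K M] [IsScalarTower K L M]
    (j : K₂ →ₐ[K] M) (hgen : Algebra.adjoin L (Set.range j) = ⊤) (W : ValuationSubring M)
    (hW : EtRam.Dominates B ((algebraMap L M).comp (algebraMap B L)) W) : Good W j.toRingHom := by
  classical
  letI : Algebra K₂ M := j.toRingHom.toAlgebra
  haveI : IsScalarTower K K₂ M := IsScalarTower.of_algebraMap_eq fun x => (j.commutes x).symm
  haveI : FiniteDimensional L M := finite_of_adjoin_eq_top K L K₂ M hgen
  let f : K₁ →ₐ[K] M := j.comp ι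
  let E : IntermediateField L M := IntermediateField.adjoin L (Set.range f)
  have hfE : ∀ x, f x ∈ E := fun x => IntermediateField.subset_adjoin L _ ⟨x, rfl⟩
  let g : K₁ →+* E := f.toRingHom.codRestrict E hfE
  letI : Algebra K₁ E := g.toAlgebra
  haveI : IsScalarTower K K₁ E := IsScalarTower.of_algebraMap_eq fun x => Subtype.ext (f.commutes x).symm
  have htop : Algebra.adjoin L (Set.range (algebraMap K₁ E)) = ⊤ :=
    adjoin_range_codRestrict_eq_top (f : K₁ → M) E rfl
      (fun x => IsIntegral.of_finite L (f x)) g (fun _ => rfl)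
  let W₁ : ValuationSubring E := W.comap (algebraMap E M)
  have hW₁ : EtRam.Dominates B ((algebraMap L E).comp (algebraMap B L)) W₁ :=
    dominates_comap (algebraMap E M) hW
  have hgood₁ : Good W₁ g := hsol E htop W₁ hW₁
  haveI := dvr_of_dominates B L E _ rfl W₁ hW₁
  have hcomp : g.comp ((algebraMap K K₁).comp (algebraMap A K)) =
      ((algebraMap L E).comp (algebraMap B L)).comp (algebraMap A B) := RingHom.ext fun a => by
    show algebraMap K₁ E (algebraMap K K₁ (algebraMap A K a)) =
      algebraMap L E (algebraMap B L (algebraMap A B a))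
    rw [← IsScalarTower.algebraMap_apply K K₁ E, ← IsScalarTower.algebraMap_apply A B L,
      IsScalarTower.algebraMap_apply A K L, ← IsScalarTower.algebraMap_apply K L E]
  have hAW : EtRam.Dominates A (g.comp ((algebraMap K K₁).comp (algebraMap A K))) W₁ := by
    rw [hcomp]
    exact ⟨fun a => hW₁.1 _, fun a ha => hW₁.2 _
      (((local_hom_TFAE (algebraMap A B)).out 0 2 rfl rfl).1 inferInstance (Ideal.mem_map_of_mem _ ha))⟩
  let V₁ : ValuationSubring K₁ := W₁.comap g
  haveI : IsDiscreteValuationRing V₁ := dvr_of_dominates A K K₁ _ rfl V₁ (dominates_comap g hAW)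
  letI : Algebra V₁ W₁ := (EtRam.inclOfComap W₁ g).toAlgebra
  haveI : IsLocalHom (algebraMap V₁ W₁) := EtRam.isLocalHom_inclOfComap _ _
  letI : Algebra V₁ E := ((algebraMap K₁ E).comp (algebraMap V₁ K₁)).toAlgebra
  haveI : IsScalarTower V₁ K₁ E := IsScalarTower.of_algebraMap_eq fun _ => rfl
  haveI : IsScalarTower V₁ W₁ E := IsScalarTower.of_algebraMap_eq fun _ => rfl
  haveI : Algebra.IsGeometricallyReduced (ResidueField V₁) (ResidueField W₁) := geomRed_canonical hgood₁.2
  have hinj : Function.Injective (algebraMap V₁ W₁) := fun a b h =>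
    Subtype.ext (g.injective (congrArg Subtype.val h))
  letI : Algebra K₁ K₂ := ι.toRingHom.toAlgebra
  haveI : IsScalarTower K K₁ K₂ := IsScalarTower.of_algebraMap_eq fun x => (ι.commutes x).symm
  haveI : FiniteDimensional K₁ K₂ := FiniteDimensional.right K K₁ K₂
  have hsol₂ := Groth.Agent.S1983.result V₁ W₁ K₁ E hinj hgood₁.1 K₂
  letI : Algebra K₁ M := f.toRingHom.toAlgebra
  haveI : IsScalarTower K₁ E M := IsScalarTower.of_algebraMap_eq fun _ => rfl
  haveI : IsScalarTower K₁ K₂ M := IsScalarTower.of_algebraMap_eq fun _ => rfl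
  have htop₂ : Algebra.adjoin E (Set.range (algebraMap K₂ M)) = ⊤ := by
    have hr : Set.range (algebraMap K₂ M) = Set.range j := rfl
    rw [hr, eq_top_iff]
    intro x hx0; clear hx0
    have hx : x ∈ Algebra.adjoin L (Set.range j) := by rw [hgen]; trivial
    haveI : IsScalarTower L E M := inferInstance
    induction hx using Algebra.adjoin_induction with
    | mem y hy => exact Algebra.subset_adjoin hy
    | algebraMap r =>
      rw [IsScalarTower.algebraMap_apply L E M]
      exact Subalgebra.algebraMap_mem _ _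
    | add _ _ _ _ h h' => exact add_mem h h'
    | mul _ _ _ _ h h' => exact mul_mem h h'
  exact hsol₂ M htop₂ W (dominates_self_comap (algebraMap E M) W)

end Enlarge

section Descend

variable (A B K L A' B' K' L' : Type u) [CommRing A] [IsDomain A] [IsDiscreteValuationRing A]
    [CommRing B] [IsDomain B] [IsDiscreteValuationRing B] [Algebra A B] [IsLocalHom (algebraMap A B)]
    [Field K] [Field L] [Algebra A K] [IsFractionRing A K] [Algebra B L] [IsFractionRing B L]
    [Algebra K L] [Algebra A L] [IsScalarTower A K L] [IsScalarTower A B L]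
    [CommRing A'] [IsDomain A'] [IsDiscreteValuationRing A']
    [CommRing B'] [IsDomain B'] [IsDiscreteValuationRing B'] [Algebra A' B'] [IsLocalHom (algebraMap A' B')]
    [Field K'] [Field L'] [Algebra A' K'] [IsFractionRing A' K'] [Algebra B' L'] [IsFractionRing B' L']
    [Algebra K' L'] [Algebra A' L'] [IsScalarTower A' K' L'] [IsScalarTower A' B' L']
    [Algebra A A'] [IsLocalHom (algebraMap A A')] [Algebra B B'] [IsLocalHom (algebraMap B B')]
    [Hensel.IsStrictHenselization B B']
    [Algebra K K'] [Algebra A K'] [IsScalarTower A K K'] [IsScalarTower A A' K']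
    [Algebra L L'] [Algebra B L'] [IsScalarTower B L L'] [IsScalarTower B B' L']

omit [Algebra A B] [IsLocalHom (algebraMap A B)] [Algebra A L] [IsScalarTower A K L] [IsScalarTower A B L] in
include A A' in
/-- Solutions for `A' ⊆ B'` give solutions for `A ⊆ B` (a normal extension generating an enlargement). -/
theorem solution_descend (hsq : ∀ x : K, algebraMap K' L' (algebraMap K K' x) = algebraMap L L' (algebraMap K L x))
    (hwA : EtRam.IsWeaklyUnramified A A') [Algebra.IsGeometricallyReduced (ResidueField A) (ResidueField A')]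
    (hAA' : Function.Injective (algebraMap A A'))
    (K₁ : Type u) [Field K₁] [Algebra K' K₁] [FiniteDimensional K' K₁] (hsol : EtRam.IsSolution B' K' L' K₁)
    (K₀ : Type u) [Field K₀] [Algebra K K₀] [FiniteDimensional K K₀] [Normal K K₀]
    (K₂ : Type u) [Field K₂] [Algebra K' K₂] [Algebra K K₂] [IsScalarTower K K' K₂] [FiniteDimensional K' K₂]
    (ι₁ : K₁ →ₐ[K'] K₂) (ι₀ : K₀ →ₐ[K] K₂) (hgen₀ : Algebra.adjoin K' (Set.range ι₀) = ⊤) :
    EtRam.IsSolution B K L K₀ := by
  classical
  intro M _ _ _ _ _ _ hgen W hW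
  let Mb := AlgebraicClosure M
  obtain ⟨Wb, rfl⟩ := exists_comap_eq (algebraMap M Mb) W
  have hWb : EtRam.Dominates B ((algebraMap M Mb).comp ((algebraMap L M).comp (algebraMap B L))) Wb :=
    dominates_trans hW (algebraMap M Mb) (dominates_self_comap (algebraMap M Mb) Wb)
  haveI : HenselianLocalRing Wb := NormSep24.henselianLocalRing (R := Wb) Mb
  haveI : IsSepClosed (ResidueField Wb) := NormSep24.isSepClosed_residueField (R := Wb) Mb
  let f : B →+* Wb := RingHom.codRestrict _ Wb hWb.1
  haveI : IsLocalHom f := isLocalHom_cod hWb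
  haveI : IsSepClosure (ResidueField B) (ResidueField B') := Hensel.IsStrictHenselization.isSepClosure
  haveI : Algebra.IsSeparable (ResidueField B) (ResidueField B') := IsSepClosure.separable
  letI : Algebra (ResidueField B) (ResidueField Wb) := (ResidueField.map f).toAlgebra
  let τ : ResidueField B' →ₐ[ResidueField B] ResidueField Wb := IsSepClosed.lift
  have hτ : τ.toRingHom.comp (ResidueField.map (algebraMap B B')) = ResidueField.map f := by
    refine RingHom.ext fun r => ?_
    obtain ⟨r, rfl⟩ := residue_surjective r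
    exact τ.commutes (residue B r)
  obtain ⟨h, ⟨hcomp, hres⟩, -⟩ := Hensel.IsStrictHenselization.universal (R := B) (S := B') Wb f τ.toRingHom hτ
  have hmax : ∀ x ∈ maximalIdeal B', h x ∈ maximalIdeal Wb := by
    intro x hx
    rw [← residue_eq_zero_iff] at hx ⊢
    rw [hres, hx, map_zero]
  have hB : ∀ b, ((h (algebraMap B B' b) : Wb) : Mb) = algebraMap M Mb (algebraMap L M (algebraMap B L b)) :=
    fun b => congrArg Subtype.val (DFunLike.congr_fun hcomp b)
  have hinjh : Function.Injective (Wb.subtype.comp h) := by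
    rw [RingHom.injective_iff_ker_eq_bot]
    by_contra hne
    obtain ⟨π, hπ⟩ := IsDiscreteValuationRing.exists_irreducible B
    haveI : (RingHom.ker (Wb.subtype.comp h)).IsPrime := RingHom.ker_isPrime _
    have hker : RingHom.ker (Wb.subtype.comp h) = maximalIdeal B' :=
      IsLocalRing.eq_maximalIdeal (Ideal.IsPrime.isMaximal inferInstance hne)
    have hm : algebraMap B B' π ∈ maximalIdeal B' :=
      (((local_hom_TFAE (algebraMap B B')).out 0 2 rfl rfl).1 inferInstance
        (Ideal.mem_map_of_mem _ ((mem_maximalIdeal π).2 hπ.not_isUnit)))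
    rw [← hker, RingHom.mem_ker] at hm
    have h0 : algebraMap M Mb (algebraMap L M (algebraMap B L π)) = 0 := (hB π).symm.trans hm
    rw [map_eq_zero, map_eq_zero] at h0
    exact hπ.ne_zero ((map_eq_zero_iff _ (IsFractionRing.injective B L)).1 h0)
  letI : Algebra L' Mb := (IsFractionRing.lift hinjh).toAlgebra
  letI : Algebra K' Mb := ((algebraMap L' Mb).comp (algebraMap K' L')).toAlgebra
  haveI : IsScalarTower K' L' Mb := IsScalarTower.of_algebraMap_eq fun _ => rfl
  have hL'B : ∀ x : B', algebraMap L' Mb (algebraMap B' L' x) = ((h x : Wb) : Mb) :=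
    fun x => IsFractionRing.lift_algebraMap hinjh x
  have hLL : ∀ y : L, algebraMap L' Mb (algebraMap L L' y) = algebraMap M Mb (algebraMap L M y) := by
    intro y
    have : (algebraMap L' Mb).comp (algebraMap L L') = (algebraMap M Mb).comp (algebraMap L M) := by
      refine IsLocalization.ringHom_ext (nonZeroDivisors B) (RingHom.ext fun b => ?_)
      show algebraMap L' Mb (algebraMap L L' (algebraMap B L b)) = _
      rw [← IsScalarTower.algebraMap_apply B L L', IsScalarTower.algebraMap_apply B B' L', hL'B, hB]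
      rfl
    exact DFunLike.congr_fun this y
  have hWB' : EtRam.Dominates B' ((algebraMap L' Mb).comp (algebraMap B' L')) Wb := by
    refine ⟨fun x => ?_, fun x hx => ?_⟩
    · show algebraMap L' Mb (algebraMap B' L' x) ∈ Wb
      rw [hL'B]; exact (h x).2
    · show Wb.valuation (algebraMap L' Mb (algebraMap B' L' x)) < 1
      rw [hL'B]; exact (Wb.valuation_lt_one_iff _).1 (hmax x hx)
  let j : K₂ →ₐ[K'] Mb := IsAlgClosed.lift
  have hKM : ∀ x : K, algebraMap K' Mb (algebraMap K K' x) = algebraMap K Mb x := fun x => by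
    show algebraMap L' Mb (algebraMap K' L' (algebraMap K K' x)) = _
    rw [hsq, hLL, ← IsScalarTower.algebraMap_apply K L M, ← IsScalarTower.algebraMap_apply K M Mb]
  haveI : IsScalarTower K K' Mb := IsScalarTower.of_algebraMap_eq fun x => (hKM x).symm
  let e : K₀ →ₐ[K] Mb := (IsScalarTower.toAlgHom K M Mb).comp (IsScalarTower.toAlgHom K K₀ M)
  let e' : K₀ →ₐ[K] Mb := (j.restrictScalars K).comp ι₀
  let σ₀ : K₀ →ₐ[K] K₀ := e'.restrictNormal K₀
  have hσ₀ : ∀ x, e (σ₀ x) = e' x := fun x => by
    show algebraMap M Mb (algebraMap K₀ M (σ₀ x)) = _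
    rw [← IsScalarTower.algebraMap_apply K₀ M Mb]
    exact e'.restrictNormal_commutes K₀ x
  let σe : K₀ ≃ₐ[K] K₀ := AlgEquiv.ofBijective σ₀
    ⟨σ₀.injective, LinearMap.surjective_of_injective (f := σ₀.toLinearMap) σ₀.injective⟩
  let σ : K₀ →ₐ[K] K₀ := σe.symm.toAlgHom
  have hσe : ∀ x, e' (σ x) = e x := fun x => by
    rw [← hσ₀]
    exact congrArg e (σe.apply_symm_apply x)
  have hσ : Function.Bijective σ := σe.symm.bijective
  let M₂ : IntermediateField L' Mb := IntermediateField.adjoin L' (Set.range j)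
  have hjM₂ : ∀ x, j x ∈ M₂ := fun x => IntermediateField.subset_adjoin L' _ ⟨x, rfl⟩
  let j₂ : K₂ →ₐ[K'] M₂ :=
    { j.toRingHom.codRestrict M₂ hjM₂ with commutes' := fun r => Subtype.ext (j.commutes r) }
  have htop₂ : Algebra.adjoin L' (Set.range j₂) = ⊤ :=
    adjoin_range_codRestrict_eq_top (j : K₂ → Mb) M₂ rfl
      (fun x => ((IsIntegral.of_finite K' x).map j).tower_top) j₂ (fun _ => rfl)
  have hMM₂ : ∀ m, algebraMap M Mb m ∈ M₂ := by
    intro m
    have hm : m ∈ Algebra.adjoin L (Set.range (algebraMap K₀ M)) := by rw [hgen]; trivial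
    induction hm using Algebra.adjoin_induction with
    | mem y hy =>
      obtain ⟨x, rfl⟩ := hy
      show e x ∈ M₂
      rw [← hσe]
      exact hjM₂ _
    | algebraMap r => rw [← hLL]; exact M₂.algebraMap_mem _
    | add _ _ _ _ h₁ h₂ => rw [map_add]; exact add_mem h₁ h₂
    | mul _ _ _ _ h₁ h₂ => rw [map_mul]; exact mul_mem h₁ h₂
  let eM : M →+* M₂ := (algebraMap M Mb).codRestrict M₂ hMM₂
  let W₂ : ValuationSubring M₂ := Wb.comap (algebraMap M₂ Mb)
  have hW₂ : EtRam.Dominates B' ((algebraMap L' M₂).comp (algebraMap B' L')) W₂ :=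
    dominates_comap (algebraMap M₂ Mb) hWB'
  have hj : Good W₂ j₂.toRingHom := good_enlarge A' B' K' L' K₁ hsol K₂ ι₁ M₂ j₂ htop₂ W₂ hW₂
  have hA'W : EtRam.Dominates A' (j₂.toRingHom.comp ((algebraMap K' K₂).comp (algebraMap A' K'))) W₂ := by
    have hc : j₂.toRingHom.comp ((algebraMap K' K₂).comp (algebraMap A' K')) =
        ((algebraMap L' M₂).comp (algebraMap B' L')).comp (algebraMap A' B') := RingHom.ext fun a => by
      show j₂ (algebraMap K' K₂ (algebraMap A' K' a)) = algebraMap L' M₂ (algebraMap B' L' (algebraMap A' B' a))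
      rw [j₂.commutes, ← IsScalarTower.algebraMap_apply A' B' L', IsScalarTower.algebraMap_apply A' K' L',
        ← IsScalarTower.algebraMap_apply K' L' M₂]
    rw [hc]
    exact ⟨fun a => hW₂.1 _, fun a ha => hW₂.2 _
      (((local_hom_TFAE (algebraMap A' B')).out 0 2 rfl rfl).1 inferInstance (Ideal.mem_map_of_mem _ ha))⟩
  letI : Algebra K₀ K₂ := ι₀.toRingHom.toAlgebra
  haveI : IsScalarTower K K₀ K₂ := IsScalarTower.of_algebraMap_eq fun x => (ι₀.commutes x).symm
  have h0 : Good (W₂.comap j₂.toRingHom) ι₀.toRingHom :=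
    Groth.Agent.S1983.result A A' K K' hAA' hwA K₀ K₂ hgen₀ _ (dominates_comap j₂.toRingHom hA'W)
  have hall : Good W₂ ((j₂.toRingHom.comp ι₀.toRingHom).comp σ.toRingHom) :=
    good_comp W₂ σ.toRingHom (j₂.toRingHom.comp ι₀.toRingHom) (good_of_bijective _ _ hσ)
      (good_comp W₂ ι₀.toRingHom j₂.toRingHom h0 hj)
  have heq : (j₂.toRingHom.comp ι₀.toRingHom).comp σ.toRingHom = eM.comp (algebraMap K₀ M) :=
    RingHom.ext fun x => Subtype.ext (hσe x)
  exact good_descend W₂ (algebraMap K₀ M) eM (heq ▸ hall)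

end Descend

end Groth.Agent.EtRamH7
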