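import Groth.Agent.Lib.EtRamH7.Basic
import Groth.Agent.S7132
import Mathlib.RingTheory.DedekindDomain.IntegralClosure
import Mathlib.RingTheory.Polynomial.Eisenstein.Basic
import Mathlib.RingTheory.Polynomial.GaussLemma
import Mathlib.RingTheory.Nakayama

/-!
# Totally ramified extensions of a DVR are generated by a root of an Eisenstein polynomial
-/

universe u

open IsLocalRing Polynomial

namespace Groth.Agent.EtRamH7

/-- `X^n - π (b₀ + b₁ X + ⋯)`. -/
noncomputable def eisPoly {R : Type u} [CommRing R] (n : ℕ) (π : R) (b : Fin n → R) : R[X] :=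
  X ^ n - C π * ∑ j : Fin n, C (b j) * X ^ (j : ℕ)

theorem eisPoly_map {R S : Type u} [CommRing R] [CommRing S] (φ : R →+* S) (n : ℕ) (π : R)
    (b : Fin n → R) : (eisPoly n π b).map φ = eisPoly n (φ π) (fun j => φ (b j)) := by
  simp [eisPoly, Polynomial.map_sum]

theorem degree_eisPoly_tail_lt {R : Type u} [CommRing R] (n : ℕ) (π : R) (b : Fin n → R) :
    (C π * ∑ j : Fin n, C (b j) * X ^ (j : ℕ)).degree < (n : WithBot ℕ) := by
  rw [degree_lt_iff_coeff_zero]
  intro m hm
  rw [coeff_C_mul, finsetSum_coeff, Finset.sum_eq_zero, mul_zero]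
  intro j _
  rw [coeff_C_mul_X_pow, if_neg (by have := j.isLt; omega)]

theorem eisPoly_monic {R : Type u} [CommRing R] [Nontrivial R] (n : ℕ) (π : R) (b : Fin n → R) :
    (eisPoly n π b).Monic := monic_X_pow_sub (degree_eisPoly_tail_lt n π b)

theorem eisPoly_natDegree {R : Type u} [CommRing R] [Nontrivial R] (n : ℕ) (π : R) (b : Fin n → R) :
    (eisPoly n π b).natDegree = n := by
  apply natDegree_eq_of_degree_eq_some
  rw [eisPoly, degree_sub_eq_left_of_degree_lt]
  · exact degree_X_pow n
  · rw [degree_X_pow]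
    exact degree_eisPoly_tail_lt n π b

theorem eisPoly_coeff {R : Type u} [CommRing R] (n : ℕ) (π : R) (b : Fin n → R) (j : Fin n) :
    (eisPoly n π b).coeff j = -(π * b j) := by
  rw [eisPoly, coeff_sub, coeff_C_mul, finsetSum_coeff, coeff_X_pow, if_neg j.isLt.ne,
    Finset.sum_eq_single j, coeff_C_mul_X_pow, if_pos rfl, zero_sub]
  · intro i _ hi
    rw [coeff_C_mul_X_pow, if_neg]
    exact fun h => hi (Fin.ext h).symm
  · simp

/-- An Eisenstein polynomial is irreducible over the fraction field. -/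
theorem eisPoly_irreducible (R F : Type u) [CommRing R] [IsDomain R] [IsDiscreteValuationRing R]
    [Field F] [Algebra R F] [IsFractionRing R F] {n : ℕ} (hn : 0 < n) {π : R} (hπ : Irreducible π)
    {b : Fin n → R} (hb : IsUnit (b ⟨0, hn⟩)) :
    Irreducible ((eisPoly n π b).map (algebraMap R F)) := by
  have hm := eisPoly_monic n π b
  have hdeg := eisPoly_natDegree n π b
  have hE : (eisPoly n π b).IsEisensteinAt (maximalIdeal R) := by
    refine ⟨?_, fun {i} hi => ?_, ?_⟩
    · rw [hm.leadingCoeff]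
      exact fun h => (maximalIdeal.isMaximal R).ne_top ((Ideal.eq_top_iff_one _).2 h)
    · rw [hdeg] at hi
      rw [show i = ((⟨i, hi⟩ : Fin n) : ℕ) from rfl, eisPoly_coeff, hπ.maximalIdeal_eq, Ideal.neg_mem_iff]
      exact Ideal.mul_mem_right _ _ (Ideal.mem_span_singleton_self π)
    · rw [show (0 : ℕ) = ((⟨0, hn⟩ : Fin n) : ℕ) from rfl, eisPoly_coeff, Ideal.neg_mem_iff,
        hπ.maximalIdeal_eq, Ideal.span_singleton_pow, Ideal.mem_span_singleton]
      intro h
      rw [hb.dvd_mul_right] at h
      exact hπ.not_isUnit (isUnit_of_dvd_one ((mul_dvd_mul_iff_left hπ.ne_zero).1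
        (by rw [mul_one, ← sq]; exact h)))
  have hirr := hE.irreducible (maximalIdeal.isMaximal R).isPrime hm.isPrimitive (by rw [hdeg]; exact hn)
  exact (hm.irreducible_iff_irreducible_map_fraction_map (K := F)).1 hirr

section TotRam

variable (A : Type u) [CommRing A] [IsDomain A] [IsDiscreteValuationRing A]
    (K L : Type u) [Field K] [Field L] [Algebra A K] [IsFractionRing A K] [Algebra K L]
    [FiniteDimensional K L] [Algebra A L] [IsScalarTower A K L]

include K in
/-- Every valuation subring containing `A` contains every unique dominating one; so the latter is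
the integral closure. -/
theorem isIntegral_of_unique (V : ValuationSubring L)
    (huniq : ∀ W : ValuationSubring L, EtRam.Dominates A (algebraMap A L) W → W = V)
    (x : L) (hx : x ∈ V) : IsIntegral A x := by
  by_contra hxi
  let C : Subring L := (integralClosure A L).toSubring
  haveI : IsIntegrallyClosedIn C L := Subring.isIntegrallyClosedIn_iff.2 fun {z} hz => by
    haveI : IsScalarTower A (integralClosure A L) L := IsScalarTower.of_algebraMap_eq fun _ => rfl
    exact isIntegral_trans (R := A) (A := integralClosure A L) z hz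
  obtain ⟨W, hCW, hxW⟩ := Subring.exists_le_valuationSubring_of_isIntegrallyClosedIn
    (R := C) (x := x) hxi
  have hAW : ∀ a : A, algebraMap A L a ∈ W := fun a => hCW isIntegral_algebraMap
  by_cases hd : ∀ a ∈ maximalIdeal A, W.valuation (algebraMap A L a) < 1
  · exact hxW (huniq W ⟨hAW, hd⟩ ▸ hx)
  push Not at hd
  obtain ⟨a, ha, hle⟩ := hd
  obtain ⟨π, hπ⟩ := IsDiscreteValuationRing.exists_irreducible A
  have ha0 : a ≠ 0 := by rintro rfl; rw [map_zero, map_zero] at hle; exact not_le.2 zero_lt_one hle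
  have hπ1 : W.valuation (algebraMap A L π) = 1 := by
    obtain ⟨c, hc⟩ := Ideal.mem_span_singleton.1 (hπ.maximalIdeal_eq ▸ ha)
    refine le_antisymm ((W.valuation_le_one_iff _).2 (hAW π)) (hle.trans ?_)
    rw [hc, map_mul, map_mul]
    exact mul_le_of_le_one_right' ((W.valuation_le_one_iff _).2 (hAW c))
  have hKW : ∀ k : K, algebraMap K L k ∈ W := by
    intro k
    obtain ⟨r, s, hs, rfl⟩ := IsFractionRing.div_surjective (A := A) k
    obtain ⟨m, u, hu⟩ := IsDiscreteValuationRing.eq_unit_mul_pow_irreducible (nonZeroDivisors.ne_zero hs) hπ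
    have hu1 : W.valuation (algebraMap A L (u : A)) = 1 := by
      refine le_antisymm ((W.valuation_le_one_iff _).2 (hAW _)) ?_
      have h1 : W.valuation (algebraMap A L (u : A)) * W.valuation (algebraMap A L ((u⁻¹ : Aˣ) : A)) = 1 := by
        rw [← map_mul, ← map_mul, Units.mul_inv, map_one, map_one]
      rw [← h1]
      exact mul_le_of_le_one_right' ((W.valuation_le_one_iff _).2 (hAW _))
    rw [map_div₀, ← IsScalarTower.algebraMap_apply, ← IsScalarTower.algebraMap_apply,
      ← W.valuation_le_one_iff, map_div₀, hu, map_mul (algebraMap A L), map_mul W.valuation, hu1,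
      map_pow, map_pow, hπ1, one_pow, one_mul, div_one]
    exact (W.valuation_le_one_iff _).2 (hAW r)
  letI : Algebra K W := (RingHom.codRestrict (algebraMap K L) W hKW).toAlgebra
  haveI : IsScalarTower K W L := IsScalarTower.of_algebraMap_eq fun _ => rfl
  obtain ⟨y, hy⟩ := IsIntegrallyClosed.isIntegral_iff.1
    ((IsIntegral.of_finite K x).tower_top (A := W))
  exact hxW (hy ▸ y.2)

/-- A separable totally ramified extension is generated by a root `ϖ` of an Eisenstein polynomial,
`ϖ` generating the maximal ideal of the unique dominating valuation subring. -/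
theorem exists_eisenstein [Algebra.IsSeparable K L]
    (ht : EtRam.IsTotallyRamified A (algebraMap A L)) :
    ∃ (V : ValuationSubring L) (_ : EtRam.Dominates A (algebraMap A L) V)
      (hn : 0 < Module.finrank K L) (ϖ : V) (π : A) (b : Fin (Module.finrank K L) → A),
      (∀ W : ValuationSubring L, EtRam.Dominates A (algebraMap A L) W → W = V) ∧
      maximalIdeal V = Ideal.span {ϖ} ∧ ϖ ≠ 0 ∧ Irreducible π ∧ IsUnit (b ⟨0, hn⟩) ∧
      aeval (ϖ : L) (eisPoly (Module.finrank K L) π b) = 0 ∧
      Algebra.adjoin K {(ϖ : L)} = ⊤ := by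
  obtain ⟨⟨V, hV⟩, huniq, hres⟩ := ht
  have hu : ∀ W : ValuationSubring L, EtRam.Dominates A (algebraMap A L) W → W = V :=
    fun W hW => huniq W V hW hV
  have hg : algebraMap A L = (algebraMap K L).comp (algebraMap A K) := IsScalarTower.algebraMap_eq A K L
  letI : Algebra A V := (RingHom.codRestrict _ V hV.1).toAlgebra
  haveI : IsLocalHom (algebraMap A V) := isLocalHom_cod hV
  haveI : IsScalarTower A V L := IsScalarTower.of_algebraMap_eq fun _ => rfl
  haveI := dvr_of_dominates A K L _ hg V hV
  have hinj : Function.Injective (algebraMap A V) := injective_cod A K L _ hg V hV.1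
  haveI : IsFractionRing V L := inferInstance
  haveI : IsIntegralClosure V A L :=
    ⟨Subtype.val_injective, fun {x} => ⟨fun hx => ?_, fun ⟨y, hy⟩ => hy ▸ isIntegral_of_unique A K L V hu _ y.2⟩⟩
  swap
  · obtain ⟨y, hy⟩ := IsIntegrallyClosed.isIntegral_iff.1 (hx.tower_top (A := V))
    exact ⟨y, hy⟩
  haveI : Module.Finite A V := IsIntegralClosure.finite A K L V
  set n := Module.finrank K L with hn
  have hn0 : 0 < n := Module.finrank_pos
  obtain ⟨π, hπ⟩ := IsDiscreteValuationRing.exists_irreducible A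
  obtain ⟨ϖ, hϖ⟩ := IsDiscreteValuationRing.exists_irreducible V
  set e := Ideal.ramificationIdx' (maximalIdeal A) (maximalIdeal V) with he
  have hmap := map_maximalIdeal_eq_pow A V hinj
  rw [← he, hπ.maximalIdeal_eq, hϖ.maximalIdeal_eq, Ideal.map_span, Set.image_singleton,
    Ideal.span_singleton_pow] at hmap
  have happrox : ∀ (j : ℕ) (x : V), ∃ y : V,
      x - ϖ ^ j * y ∈ Submodule.span A (Set.range fun i : Fin j => ϖ ^ (i : ℕ)) := by
    intro j
    induction j with
    | zero => intro x; exact ⟨x, by simp⟩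
    | succ j ih =>
      intro x
      obtain ⟨y, hy⟩ := ih x
      obtain ⟨a, ha⟩ := hres V hV (IsLocalRing.residue V y)
      have ha' : y - algebraMap A V a ∈ maximalIdeal V := by
        rw [← residue_eq_zero_iff, map_sub, sub_eq_zero]
        exact ha.symm
      rw [hϖ.maximalIdeal_eq, Ideal.mem_span_singleton] at ha'
      obtain ⟨z, hz⟩ := ha'
      refine ⟨z, ?_⟩
      have h1 : x - ϖ ^ (j + 1) * z = (x - ϖ ^ j * y) + a • ϖ ^ j := by
        rw [Algebra.smul_def, pow_succ, mul_assoc, ← hz]
        ring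
      rw [h1]
      refine add_mem (Submodule.span_mono ?_ hy) (Submodule.smul_mem _ _ (Submodule.subset_span ⟨Fin.last j, rfl⟩))
      rintro _ ⟨i, rfl⟩
      exact ⟨i.castSucc, rfl⟩
  have hdvdπ : ∀ y : V, ∃ z : V, ϖ ^ e * y = algebraMap A V π * z := fun y => by
    have h : ϖ ^ e * y ∈ Ideal.span {algebraMap A V π} := hmap ▸
      Ideal.mul_mem_right _ _ (Ideal.mem_span_singleton_self _)
    exact Ideal.mem_span_singleton.1 h
  have hspan : Submodule.span A (Set.range fun i : Fin e => ϖ ^ (i : ℕ)) = ⊤ := by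
    refine top_le_iff.1 (Submodule.le_of_le_smul_of_le_jacobson_bot (I := maximalIdeal A)
      Module.Finite.fg_top (maximalIdeal_le_jacobson _) fun x _ => ?_)
    obtain ⟨y, hy⟩ := happrox e x
    obtain ⟨z, hz⟩ := hdvdπ y
    rw [show x = (x - ϖ ^ e * y) + π • z by rw [Algebra.smul_def, ← hz]; ring]
    exact Submodule.add_mem_sup hy
      (Submodule.smul_mem_smul ((mem_maximalIdeal π).2 hπ.not_isUnit) Submodule.mem_top)
  have hspanK : ⊤ ≤ Submodule.span K (Set.range fun i : Fin e => (ϖ : L) ^ (i : ℕ)) := by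
    intro x _
    haveI : Algebra.IsAlgebraic A L := IsFractionRing.comap_isAlgebraic_iff.2 (inferInstance : Algebra.IsAlgebraic K L)
    obtain ⟨a, ha, hax⟩ := (Algebra.IsAlgebraic.isAlgebraic (R := A) x).exists_integral_multiple
    obtain ⟨y, hy⟩ := (IsIntegralClosure.isIntegral_iff (A := V)).1 hax
    have hmem : (y : V) ∈ Submodule.span A (Set.range fun i : Fin e => ϖ ^ (i : ℕ)) := by
      rw [hspan]; trivial
    obtain ⟨c, hc⟩ := (Submodule.mem_span_range_iff_exists_fun A).1 hmem
    have hy' : (y : L) = a • x := hy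
    refine (Submodule.mem_span_range_iff_exists_fun K).2 ⟨fun i => (algebraMap A K a)⁻¹ * algebraMap A K (c i), ?_⟩
    have ha' : algebraMap A K a ≠ 0 := (map_ne_zero_iff _ (IsFractionRing.injective A K)).2 ha
    have hsum : (y : L) = ∑ i, algebraMap A L (c i) * (ϖ : L) ^ (i : ℕ) := by
      rw [← hc]
      push_cast [Algebra.smul_def]
      rfl
    calc ∑ i, ((algebraMap A K a)⁻¹ * algebraMap A K (c i)) • (ϖ : L) ^ (i : ℕ)
        = (algebraMap A K a)⁻¹ • (y : L) := by
          rw [hsum, Finset.smul_sum]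
          refine Finset.sum_congr rfl fun i _ => ?_
          rw [mul_smul, Algebra.smul_def (algebraMap A K (c i)), ← IsScalarTower.algebraMap_apply]
      _ = x := by rw [hy', ← IsScalarTower.algebraMap_smul K a x, inv_smul_smul₀ ha']
  have hne : n ≤ e := by
    have h1 : Module.finrank K ↥(Submodule.span K (Set.range fun i : Fin e => (ϖ : L) ^ (i : ℕ))) ≤
        Fintype.card (Fin e) := finrank_range_le_card (R := K) fun i : Fin e => (ϖ : L) ^ (i : ℕ)
    rw [top_le_iff.1 hspanK, finrank_top, Fintype.card_fin] at h1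
    exact h1
  have hen : e ≤ n := by
    haveI : Module.Finite (ResidueField A) (ResidueField V) := (Groth.Agent.S7132.result A V K L hinj).1
    exact le_trans (Nat.le_mul_of_pos_right _ Module.finrank_pos) (Groth.Agent.S7132.result A V K L hinj).2
  have hee : e = n := le_antisymm hen hne
  clear_value e
  subst hee
  obtain ⟨w, hw⟩ := hdvdπ 1
  rw [mul_one] at hw
  have hwu : IsUnit w := by
    have h0 : algebraMap A V π ≠ 0 := (map_ne_zero_iff _ hinj).2 hπ.ne_zero
    obtain ⟨s, hs⟩ := Ideal.mem_span_singleton.1 (hmap ▸ Ideal.mem_span_singleton_self (algebraMap A V π))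
    exact IsUnit.of_mul_eq_one s (mul_left_cancel₀ h0 (by rw [mul_one, ← mul_assoc, ← hw, ← hs]))
  have hwmem : w ∈ Submodule.span A (Set.range fun i : Fin n => ϖ ^ (i : ℕ)) := by rw [hspan]; trivial
  obtain ⟨b, hb⟩ := (Submodule.mem_span_range_iff_exists_fun A).1 hwmem
  refine ⟨V, hV, hn0, ϖ, π, b, hu, hϖ.maximalIdeal_eq, hϖ.ne_zero, hπ, ?_, ?_, ?_⟩
  · by_contra hb0
    have hmem0 : algebraMap A V (b ⟨0, hn0⟩) ∈ maximalIdeal V := by
      rw [mem_maximalIdeal]
      exact fun h => hb0 (isUnit_of_map_unit (algebraMap A V) _ h)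
    refine (mem_maximalIdeal w).1 ?_ hwu
    rw [← hb]
    refine Ideal.sum_mem _ fun i _ => ?_
    rw [Algebra.smul_def]
    rcases Nat.eq_zero_or_pos (i : ℕ) with h | h
    · exact Ideal.mul_mem_right _ _ (by rw [show i = ⟨0, hn0⟩ from Fin.ext h]; exact hmem0)
    · exact Ideal.mul_mem_left _ _ (Ideal.pow_mem_of_mem _ ((mem_maximalIdeal ϖ).2 hϖ.not_isUnit) _ h)
  · show aeval ((algebraMap V L) ϖ) (eisPoly n π b) = 0
    rw [aeval_algebraMap_apply]
    have h1 : aeval ϖ (eisPoly n π b) = ϖ ^ n - algebraMap A V π * w := by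
      rw [← hb]
      simp [eisPoly, Algebra.smul_def]
    rw [h1, hw, sub_self, map_zero]
  · apply Subalgebra.toSubmodule_injective
    rw [Algebra.top_toSubmodule]
    refine top_le_iff.1 (le_trans hspanK (Submodule.span_le.2 ?_))
    rintro _ ⟨i, rfl⟩
    exact pow_mem (Algebra.self_mem_adjoin_singleton K (ϖ : L)) _

end TotRam

end Groth.Agent.EtRamH7
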