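import Groth.Agent.Lib.EtRamH7.Basic

/-!
# Tame / unramified in towers of local extensions
-/

universe u

open IsLocalRing

namespace Groth.Agent.EtRamH7

variable (R S T : Type u) [CommRing R] [IsLocalRing R] [CommRing S] [IsLocalRing S] [CommRing T] [IsLocalRing T]
    [Algebra R S] [Algebra S T] [Algebra R T] [IsScalarTower R S T]
    [IsLocalHom (algebraMap R S)] [IsLocalHom (algebraMap S T)] [IsLocalHom (algebraMap R T)]

theorem sep_bot (h : Algebra.IsSeparable (ResidueField R) (ResidueField T)) :
    Algebra.IsSeparable (ResidueField R) (ResidueField S) :=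
  Algebra.isSeparable_tower_bot_of_isSeparable (ResidueField R) (ResidueField S) (ResidueField T)

theorem sep_trans (h : Algebra.IsSeparable (ResidueField R) (ResidueField S))
    (h' : Algebra.IsSeparable (ResidueField S) (ResidueField T)) :
    Algebra.IsSeparable (ResidueField R) (ResidueField T) :=
  Algebra.IsSeparable.trans (ResidueField R) (ResidueField S) (ResidueField T)

theorem charP_residue {p : ℕ} (h : CharP (ResidueField R) p) : CharP (ResidueField S) p :=
  (Algebra.charP_iff (ResidueField R) (ResidueField S) p).1 h

theorem weakly_trans (h : EtRam.IsWeaklyUnramified R S) (h' : EtRam.IsWeaklyUnramified S T) :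
    EtRam.IsWeaklyUnramified R T := by
  show _ = _
  rw [IsScalarTower.algebraMap_eq R S T, ← Ideal.map_map, h, h']

end Groth.Agent.EtRamH7
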