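import Groth.Agent.Lib.EtRamH7.InsepPrime
import Groth.Agent.Lib.EtRamH7.EisAS
import Groth.Agent.Lib.PerturbH7.InsepStep

/-!
# The trichotomy for purely inseparable steps of degree `p`
-/

universe u

open IsLocalRing Polynomial
open scoped TensorProduct

namespace Groth.Agent.EtRamH7

/-- The best approximation of `u` by `p`-th powers of `B[π^(1/p)]`. -/
theorem exists_best_approx {p : ℕ} (hp : p.Prime) (B L M : Type u) [CommRing B] [IsDomain B] [IsDiscreteValuationRing B]
    [Field L] [Algebra B L] [IsFractionRing B L] [Field M] [Algebra L M] [Algebra B M] [IsScalarTower B L M]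
    [FiniteDimensional L M] [CharP L p] (hB : CAlg.IsNagata B) (π : B) (hπ : Irreducible π) (u : Bˣ) (c : M)
    (hc : c ^ p = algebraMap B M (π * u)) (hcL : c ∉ (algebraMap L M).range) (hdeg : Module.finrank L M = p)
    (hno : ∀ z : M, z ^ p ≠ algebraMap B M π) :
    ∃ (n : ℕ) (w : Fin p → B) (e : B), (u : B) - ∑ i : Fin p, π ^ (i : ℕ) * w i ^ p = π ^ n * e ∧
      ∀ r : B, residue B e ≠ residue B r ^ p := by
  classical
  haveI : Fact p.Prime := ⟨hp⟩
  haveI : CharP B p := (RingHom.charP_iff (algebraMap B L) (IsFractionRing.injective B L) p).2 inferInstance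
  haveI : CharP M p := charP_of_injective_algebraMap (algebraMap L M).injective p
  haveI : ExpChar B p := ExpChar.prime hp
  haveI : ExpChar M p := ExpChar.prime hp
  let S : (Fin p → B) → B := fun w => ∑ i : Fin p, π ^ (i : ℕ) * w i ^ p
  -- the field `M(π^(1/p))`
  have hirr : Irreducible (X ^ p - C (algebraMap B M π)) := X_pow_sub_C_irreducible_of_prime hp fun b hb => hno b hb
  haveI := Fact.mk hirr
  let Mi := AdjoinRoot (X ^ p - C (algebraMap B M π))
  let y : Mi := AdjoinRoot.root _
  let pb : PowerBasis M Mi := AdjoinRoot.powerBasis hirr.ne_zero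
  have hpbd : pb.dim = p := by simp [pb]
  have hpbg : pb.gen = y := rfl
  haveI : Module.Finite M Mi := pb.finite
  haveI : Module.Finite L Mi := Module.Finite.trans M Mi
  haveI : IsScalarTower B L Mi := inferInstance
  haveI : IsScalarTower B M Mi := inferInstance
  have hy : y ^ p = algebraMap B Mi π := by
    have h1 := AdjoinRoot.eval₂_root (X ^ p - C (algebraMap B M π))
    rw [eval₂_sub, eval₂_X_pow, eval₂_C, sub_eq_zero] at h1
    rw [IsScalarTower.algebraMap_apply B M Mi]
    exact h1
  have hπL : algebraMap B L π ≠ 0 := fun h => hπ.ne_zero (IsFractionRing.injective B L (by rw [h, map_zero]))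
  have hπ0 : algebraMap B Mi π ≠ 0 := by
    rw [IsScalarTower.algebraMap_apply B L Mi]; exact (_root_.map_ne_zero _).2 hπL
  -- the functional
  have hlic : LinearIndependent L fun i : Fin p => c ^ (i : ℕ) := by
    have hmin : minpoly L c = X ^ p - C (algebraMap B L (π * u)) := by
      refine (minpoly.eq_of_irreducible_of_monic ?_ ?_ (monic_X_pow_sub_C _ hp.ne_zero)).symm
      · refine X_pow_sub_C_irreducible_of_prime hp fun b hb => hcL ⟨b, ?_⟩
        refine frobenius_inj M p ?_
        rw [frobenius_def, frobenius_def, ← map_pow, hb, hc, ← IsScalarTower.algebraMap_apply]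
      · simp [hc, ← IsScalarTower.algebraMap_apply]
    have := linearIndependent_pow (K := L) c
    rw [hmin, natDegree_X_pow_sub_C] at this
    exact this
  haveI : Nonempty (Fin p) := ⟨⟨0, hp.pos⟩⟩
  let bc := basisOfLinearIndependentOfCardEqFinrank hlic (by rw [Fintype.card_fin, hdeg])
  let ilast : Fin pb.dim := ⟨p - 1, by rw [hpbd]; exact Nat.sub_lt hp.pos one_pos⟩
  let lam : Mi →ₗ[L] L := (bc.coord ⟨1, hp.one_lt⟩).comp ((pb.basis.coord ilast).restrictScalars L)
  haveI := NagataH7.finite_integralClosure B L (hB.2 ⊥) Mi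
  obtain ⟨m, hm⟩ : ∃ m, ∀ z : Mi, IsIntegral B z → IsIntegral B (algebraMap B L π ^ m * lam z) := by
    have hfg : (integralClosure B Mi).toSubmodule.FG := Module.Finite.iff_fg.1 inferInstance
    obtain ⟨G, hG⟩ := hfg
    choose f hf using fun g : Mi => PerturbH7.exists_pow_isIntegral B L L ((mem_maximalIdeal π).2 hπ.not_isUnit) hπ.ne_zero (lam g)
    refine ⟨∑ g ∈ G, f g, fun z hz => ?_⟩
    let Nm : Submodule B Mi := (integralClosure B L).toSubmodule.comap
      ((LinearMap.mulLeft B (algebraMap B L π ^ ∑ g ∈ G, f g)).comp (lam.restrictScalars B))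
    refine (show (integralClosure B Mi).toSubmodule ≤ Nm from ?_) hz
    rw [← hG, Submodule.span_le]
    intro g hg
    show IsIntegral B (algebraMap B L π ^ (∑ g ∈ G, f g) * lam g)
    obtain ⟨d, hd⟩ := Nat.exists_eq_add_of_le (Finset.single_le_sum (f := f) (fun _ _ => Nat.zero_le _) hg)
    rw [hd, add_comm, pow_add, mul_assoc]
    exact (isIntegral_algebraMap.pow d).mul (hf g)
  have hbound : ∀ w, ¬ π ^ (p * m) ∣ (u : B) - S w := by
    rintro w ⟨e, he⟩
    let P : Mi := ∑ i : Fin p, algebraMap B Mi (w i) * y ^ (i : ℕ)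
    have hy0 : y ≠ 0 := fun h => hπ0 (by rw [← hy, h, zero_pow hp.ne_zero])
    let z : Mi := (algebraMap B Mi π ^ m)⁻¹ * (algebraMap M Mi c / y - P)
    have hPp : P ^ p = algebraMap B Mi (S w) := by
      haveI : CharP Mi p := charP_of_injective_algebraMap (algebraMap M Mi).injective p
      haveI : ExpChar Mi p := ExpChar.prime hp
      simp only [P, S]
      rw [sum_pow_char p, map_sum]
      simp only [map_mul, map_pow, mul_pow]
      refine Finset.sum_congr rfl fun i _ => ?_
      rw [← pow_mul, mul_comm (i : ℕ) p, pow_mul, hy, mul_comm]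
    have hzp : z ^ p = algebraMap B Mi e := by
      haveI : CharP Mi p := charP_of_injective_algebraMap (algebraMap M Mi).injective p
      haveI : ExpChar Mi p := ExpChar.prime hp
      have hcy : (algebraMap M Mi c / y) ^ p = algebraMap B Mi u := by
        rw [div_pow, ← map_pow, hc, hy, ← IsScalarTower.algebraMap_apply, map_mul, mul_div_cancel_left₀ _ hπ0]
      simp only [z]
      rw [mul_pow, sub_pow_char, hcy, hPp, ← map_sub, he, map_mul, map_pow, inv_pow, ← pow_mul, mul_comm m p,
        inv_mul_cancel_left₀ (pow_ne_zero _ hπ0)]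
    have hzint : IsIntegral B z := IsIntegral.of_pow hp.pos (hzp ▸ isIntegral_algebraMap)
    have hlam : lam z = (algebraMap B L π ^ (m + 1))⁻¹ := by
      have hz' : z = (algebraMap B L π ^ m)⁻¹ • ((algebraMap B L π)⁻¹ • c) • pb.basis ilast -
          ∑ i : Fin p, ((algebraMap B L π ^ m)⁻¹ * algebraMap B L (w i)) • ((1 : M) • pb.basis (Fin.cast hpbd.symm i)) := by
        simp only [z, P, mul_sub, Finset.mul_sum, PowerBasis.basis_eq_pow, hpbg, one_smul, Fin.val_cast]
        have hcM : algebraMap M Mi c / y = algebraMap M Mi c * y ^ (p - 1) * (algebraMap B Mi π)⁻¹ := by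
          have hyy : y * y ^ (p - 1) = algebraMap B Mi π := by rw [← pow_succ', Nat.sub_add_cancel hp.pos, hy]
          rw [div_eq_iff hy0, mul_assoc, mul_assoc, mul_left_comm _ (algebraMap B Mi π)⁻¹, mul_comm (y ^ (p - 1)) y,
            hyy, inv_mul_cancel₀ hπ0, mul_one]
        rw [hcM]
        congr 1
        · simp only [Algebra.smul_def, map_mul, map_inv₀, map_pow, ← IsScalarTower.algebraMap_apply]
          ring
        · rw [Finset.mul_sum]
          refine Finset.sum_congr rfl fun i _ => ?_
          simp only [Algebra.smul_def, map_mul, map_inv₀, map_pow, ← IsScalarTower.algebraMap_apply]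
          ring
      rw [hz', map_sub, map_sum, map_smul]
      have h1 : lam (((algebraMap B L π)⁻¹ • c) • pb.basis ilast) = (algebraMap B L π)⁻¹ := by
        show bc.coord _ ((pb.basis.coord ilast) (((algebraMap B L π)⁻¹ • c) • pb.basis ilast)) = _
        rw [map_smul, show pb.basis.coord ilast (pb.basis ilast) = 1 by
          rw [Module.Basis.coord_apply, Module.Basis.repr_self]; exact Finsupp.single_eq_same, smul_eq_mul, mul_one,
          map_smul, show c = bc ⟨1, hp.one_lt⟩ by simp [bc, coe_basisOfLinearIndependentOfCardEqFinrank],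
          Module.Basis.coord_apply, Module.Basis.repr_self, Finsupp.single_eq_same, smul_eq_mul, mul_one]
      rw [h1, Finset.sum_eq_zero, sub_zero, smul_eq_mul, ← mul_inv, ← pow_succ]
      intro i _
      rw [map_smul]
      have h2 : lam ((1 : M) • pb.basis (Fin.cast hpbd.symm i)) = 0 := by
        show bc.coord _ ((pb.basis.coord ilast) _) = 0
        rw [map_smul, show pb.basis.coord ilast (pb.basis (Fin.cast hpbd.symm i)) =
          Finsupp.single (Fin.cast hpbd.symm i) (1 : M) ilast by
            rw [Module.Basis.coord_apply, Module.Basis.repr_self]]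
        by_cases h : Fin.cast hpbd.symm i = ilast
        · rw [h, Finsupp.single_eq_same, smul_eq_mul, mul_one,
            show (1 : M) = bc ⟨0, hp.pos⟩ by simp [bc, coe_basisOfLinearIndependentOfCardEqFinrank],
            Module.Basis.coord_apply, Module.Basis.repr_self, Finsupp.single_eq_of_ne (by simp [Fin.ext_iff])]
        · rw [Finsupp.single_eq_of_ne (Ne.symm h), smul_zero, map_zero]
      rw [h2, smul_zero]
    have h3 := hm z hzint
    rw [hlam, show algebraMap B L π ^ m * (algebraMap B L π ^ (m + 1))⁻¹ = (algebraMap B L π)⁻¹ by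
      rw [pow_succ, mul_inv_rev, mul_left_comm, mul_inv_cancel₀ (pow_ne_zero _ hπL), mul_one]] at h3
    obtain ⟨a, ha⟩ := IsIntegrallyClosed.isIntegral_iff.1 h3
    refine hπ.not_isUnit (IsUnit.of_mul_eq_one a (IsFractionRing.injective B L ?_))
    rw [map_mul, ha, mul_inv_cancel₀ hπL, map_one]
  -- the maximum
  let Pn : ℕ → Prop := fun n => ∃ w, π ^ n ∣ (u : B) - S w
  have hPle : ∀ n, Pn n → n ≤ p * m := fun n ⟨w, hw⟩ => le_of_not_gt fun hlt => hbound w ((pow_dvd_pow π hlt.le).trans hw)
  set n := Nat.findGreatest Pn (p * m)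
  have hn : Pn n := Nat.findGreatest_spec (P := Pn) (Nat.zero_le _) ⟨0, by simp⟩
  have hmax : ¬ Pn (n + 1) := fun h => by
    have := Nat.le_findGreatest (hPle _ h) h
    omega
  obtain ⟨w, e, he⟩ := hn
  refine ⟨n, w, e, he, fun r hr => hmax ?_⟩
  have hd : π ∣ e - r ^ p := by
    rw [← Ideal.mem_span_singleton, ← hπ.maximalIdeal_eq, ← residue_eq_zero_iff, map_sub, map_pow, hr, sub_self]
  let i₀ : Fin p := ⟨n % p, Nat.mod_lt _ hp.pos⟩
  refine ⟨Function.update w i₀ (w i₀ + π ^ (n / p) * r), ?_⟩
  have hS : S (Function.update w i₀ (w i₀ + π ^ (n / p) * r)) = S w + π ^ n * r ^ p := by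
    simp only [S]
    rw [← Finset.add_sum_erase _ _ (Finset.mem_univ i₀), ← Finset.add_sum_erase _ _ (Finset.mem_univ i₀),
      Function.update_self, add_pow_char, mul_pow, ← pow_mul]
    rw [Finset.sum_congr rfl fun j hj => by rw [Function.update_of_ne (Finset.ne_of_mem_erase hj)]]
    have h3 : π ^ (i₀ : ℕ) * π ^ (n / p * p) = π ^ n := by rw [← pow_add, Nat.mod_add_div' n p]
    linear_combination r ^ p * h3
  obtain ⟨d, hd'⟩ := hd
  exact ⟨d, by rw [hS, pow_succ, ← sub_sub, he, ← mul_sub, hd', mul_assoc]⟩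

/-- The separable extension: relations. -/
theorem eis_relations {p : ℕ} (hp : p.Prime) {F K₁ : Type u} [Field F] [Field K₁] [Algebra F K₁]
    [FiniteDimensional F K₁] (r : K₁) (hdeg : Module.finrank F K₁ = p)
    (hli : LinearIndependent F fun i : Fin p => r ^ (i : ℕ)) (a c : F)
    (hr : r ^ p = algebraMap F K₁ a + algebraMap F K₁ c * r) {E : Type u} [CommRing E] [Algebra F E] (s : E)
    (hs : s ^ p = algebraMap F E a + algebraMap F E c * s) : ∀ f : F[X], aeval r f = 0 → aeval s f = 0 := by
  have hmin : minpoly F r = X ^ p - (C c * X + C a) := by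
    refine (minpoly.eq_of_irreducible_of_monic ?_ (by simp [hr, add_comm]) ?_).symm
    swap
    · exact monic_X_pow_sub (degree_linear_le.trans_lt (by exact_mod_cast hp.one_lt))
    have hd : (X ^ p - (C c * X + C a)).natDegree = p :=
      (natDegree_sub_eq_left_of_natDegree_lt (by
        rw [natDegree_X_pow]
        exact lt_of_le_of_lt natDegree_linear_le hp.one_lt)).trans (natDegree_X_pow p)
    have hge : p ≤ (minpoly F r).natDegree := by
      by_contra h
      push Not at h
      refine minpoly.ne_zero (IsIntegral.of_finite F r) (Polynomial.ext fun j => ?_)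
      rw [coeff_zero]
      by_cases hj : j < p
      · have h0 := minpoly.aeval F r
        rw [aeval_eq_sum_range' h] at h0
        rw [Finset.sum_range] at h0
        exact Fintype.linearIndependent_iff.1 hli (fun i => (minpoly F r).coeff i) h0 ⟨j, hj⟩
      · exact coeff_eq_zero_of_natDegree_lt (by omega)
    have hdvd : minpoly F r ∣ X ^ p - (C c * X + C a) := minpoly.dvd F r (by simp [hr, add_comm])
    have hm : (X ^ p - (C c * X + C a)).Monic :=
      monic_X_pow_sub (degree_linear_le.trans_lt (by exact_mod_cast hp.one_lt))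
    rw [Polynomial.eq_of_monic_of_dvd_of_natDegree_le (minpoly.monic (IsIntegral.of_finite F r)) hm hdvd (by omega)]
    exact minpoly.irreducible (IsIntegral.of_finite F r)
  intro f hf
  obtain ⟨q, rfl⟩ := minpoly.dvd F r hf
  rw [map_mul, hmin]
  simp [hs, add_comm]

end Groth.Agent.EtRamH7
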