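import Groth.Agent.Lib.EtRamH7.Trichotomy

/-!
# The trichotomy: the weak solutions
-/

universe u

open IsLocalRing Polynomial
open scoped TensorProduct

namespace Groth.Agent.EtRamH7

/-- A compositum generated by an element `r` of degree at most `p` has degree at most `p`. -/
theorem finite_compositum {p : ℕ} {K L K₁ M : Type u} [Field K] [Field L] [Field K₁] [Field M] [Algebra K L]
    [Algebra K K₁] [FiniteDimensional K K₁] [Algebra K M] [Algebra L M] [Algebra K₁ M] [IsScalarTower K L M]
    [IsScalarTower K K₁ M] (hgen : Algebra.adjoin L (Set.range (algebraMap K₁ M)) = ⊤)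
    (hdeg : Module.finrank K K₁ = p) : FiniteDimensional L M ∧ Module.finrank L M ≤ p := by
  let ev : L ⊗[K] K₁ →ₐ[L] M :=
    Algebra.TensorProduct.lift (Algebra.ofId L M) (IsScalarTower.toAlgHom K K₁ M) fun _ _ => .all _ _
  have hsurj : Function.Surjective ev := by
    intro y
    have hy : y ∈ Algebra.adjoin L (Set.range (algebraMap K₁ M)) := hgen ▸ Algebra.mem_top
    refine (Algebra.adjoin_le (S := ev.range) ?_) hy
    rintro _ ⟨x, rfl⟩
    exact ⟨(1 : L) ⊗ₜ x, by simp [ev]⟩
  refine ⟨Module.Finite.of_surjective ev.toLinearMap hsurj, ?_⟩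
  rw [← hdeg, ← Module.finrank_baseChange (R := L) (S := K) (M' := K₁)]
  exact LinearMap.finrank_le_finrank_of_surjective hsurj

variable {A B C K L M : Type u}
    [CommRing A] [IsDomain A] [IsDiscreteValuationRing A] [CommRing B] [IsDomain B] [IsDiscreteValuationRing B]
    [CommRing C] [IsDomain C] [IsDiscreteValuationRing C]
    [Algebra A B] [Algebra B C] [Algebra A C] [IsScalarTower A B C]
    [IsLocalHom (algebraMap A B)] [IsLocalHom (algebraMap B C)]
    [Field K] [Field L] [Field M] [Algebra A K] [IsFractionRing A K] [Algebra B L] [IsFractionRing B L]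
    [Algebra C M] [IsFractionRing C M] [Algebra K L] [Algebra L M] [Algebra K M] [IsScalarTower K L M]
    [Algebra A L] [IsScalarTower A K L] [IsScalarTower A B L] [Algebra B M] [IsScalarTower B L M] [IsScalarTower B C M]
    [Algebra A M] [IsScalarTower A K M] [IsScalarTower A C M] [FiniteDimensional L M]
    {p : ℕ} (π : A) (hπB : Irreducible (algebraMap A B π))
    {K₁ : Type u} [Field K₁] [Algebra K K₁] [FiniteDimensional K K₁] (hdeg : Module.finrank K K₁ = p)
    (Q : ℕ) (r : K₁) (hr : r ^ p = algebraMap K K₁ (algebraMap A K π) *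
      (1 + algebraMap K K₁ (algebraMap A K π) ^ Q * r))

include hπB hdeg hr in
omit [IsDiscreteValuationRing A] [IsDomain A] [IsFractionRing A K] [IsLocalHom (algebraMap A B)] in
theorem weakSolution_base (hp : 2 ≤ p) (hQ : 1 ≤ Q) : EtRam.IsWeakSolution B K L K₁ := by
  intro M' _ _ _ _ _ _ hgen W hW
  obtain ⟨hfd, hdim⟩ := finite_compositum hgen hdeg
  haveI := hfd
  letI : Algebra B M' := ((algebraMap L M').comp (algebraMap B L)).toAlgebra
  haveI : IsScalarTower B L M' := IsScalarTower.of_algebraMap_eq fun _ => rfl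
  have hπM : algebraMap K M' (algebraMap A K π) = algebraMap B M' (algebraMap A B π) := by
    rw [IsScalarTower.algebraMap_apply B L M', ← IsScalarTower.algebraMap_apply A B L, IsScalarTower.algebraMap_apply A K L,
      ← IsScalarTower.algebraMap_apply K L M']
  have hx : algebraMap K₁ M' r ^ p = algebraMap B M' (algebraMap A B π) *
      (1 + algebraMap B M' (algebraMap A B π ^ Q) * algebraMap K₁ M' r) := by
    rw [← map_pow, hr, map_mul, map_add, map_one, map_mul, map_pow, map_pow (algebraMap B M'),
      ← IsScalarTower.algebraMap_apply K K₁ M', hπM]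
  obtain ⟨-, -, hmax⟩ := eis_facts B L M' hp _ hπB _ (dvd_pow_self _ (by omega)) _ hx hdim
  obtain ⟨hxW, hW'⟩ := hmax W hW
  let V := W.comap (algebraMap K₁ M')
  letI : Algebra V W := (EtRam.inclOfComap W (algebraMap K₁ M')).toAlgebra
  haveI : IsLocalHom (algebraMap V W) := EtRam.isLocalHom_inclOfComap W _
  show Ideal.map (algebraMap V W) (maximalIdeal V) = maximalIdeal W
  refine le_antisymm (((local_hom_TFAE (algebraMap V W)).out 0 2).1 ‹_›) ?_
  rw [hW', Ideal.span_singleton_le_iff_mem]
  refine Ideal.mem_map_of_mem (algebraMap V W) (x := (⟨r, hxW⟩ : V)) fun hu => ?_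
  exact (mem_maximalIdeal (R := W) _).1 (hW' ▸ Ideal.mem_span_singleton_self _) (hu.map (algebraMap V W))

include hπB hdeg hr in
omit [IsDiscreteValuationRing A] [IsDomain A] [IsFractionRing A K] [IsLocalHom (algebraMap A B)] in
theorem weakSolution_step (hp : p.Prime) [CharP L p] (u : Bˣ) (c : M) (hc : c ^ p = algebraMap B M (algebraMap A B π * u))
    (hdM : Module.finrank L M = p) (hcL : c ∉ (algebraMap L M).range)
    (n : ℕ) (w : Fin p → B) (e : B) (he : (u : B) - ∑ i : Fin p, algebraMap A B π ^ (i : ℕ) * w i ^ p = algebraMap A B π ^ n * e)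
    (hne : ∀ r : B, residue B e ≠ residue B r ^ p) (hQ : n + 1 ≤ Q) : EtRam.IsWeakSolution C K M K₁ := by
  classical
  haveI : Fact p.Prime := ⟨hp⟩
  intro M' _ _ _ _ _ _ hgen W hW
  obtain ⟨hfdM, hdimM⟩ := finite_compositum hgen hdeg
  haveI := hfdM
  letI : Algebra L M' := ((algebraMap M M').comp (algebraMap L M)).toAlgebra
  haveI : IsScalarTower L M M' := IsScalarTower.of_algebraMap_eq fun _ => rfl
  haveI : IsScalarTower K L M' := IsScalarTower.of_algebraMap_eq fun k => by
    show algebraMap K M' k = algebraMap M M' (algebraMap L M (algebraMap K L k))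
    rw [← IsScalarTower.algebraMap_apply K L M, ← IsScalarTower.algebraMap_apply K M M']
  haveI : FiniteDimensional L M' := FiniteDimensional.trans L M M'
  letI : Algebra B M' := ((algebraMap L M').comp (algebraMap B L)).toAlgebra
  haveI : IsScalarTower B L M' := IsScalarTower.of_algebraMap_eq fun _ => rfl
  haveI : IsScalarTower B M M' := IsScalarTower.of_algebraMap_eq fun b => by
    show algebraMap M M' (algebraMap L M (algebraMap B L b)) = algebraMap M M' (algebraMap B M b)
    rw [← IsScalarTower.algebraMap_apply B L M]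
  haveI : CharP M' p := charP_of_injective_algebraMap (algebraMap L M').injective p
  haveI : ExpChar M' p := ExpChar.prime hp
  set πB := algebraMap A B π with hπBdef
  have hπM : algebraMap K M' (algebraMap A K π) = algebraMap B M' πB := by
    rw [IsScalarTower.algebraMap_apply B L M', hπBdef, ← IsScalarTower.algebraMap_apply A B L, IsScalarTower.algebraMap_apply A K L,
      ← IsScalarTower.algebraMap_apply K L M']
  set x : M' := algebraMap K₁ M' r with hxdef
  have hx : x ^ p = algebraMap B M' πB * (1 + algebraMap B M' (πB ^ Q) * x) := by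
    rw [hxdef, ← map_pow, hr, map_mul, map_add, map_one, map_mul, map_pow, map_pow (algebraMap B M'),
      ← IsScalarTower.algebraMap_apply K K₁ M', hπM]
  -- `L₁ = L(r)`
  let L₁ := IntermediateField.adjoin L ({x} : Set M')
  haveI : IsScalarTower B L₁ M' := IsScalarTower.of_algebraMap_eq fun _ => rfl
  let x₁ : L₁ := ⟨x, IntermediateField.mem_adjoin_simple_self L x⟩
  have hx₁ : x₁ ^ p = algebraMap B L₁ πB * (1 + algebraMap B L₁ (πB ^ Q) * x₁) := Subtype.ext hx
  have hdim₁ : Module.finrank L L₁ ≤ p := by
    rw [IntermediateField.adjoin.finrank (IsIntegral.of_finite L x)]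
    have hpoly : aeval x (X ^ p - (Polynomial.C (algebraMap B L (πB * πB ^ Q)) * X + Polynomial.C (algebraMap B L πB))) = 0 := by
      simp only [map_sub, map_add, map_mul, map_pow, aeval_X, aeval_C, hx, ← IsScalarTower.algebraMap_apply]
      ring
    refine (natDegree_le_natDegree (minpoly.min L x (monic_X_pow_sub (degree_linear_le.trans_lt
      (by exact_mod_cast hp.one_lt))) hpoly)).trans ?_
    exact (natDegree_sub_le _ _).trans (max_le (natDegree_X_pow p).le (natDegree_linear_le.trans hp.one_lt.le))
  obtain ⟨-, htot₁, hmax₁⟩ := eis_facts B L L₁ hp.two_le _ hπB _ (dvd_pow_self _ (by omega)) x₁ hx₁ hdim₁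
  let V₁ := W.comap (algebraMap L₁ M')
  have hWB : EtRam.Dominates B (algebraMap B M') W := by
    refine ⟨fun b => ?_, fun b hb => ?_⟩
    · rw [IsScalarTower.algebraMap_apply B M M', IsScalarTower.algebraMap_apply B C M]; exact hW.1 _
    · rw [IsScalarTower.algebraMap_apply B M M', IsScalarTower.algebraMap_apply B C M]
      exact hW.2 _ ((mem_maximalIdeal _).2 fun hu => (mem_maximalIdeal _).1 hb (isUnit_of_map_unit (algebraMap B C) b hu))
  have hV₁ : EtRam.Dominates B (algebraMap B L₁) V₁ :=
    dominates_comap (algebraMap L₁ M') (IsScalarTower.algebraMap_eq B L₁ M' ▸ hWB)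
  haveI := dvr_of_dominates B L L₁ (algebraMap B L₁) (IsScalarTower.algebraMap_eq B L L₁) V₁ hV₁
  obtain ⟨hx₁V, hV₁max⟩ := hmax₁ V₁ hV₁
  have hsurj := htot₁.2.2 V₁ hV₁
  letI : Algebra B V₁ := (RingHom.codRestrict (algebraMap B L₁) V₁ hV₁.1).toAlgebra
  haveI : IsLocalHom (algebraMap B V₁) := isLocalHom_cod hV₁
  letI : Algebra V₁ M' := ((algebraMap L₁ M').comp V₁.subtype).toAlgebra
  haveI : IsScalarTower V₁ L₁ M' := IsScalarTower.of_algebraMap_eq fun _ => rfl
  set c' : M' := algebraMap M M' c with hc'
  have hc'p : c' ^ p = algebraMap B M' (πB * u) := by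
    rw [hc', ← map_pow, hc, ← IsScalarTower.algebraMap_apply B M M']
  -- degree over `L₁`
  have hgen₁ : IntermediateField.adjoin L₁ ({c'} : Set M') = ⊤ := by
    rw [eq_top_iff]
    intro y _
    let T := IntermediateField.adjoin L₁ ({c'} : Set M')
    have hM : ∀ m : M, algebraMap M M' m ∈ T := by
      intro m
      have hc1 : IntermediateField.adjoin L ({c} : Set M) = ⊤ := by
        have hint : IsIntegral L c := IsIntegral.of_finite L c
        refine IntermediateField.eq_of_le_of_finrank_le le_top ?_
        rw [IntermediateField.finrank_top', hdM, IntermediateField.adjoin.finrank hint]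
        have hdvd : (minpoly L c).natDegree ∣ p := by
          rw [← IntermediateField.adjoin.finrank hint, ← hdM]
          exact ⟨_, (Module.finrank_mul_finrank L (IntermediateField.adjoin L {c}) M).symm⟩
        rcases (Nat.dvd_prime hp).1 hdvd with h | h
        · exact absurd (minpoly.natDegree_eq_one_iff.1 h) hcL
        · exact h.ge
      have hm : m ∈ IntermediateField.adjoin L ({c} : Set M) := hc1 ▸ IntermediateField.mem_top
      induction hm using IntermediateField.adjoin_induction with
      | mem z hz => rw [Set.mem_singleton_iff.1 hz]; exact IntermediateField.mem_adjoin_simple_self _ c'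
      | algebraMap l =>
        rw [← IsScalarTower.algebraMap_apply L M M', IsScalarTower.algebraMap_apply L L₁ M']
        exact T.algebraMap_mem _
      | add _ _ _ _ ha hb => rw [map_add]; exact T.add_mem ha hb
      | inv _ _ ha => rw [map_inv₀]; exact T.inv_mem ha
      | mul _ _ _ _ ha hb => rw [map_mul]; exact T.mul_mem ha hb
    have hr₁ : ∀ z : K₁, algebraMap K₁ M' z ∈ T := by
      intro z
      have hrgen : IntermediateField.adjoin K ({r} : Set K₁) = ⊤ := by
        have hint : IsIntegral K r := IsIntegral.of_finite K r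
        have hdvd : (minpoly K r).natDegree ∣ p := by
          rw [← IntermediateField.adjoin.finrank hint, ← hdeg]
          exact ⟨_, (Module.finrank_mul_finrank K (IntermediateField.adjoin K {r}) K₁).symm⟩
        refine IntermediateField.eq_of_le_of_finrank_le le_top ?_
        rw [IntermediateField.finrank_top', hdeg, IntermediateField.adjoin.finrank hint]
        rcases (Nat.dvd_prime hp).1 hdvd with h | h
        · exfalso
          obtain ⟨s, hs⟩ := minpoly.natDegree_eq_one_iff.1 h
          have hs' : (algebraMap B L πB) * (1 + algebraMap B L (πB ^ Q) * algebraMap K L s) = algebraMap K L s ^ p := by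
            have h1 := congrArg (algebraMap K₁ M') hr
            rw [← hs, ← map_pow, ← map_pow, ← map_one (algebraMap K K₁), ← map_mul, ← map_add, ← map_mul,
              ← IsScalarTower.algebraMap_apply, ← IsScalarTower.algebraMap_apply] at h1
            have h2 := (algebraMap K M').injective h1
            have h3 := congrArg (algebraMap K L) h2
            simp only [map_mul, map_add, map_one, map_pow, ← IsScalarTower.algebraMap_apply A K L,
              IsScalarTower.algebraMap_apply A B L] at h3
            rw [h3, map_pow, hπBdef]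
          refine no_root_eis hp.two_le πB hπB (πB * πB ^ Q) (dvd_mul_right _ _) (algebraMap K L s) ?_
          rw [map_mul]
          linear_combination -hs'
        · exact h.ge
      have hz : z ∈ IntermediateField.adjoin K ({r} : Set K₁) := hrgen ▸ IntermediateField.mem_top
      induction hz using IntermediateField.adjoin_induction with
      | mem y hy =>
        rw [Set.mem_singleton_iff.1 hy]
        exact T.algebraMap_mem x₁
      | algebraMap k =>
        rw [← IsScalarTower.algebraMap_apply K K₁ M', IsScalarTower.algebraMap_apply K L M',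
          IsScalarTower.algebraMap_apply L L₁ M']
        exact T.algebraMap_mem _
      | add _ _ _ _ ha hb => rw [map_add]; exact T.add_mem ha hb
      | inv _ _ ha => rw [map_inv₀]; exact T.inv_mem ha
      | mul _ _ _ _ ha hb => rw [map_mul]; exact T.mul_mem ha hb
    have hy : y ∈ Algebra.adjoin M (Set.range (algebraMap K₁ M')) := hgen ▸ Algebra.mem_top
    induction hy using Algebra.adjoin_induction with
    | mem z hz => obtain ⟨z, rfl⟩ := hz; exact hr₁ z
    | algebraMap m => exact hM m
    | add _ _ _ _ ha hb => exact T.add_mem (ha trivial) (hb trivial)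
    | mul _ _ _ _ ha hb => exact T.mul_mem (ha trivial) (hb trivial)
  obtain ⟨hfd₂, hdim₂, -⟩ := generator_facts L₁ M' (z := c') hgen₁
    (monic_X_pow_sub_C (algebraMap B L₁ (πB * u)) hp.ne_zero) (by
      rw [map_sub, map_pow, aeval_X, aeval_C, hc'p, ← IsScalarTower.algebraMap_apply, sub_self])
  haveI := hfd₂
  rw [natDegree_X_pow_sub_C] at hdim₂
  have hchar : CharP (ResidueField V₁) p := by
    haveI : CharP L₁ p := charP_of_injective_algebraMap (algebraMap L L₁).injective p
    haveI : CharP V₁ p := (RingHom.charP_iff V₁.subtype Subtype.val_injective p).2 inferInstance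
    exact (CharP.charP_iff_prime_eq_zero hp).2 (by rw [← map_natCast (residue V₁), CharP.cast_eq_zero, map_zero])
  -- the element with inseparable residue
  have hπ0 : algebraMap B M' πB ≠ 0 := by
    rw [IsScalarTower.algebraMap_apply B L M']
    exact (_root_.map_ne_zero _).2 fun h => hπB.ne_zero (IsFractionRing.injective B L (by rw [h, map_zero]))
  have hx0 : x ≠ 0 := fun h => hπ0 (by
    rw [h, zero_pow hp.ne_zero, mul_zero, add_zero, mul_one] at hx
    exact hx.symm)
  set q : M' := (c' / x - ∑ i : Fin p, algebraMap B M' (w i) * x ^ (i : ℕ)) / x ^ n with hqdef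
  have hq : ∀ V : ValuationSubring M', EtRam.Dominates V₁ (algebraMap V₁ M') V →
      ∃ (hxV : q ∈ V) (haV : algebraMap V₁ M' (algebraMap B V₁ e) ∈ V),
        residue V ⟨q, hxV⟩ ^ p = residue V ⟨algebraMap V₁ M' (algebraMap B V₁ e), haV⟩ := by
    intro V hV
    have hVB : ∀ b : B, algebraMap B M' b ∈ V := fun b => by
      rw [IsScalarTower.algebraMap_apply B L₁ M']; exact hV.1 (algebraMap B V₁ b)
    let β : B →+* V := RingHom.codRestrict (algebraMap B M') V hVB
    have hxV : x ∈ V := hV.1 (⟨x₁, hx₁V⟩ : V₁)
    let X' : V := ⟨x, hxV⟩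
    have hXm : X' ∈ maximalIdeal V :=
      (V.valuation_lt_one_iff _).2 (hV.2 _ (by rw [hV₁max]; exact Ideal.mem_span_singleton_self _))
    have hπm : β πB ∈ maximalIdeal V := by
      refine (V.valuation_lt_one_iff _).2 ?_
      show V.valuation (algebraMap B M' πB) < 1
      rw [IsScalarTower.algebraMap_apply B L₁ M']
      exact hV.2 (algebraMap B V₁ πB) ((mem_maximalIdeal _).2 fun hu => hπB.not_isUnit (isUnit_of_map_unit _ _ hu))
    let w0 : V := 1 + β (πB ^ Q) * X'
    have hw0r : residue V w0 = 1 := by
      rw [map_add, map_one, map_mul, (residue_eq_zero_iff _).2 hXm, mul_zero, add_zero]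
    have hw0u : IsUnit w0 := IsLocalRing.notMem_maximalIdeal.1 fun h => by
      rw [(residue_eq_zero_iff _).2 h] at hw0r; exact zero_ne_one hw0r
    obtain ⟨v0, hv0⟩ := hw0u.exists_right_inv
    have hXp : X' ^ p = β πB * w0 := Subtype.ext hx
    -- the numerator
    obtain ⟨t, ht⟩ : β (πB ^ Q) ∣ β u * v0 - (∑ i : Fin p, β (w i) ^ p * (β πB * w0) ^ (i : ℕ)) - β πB ^ n * β e := by
      have h1 : β (πB ^ Q) ∣ w0 - 1 := ⟨X', by rw [add_sub_cancel_left]⟩
      have h2 : β u * v0 - β u = β u * v0 * (1 - w0) := by linear_combination (β u) * hv0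
      have h3 : β u - (∑ i : Fin p, β (w i) ^ p * β πB ^ (i : ℕ)) = β πB ^ n * β e := by
        have := congrArg β he
        simp only [map_sub, map_sum, map_mul, map_pow] at this
        rw [← this]
        congr 1
        exact Finset.sum_congr rfl fun i _ => mul_comm _ _
      have h4 : (∑ i : Fin p, β (w i) ^ p * (β πB * w0) ^ (i : ℕ)) - (∑ i : Fin p, β (w i) ^ p * β πB ^ (i : ℕ)) =
          ∑ i : Fin p, β (w i) ^ p * β πB ^ (i : ℕ) * (w0 ^ (i : ℕ) - 1) := by
        rw [← Finset.sum_sub_distrib]
        exact Finset.sum_congr rfl fun i _ => by rw [mul_pow]; ring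
      have h5 : β u * v0 - (∑ i : Fin p, β (w i) ^ p * (β πB * w0) ^ (i : ℕ)) - β πB ^ n * β e =
          β u * v0 * (1 - w0) - ∑ i : Fin p, β (w i) ^ p * β πB ^ (i : ℕ) * (w0 ^ (i : ℕ) - 1) := by
        rw [← h4, ← h3, ← h2]; ring
      rw [h5]
      refine dvd_sub ((dvd_sub_comm.1 h1).mul_left _) (Finset.dvd_sum fun i _ => Dvd.dvd.mul_left ?_ _)
      exact h1.trans (sub_one_dvd_pow_sub_one w0 (i : ℕ))
    obtain ⟨d, hd⟩ := Nat.exists_eq_add_of_le hQ
    have hqp : q ^ p = ((v0 : V) : M') ^ n * (algebraMap B M' e + algebraMap B M' πB * (algebraMap B M' (πB ^ d) * t.1)) := by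
      have hsum : (∑ i : Fin p, algebraMap B M' (w i) * x ^ (i : ℕ)) ^ p =
          ((∑ i : Fin p, β (w i) ^ p * (β πB * w0) ^ (i : ℕ) : V) : M') := by
        rw [sum_pow_char p]
        push_cast
        refine Finset.sum_congr rfl fun i _ => ?_
        rw [mul_pow, ← pow_mul, mul_comm (i : ℕ) p, pow_mul, hx]
        rfl
      have hcx : (c' / x) ^ p = ((β u * v0 : V) : M') := by
        have hw0v : (1 + algebraMap B M' (πB ^ Q) * x) * (v0 : M') = 1 := congrArg Subtype.val hv0
        rw [div_pow, hc'p, map_mul, div_eq_iff (pow_ne_zero _ hx0), hx]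
        show _ = algebraMap B M' (u : B) * (v0 : M') * _
        linear_combination (-(algebraMap B M' πB * algebraMap B M' (u : B))) * hw0v
      have hnum := congrArg Subtype.val (eq_add_of_sub_eq ht)
      rw [hqdef, div_pow, sub_pow_char, hcx, hsum, div_eq_iff (pow_ne_zero _ (pow_ne_zero _ hx0)), ← pow_mul, mul_comm n p,
        pow_mul, hx]
      have hw0v : (1 + algebraMap B M' (πB ^ Q) * x) * (v0 : M') = 1 := congrArg Subtype.val hv0
      calc _ = algebraMap B M' (πB ^ Q) * t.1 + algebraMap B M' πB ^ n * algebraMap B M' e := hnum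
        _ = _ := by
          rw [mul_pow, show ∀ a b e' f : M', a * e' * (f * b) = (b * a) * (f * e') from fun a b e' f => by ring,
            ← mul_pow, hw0v, one_pow, one_mul, hd]
          simp only [map_pow, map_mul, pow_add, pow_one]
          ring
    have hmem : q ^ p ∈ V := by
      rw [hqp]
      exact mul_mem (pow_mem v0.2 _) (add_mem (hVB e) (mul_mem (hVB _) (mul_mem (hVB _) t.2)))
    have hqV : q ∈ V := by
      rcases V.mem_or_inv_mem q with h | h
      · exact h
      rcases eq_or_ne q 0 with h0 | h0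
      · rw [h0]; exact V.zero_mem
      have : q = q ^ p * q⁻¹ ^ (p - 1) := by
        rw [inv_pow, ← div_eq_mul_inv, eq_div_iff (pow_ne_zero _ h0), ← pow_succ', Nat.sub_add_cancel hp.pos]
      rw [this]
      exact mul_mem hmem (pow_mem h _)
    refine ⟨hqV, hV.1 _, ?_⟩
    have h6 : (⟨q, hqV⟩ : V) ^ p = v0 ^ n * (β e + β πB * (β (πB ^ d) * t)) := Subtype.ext hqp
    have hv0r : residue V v0 = 1 := by
      have := congrArg (residue V) hv0
      rwa [map_mul, hw0r, one_mul, map_one] at this
    rw [← map_pow, h6, map_mul, map_pow, hv0r, one_pow, one_mul, map_add, map_mul, (residue_eq_zero_iff _).2 hπm, zero_mul,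
      add_zero]
    congr 1
  obtain ⟨π₁, hπ₁⟩ := IsDiscreteValuationRing.exists_irreducible V₁
  have ha : ∀ b : V₁, residue V₁ (algebraMap B V₁ e) ≠ residue V₁ b ^ p := by
    intro b hb
    obtain ⟨b', hb'⟩ := hsurj (residue V₁ b)
    have hb'' : residue V₁ b = residue V₁ (algebraMap B V₁ b') := hb'.symm
    rw [hb'', ← map_pow, ← map_pow, ← sub_eq_zero, ← map_sub, ← map_sub, residue_eq_zero_iff] at hb
    have : residue B (e - b' ^ p) = 0 := (residue_eq_zero_iff _).2 ((mem_maximalIdeal _).2 fun hu =>
      (mem_maximalIdeal _).1 hb (hu.map (algebraMap B V₁)))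
    rw [map_sub, map_pow, sub_eq_zero] at this
    exact hne b' this
  obtain ⟨-, -, -, hins⟩ := insep_of_pow V₁ L₁ M' q hp hchar π₁ hπ₁ hdim₂ (algebraMap B V₁ e) ha hq
  have hdomW : EtRam.Dominates V₁ (algebraMap V₁ M') W := dominates_self_comap (algebraMap L₁ M') W
  obtain ⟨hweak, -⟩ := @hins W hdomW (isLocalHom_cod hdomW)
  let V := W.comap (algebraMap K₁ M')
  letI : Algebra V W := (EtRam.inclOfComap W (algebraMap K₁ M')).toAlgebra
  haveI : IsLocalHom (algebraMap V W) := EtRam.isLocalHom_inclOfComap W _
  show Ideal.map (algebraMap V W) (maximalIdeal V) = maximalIdeal W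
  refine le_antisymm (((local_hom_TFAE (algebraMap V W)).out 0 2).1 ‹_›) ?_
  have hWmax : maximalIdeal W = Ideal.span {(⟨x, hx₁V⟩ : W)} := by
    refine hweak.symm.trans ((congrArg (Ideal.map _) hV₁max).trans ?_)
    rw [Ideal.map_span, Set.image_singleton]
    rfl
  rw [hWmax, Ideal.span_singleton_le_iff_mem]
  refine Ideal.mem_map_of_mem (algebraMap V W) (x := (⟨r, hx₁V⟩ : V)) fun hu => ?_
  exact (mem_maximalIdeal (R := W) _).1 (hWmax ▸ Ideal.mem_span_singleton_self _) (hu.map (algebraMap V W))

end Groth.Agent.EtRamH7
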